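import Groth.Agent.HenLineLib.KeyHolds

/-!
# Acyclicity of the henselized line
-/

universe u

namespace Groth.Agent.SmoothBCLib

theorem henLineKey : HenLineKey.{u} := HenLineLib.henLineKey

end Groth.Agent.SmoothBCLib
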