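import Groth.Agent.SmoothBCLib.LocAcyclicGen

/-!
# Local acyclicity of smooth morphisms and of field extensions
-/

set_option autoImplicit false
set_option linter.style.haveILetI false
set_option backward.isDefEq.respectTransparency false
set_option backward.isDefEq.respectTransparency.types false
set_option maxHeartbeats 1000000

universe u

open CategoryTheory CategoryTheory.Limits AlgebraicGeometry Opposite IsLocalRing
open scoped TensorProduct

noncomputable section

namespace Groth.Agent.SmoothBCLib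

attribute [local instance] Groth.Agent.S0101.result

/-- Smooth morphisms have ind-smooth strict localizations. -/
theorem indSmoothLoc_of_smooth {X Y : Scheme.{u}} (g : X ⟶ Y) [Smooth g] : IndSmoothLoc g := by
  intro s R _ _ hR₁ hR₂ hR₃
  obtain ⟨V, hV, hsV, -⟩ := exists_isAffineOpen_mem_and_subset (x := g s) (U := ⊤) trivial
  obtain ⟨U, hU, hsU, hle⟩ := exists_isAffineOpen_mem_and_subset (x := s) (U := g ⁻¹ᵁ V) hsV
  have hle' : U ≤ g ⁻¹ᵁ V := hle
  refine ⟨V, hV, hsV, ?_⟩
  have e : Y.presheaf.germ V (g s) hsV ≫ g.stalkMap s = g.appLE V U hle' ≫ X.presheaf.germ U s hsU := by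
    rw [Scheme.Hom.germ_stalkMap, Scheme.Hom.appLE, Category.assoc, TopCat.Presheaf.germ_res]
  rw [← Category.assoc, e, Category.assoc]
  refine MorphismProperty.comp_mem _ _ _ (MorphismProperty.le_ind _ _ ?_)
    (@indSmooth_germ_sh _ _ hU s hsU R _ _ hR₁ hR₂ hR₃)
  exact HasRingHomProperty.appLE (P := @Smooth) g inferInstance ⟨V, hV⟩ ⟨U, hU⟩ hle'

variable (hkey : HenLineKey.{u})

include hkey

theorem smooth_isLocAcyclic {X Y : Scheme.{u}} (g : X ⟶ Y) [Smooth g] :
    EtAcyc.IsLocAcyclic g (EtAcyc.primesInvertibleOn X) :=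
  fun n => (indSmoothLoc_of_smooth g).isLocAcyclicN hkey subset_rfl n

/-- Field extensions are universally locally acyclic. -/
theorem fieldExt_isULocAcyclic {k K : Type u} [Field k] [Field K] (φ : k →+* K) :
    EtAcyc.IsULocAcyclic (Spec.map (CommRingCat.ofHom φ)) (EtAcyc.primesInvertibleOn (Spec (CommRingCat.of k))) := by
  intro n X₁ Y₁ g b' b hsq x RY RX _ _ _ _ _ _ _ _ _ _ _ _ hψ
  haveI := Hensel.IsStrictHenselization.henselian (R := Y₁.presheaf.stalk (g.base x)) (S := RY)
  haveI := Hensel.IsStrictHenselization.henselian (R := X₁.presheaf.stalk x) (S := RX)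
  haveI : IsSepClosed (ResidueField RY) :=
    (Hensel.IsStrictHenselization.isSepClosure (R := Y₁.presheaf.stalk (g.base x)) (S := RY)).sep_closed
  haveI : IsSepClosed (ResidueField RX) :=
    (Hensel.IsStrictHenselization.isSepClosure (R := X₁.presheaf.stalk x) (S := RX)).sep_closed
  let a := Hens2.specOf Y₁ (g.base x) RY
  have sq : IsPullback (pullback.snd g a) (pullback.fst g a ≫ b') (a ≫ b) (Spec.map (CommRingCat.ofHom φ)) :=
    (IsPullback.of_hasPullback g a).flip.paste_vert hsq.flip
  refine isAcyclicN_of_bcInv ?_ n (compN_local _ _ n)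
  exact bcInv_strictLoc_of_bcInv g hkey x RY RX hψ (primesInvertibleOn_le (a ≫ b))
    (bcInv_fieldExt hkey φ (a ≫ b) _ _ sq)

/-- Extensions of separably closed fields are universally acyclic. -/
theorem fieldExt_isUAcyclicN {k K : Type u} [Field k] [IsSepClosed k] [Field K] [IsSepClosed K] (φ : k →+* K) (n : ℕ) :
    EtAcyc.IsUAcyclicN (Spec.map (CommRingCat.ofHom φ)) (EtAcyc.primesInvertibleOn (Spec (CommRingCat.of k))) n := by
  intro X₁ Y₁ g b' b hsq V
  exact compN_of_bcInv
    (bcInv_fieldExt hkey φ (𝟙 _) (Spec.map (CommRingCat.ofHom φ)) (𝟙 _) (IsPullback.of_vert_isIso ⟨by simp⟩))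
    n (compN_sepClosed_point _ _ n) (V.hom ≫ b) (pullback.snd V.hom g ≫ b') _
    ((IsPullback.of_hasPullback V.hom g).paste_vert hsq.flip)

omit hkey

end Groth.Agent.SmoothBCLib
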