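import Groth.Agent.SmoothBCLib.LocAcyclic
import Groth.Agent.ProEtSLib.GeomLift
import Groth.Agent.WLocalLib.WeakEtaleScheme

/-!
# Local acyclicity of morphisms with universal base change after strict localization of the base
-/

set_option autoImplicit false
set_option linter.style.haveILetI false
set_option backward.isDefEq.respectTransparency false
set_option backward.isDefEq.respectTransparency.types false
set_option maxHeartbeats 2000000
set_option synthInstance.maxHeartbeats 400000

universe u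

open CategoryTheory CategoryTheory.Limits AlgebraicGeometry Opposite IsLocalRing

noncomputable section

namespace Groth.Agent.SmoothBCLib

attribute [local instance] Groth.Agent.S0101.result

/-- From an affine open to a strict localization at one of its points. -/
theorem indSmooth_germ_sh {X : Scheme.{u}} {U : X.Opens} (hU : IsAffineOpen U) (s : X) (hs : s ∈ U) (R : Type u)
    [CommRing R] [IsLocalRing R] [hR₁ : Algebra (X.presheaf.stalk s) R] [hR₂ : IsLocalHom (algebraMap (X.presheaf.stalk s) R)]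
    [hR₃ : Hensel.IsStrictHenselization (X.presheaf.stalk s) R] :
    MorphismProperty.ind.{u} smoothProp.{u}
      (X.presheaf.germ U s hs ≫ CommRingCat.ofHom (algebraMap (X.presheaf.stalk s) R)) := by
  refine MorphismProperty.comp_mem _ _ _ ?_
    (indSmooth_of_indEtale ((@ProEtLib2.isIndEtale_iff (X.presheaf.stalk s) R _ _ hR₁).1 (@S12237.result (X.presheaf.stalk s) _ _ R _ _ hR₁ hR₂ hR₃)))
  letI := (X.presheaf.algebra_section_stalk (U := U) ⟨s, hs⟩)
  haveI := hU.isLocalization_stalk ⟨s, hs⟩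
  exact indSmooth_localization (hU.primeIdealOf ⟨s, hs⟩).asIdeal.primeCompl (X.presheaf.stalk s)

/-- The morphism from a strict localization is ind-smooth. -/
theorem indSmoothLoc_specOf (X : Scheme.{u}) (x : X) (R₀ : Type u) [CommRing R₀] [IsLocalRing R₀]
    [Algebra (X.presheaf.stalk x) R₀] [IsLocalHom (algebraMap (X.presheaf.stalk x) R₀)]
    [Hensel.IsStrictHenselization (X.presheaf.stalk x) R₀] : IndSmoothLoc (Hens2.specOf X x R₀) := by
  intro s R _ _ hR₁ hR₂ hR₃
  obtain ⟨U, hU, hxU, -⟩ := exists_isAffineOpen_mem_and_subset (x := x) (U := ⊤) trivial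
  let f := Hens2.specOf X x R₀
  let φ := X.presheaf.germ U x hxU ≫ CommRingCat.ofHom (algebraMap (X.presheaf.stalk x) R₀)
  have hf : Spec.map φ ≫ hU.fromSpec = f := by
    rw [Spec.map_comp, Category.assoc]
    exact congrArg (Spec.map (CommRingCat.ofHom (algebraMap (X.presheaf.stalk x) R₀)) ≫ ·)
      (hU.fromSpecStalk_eq_fromSpecStalk hxU)
  have hle : ⊤ ≤ f ⁻¹ᵁ U := fun t _ => by
    show f t ∈ U
    rw [← hf, Scheme.Hom.comp_apply]
    have := hU.range_fromSpec ▸ Set.mem_range_self (Spec.map φ t)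
    exact this
  have hs : f s ∈ U := hle (show s ∈ (⊤ : (Spec (CommRingCat.of R₀)).Opens) from trivial)
  refine ⟨U, hU, hs, ?_⟩
  have htop := isAffineOpen_top (Spec (CommRingCat.of R₀))
  have he : f.appLE U ⊤ hle = φ ≫ (Scheme.ΓSpecIso (CommRingCat.of R₀)).inv := by
    apply Spec.map_injective
    rw [← cancel_mono hU.fromSpec, hU.SpecMap_appLE_fromSpec f htop, Spec.map_comp, Category.assoc, hf,
      IsAffineOpen.fromSpec_top, Scheme.isoSpec_Spec_inv]
  have e : X.presheaf.germ U (f s) hs ≫ f.stalkMap s ≫ CommRingCat.ofHom (@algebraMap ((Spec (CommRingCat.of R₀)).presheaf.stalk s) R _ _ hR₁) =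
      φ ≫ (Scheme.ΓSpecIso (CommRingCat.of R₀)).inv ≫ ((Spec (CommRingCat.of R₀)).presheaf.germ ⊤ s trivial ≫
        CommRingCat.ofHom (@algebraMap ((Spec (CommRingCat.of R₀)).presheaf.stalk s) R _ _ hR₁)) := by
    rw [← Category.assoc φ, ← he, ← Category.assoc, ← Category.assoc, Scheme.Hom.germ_stalkMap, Scheme.Hom.appLE]
    simp only [Category.assoc, TopCat.Presheaf.germ_res_assoc]
  change MorphismProperty.ind.{u} smoothProp.{u}
    (X.presheaf.germ U (f s) hs ≫ f.stalkMap s ≫ CommRingCat.ofHom (@algebraMap ((Spec (CommRingCat.of R₀)).presheaf.stalk s) R _ _ hR₁))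
  rw [e]
  refine MorphismProperty.comp_mem _ _ _ (indSmooth_germ_sh hU x hxU R₀) ?_
  rw [MorphismProperty.cancel_left_of_respectsIso (MorphismProperty.ind.{u} smoothProp.{u})]
  exact @indSmooth_germ_sh _ _ htop s trivial R _ _ hR₁ hR₂ hR₃

/-- Cancellation of weakly étale morphisms. -/
theorem IndSmoothLoc.of_comp_weaklyEtale {S' W X : Scheme.{u}} {γ : S' ⟶ W} (q : W ⟶ X) [WeaklyEtale q]
    (h : IndSmoothLoc (γ ≫ q)) : IndSmoothLoc γ := by
  intro s R _ _ _ _ _
  obtain ⟨V, hV, hs, hind⟩ := h s R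
  obtain ⟨V', hV', hs', hle⟩ := exists_isAffineOpen_mem_and_subset (x := γ s) (U := q ⁻¹ᵁ V)
    hs
  refine ⟨V', hV', hs', ?_⟩
  have hle' : V' ≤ q ⁻¹ᵁ V := hle
  letI : Algebra Γ(X, V) Γ(W, V') := (q.appLE V V' hle').hom.toAlgebra
  haveI := WLocalLib.weaklyEtale_appLE q hV hV' hle'
  let ψ := W.presheaf.germ V' (γ s) hs' ≫ γ.stalkMap s ≫ CommRingCat.ofHom (algebraMap (S'.presheaf.stalk s) R)
  letI : Algebra Γ(W, V') R := ψ.hom.toAlgebra
  letI : Algebra Γ(X, V) R :=
    (X.presheaf.germ V ((γ ≫ q) s) hs ≫ (γ ≫ q).stalkMap s ≫ CommRingCat.ofHom (algebraMap (S'.presheaf.stalk s) R)).hom.toAlgebra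
  have e : X.presheaf.germ V ((γ ≫ q) s) hs ≫ (γ ≫ q).stalkMap s ≫ CommRingCat.ofHom (algebraMap (S'.presheaf.stalk s) R) =
      q.appLE V V' hle' ≫ ψ := by
    rw [Scheme.Hom.stalkMap_comp]
    simp only [ψ, Category.assoc]
    erw [Scheme.Hom.germ_stalkMap_assoc]
    rw [Scheme.Hom.appLE, Category.assoc, TopCat.Presheaf.germ_res_assoc]
  haveI : IsScalarTower Γ(X, V) Γ(W, V') R := IsScalarTower.of_algebraMap_eq fun v =>
    congr($(e).hom v)
  exact indSmooth_cancel (A := Γ(X, V)) hind

variable {X Y : Scheme.{u}} (g : X ⟶ Y)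

/-- Strict localizations have universal base change when the base change to the strict localization of the base does. -/
theorem bcInv_strictLoc_of_bcInv (hkey : HenLineKey.{u}) (x : X) (RY RX : Type u) [CommRing RY] [CommRing RX]
    [IsLocalRing RY] [IsLocalRing RX] [Algebra (Y.presheaf.stalk (g.base x)) RY]
    [IsLocalHom (algebraMap (Y.presheaf.stalk (g.base x)) RY)]
    [Hensel.IsStrictHenselization (Y.presheaf.stalk (g.base x)) RY]
    [Algebra (X.presheaf.stalk x) RX] [IsLocalHom (algebraMap (X.presheaf.stalk x) RX)]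
    [Hensel.IsStrictHenselization (X.presheaf.stalk x) RX] [Algebra RY RX]
    (hψ : (algebraMap RY RX).comp (algebraMap (Y.presheaf.stalk (g.base x)) RY) =
      (algebraMap (X.presheaf.stalk x) RX).comp (g.stalkMap x).hom) {L : Set ℕ}
    (hL : L ⊆ EtAcyc.primesInvertibleOn (Spec (CommRingCat.of RY)))
    (hπ : BCInv (pullback.snd g (Hens2.specOf Y (g.base x) RY)) L) :
    BCInv (Spec.map (CommRingCat.ofHom (algebraMap RY RX))) L := by
  let π := pullback.snd g (Hens2.specOf Y (g.base x) RY)
  let q := pullback.fst g (Hens2.specOf Y (g.base x) RY)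
  have w : Hens2.specOf X x RX ≫ g =
      Spec.map (CommRingCat.ofHom (algebraMap RY RX)) ≫ Hens2.specOf Y (g.base x) RY := by
    rw [Hens2.specOf, Category.assoc, ← Scheme.SpecMap_stalkMap_fromSpecStalk g, Hens2.specOf, ← Category.assoc,
      ← Category.assoc, ← Spec.map_comp, ← Spec.map_comp]
    congr 2
    exact CommRingCat.hom_ext hψ.symm
  let γ := pullback.lift _ _ w
  haveI := ProEtSLib.weaklyEtale_specOf Y (g.base x) RY
  haveI : WeaklyEtale q := MorphismProperty.pullback_fst _ _ inferInstance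
  have hγ : IndSmoothLoc γ := IndSmoothLoc.of_comp_weaklyEtale q
    (by rw [show γ ≫ q = _ from pullback.lift_fst _ _ w]; exact indSmoothLoc_specOf X x RX)
  rw [show Spec.map (CommRingCat.ofHom (algebraMap RY RX)) = γ ≫ π from (pullback.lift_snd _ _ w).symm]
  exact (bcInv_indSmoothLoc hkey hγ (hL.trans (primesInvertibleOn_le π))).comp hπ

end Groth.Agent.SmoothBCLib
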