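import Groth.Agent.CdFieldLib.PointRpush
import Groth.Agent.S0620
import Groth.Agent.Henselization.Basic

/-!
# Higher direct images vanish iff they do on all strict localizations
-/

set_option autoImplicit false
set_option linter.style.haveILetI false
set_option backward.isDefEq.respectTransparency false
set_option backward.isDefEq.respectTransparency.types false
set_option maxHeartbeats 1000000

universe u

open CategoryTheory CategoryTheory.Limits AlgebraicGeometry Opposite

noncomputable section

namespace Groth.Agent.SmoothBCLib

variable {X S : Scheme.{u}}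

/-- The geometric point of a strict henselization lies over the given point. -/
theorem geomPt_default (s : S) (R : Type u) [CommRing R] [IsLocalRing R] [Algebra (S.presheaf.stalk s) R]
    [IsLocalHom (algebraMap (S.presheaf.stalk s) R)] : (Hens2.geomPt S s R) default = s := by
  refine (congrArg (S.fromSpecStalk s).base ?_).trans (Scheme.fromSpecStalk_closedPoint (x := s))
  rw [Subsingleton.elim (default : Spec (CommRingCat.of (IsLocalRing.ResidueField R)))
    (IsLocalRing.closedPoint (IsLocalRing.ResidueField R))]
  show PrimeSpectrum.comap (algebraMap (S.presheaf.stalk s) R)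
    (PrimeSpectrum.comap (IsLocalRing.residue R) (IsLocalRing.closedPoint (IsLocalRing.ResidueField R))) = _
  rw [IsLocalRing.comap_closedPoint (IsLocalRing.residue R)]
  exact IsLocalRing.comap_closedPoint (algebraMap (S.presheaf.stalk s) R)

/-- A sheaf vanishes if at every point its stalk at some geometric point does. -/
theorem isZero_of_points (G : EtCoh.Ab S)
    (h : ∀ s : S, ∃ (Ω : Type u) (_ : Field Ω) (_ : IsSepClosed Ω) (ξ : Spec (CommRingCat.of Ω) ⟶ S),
      ξ default = s ∧ IsZero ((EtCoh.stalk ξ).obj G)) : IsZero G := by
  rw [EtPtsLib.isZero_iff_ab]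
  intro Ω _ _ ξ
  obtain ⟨Ω₀, _, _, ξ₀, h₀, hz⟩ := h (ξ default)
  exact CdFieldLib.isZero_stalk_of_default_eq G hz h₀.symm

variable (f : X ⟶ S) [QuasiCompact f] [QuasiSeparated f] (N : EtCoh.Ab X) (q : ℕ)

/-- A higher direct image vanishes if the cohomology over all strict localizations does. -/
theorem isZero_Rpush_of_strictLoc
    (h : ∀ (s : S) (R : Type u) [CommRing R] [IsLocalRing R] [Algebra (S.presheaf.stalk s) R]
      [IsLocalHom (algebraMap (S.presheaf.stalk s) R)] [Hensel.IsStrictHenselization (S.presheaf.stalk s) R]
      [IsSepClosed (IsLocalRing.ResidueField R)],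
      Subsingleton (EtCoh.H (pullback f (Hens2.specOf S s R))
        ((EtCoh.pull (pullback.fst f (Hens2.specOf S s R))).obj N) q)) :
    IsZero ((EtCoh.Rpush f q).obj N) := by
  refine isZero_of_points _ fun s => ?_
  obtain ⟨R, _, _, _, _, hR⟩ := Henselization.exists_strictHenselization (R := S.presheaf.stalk s)
  haveI := hR
  haveI : IsSepClosed (IsLocalRing.ResidueField R) :=
    (Hensel.IsStrictHenselization.isSepClosure (R := S.presheaf.stalk s) (S := R)).sep_closed
  refine ⟨IsLocalRing.ResidueField R, inferInstance, inferInstance, Hens2.geomPt S s R, geomPt_default s R, ?_⟩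
  haveI := h s R
  exact (AddCommGrpCat.isZero_of_subsingleton _).of_iso (S0620.result f N s R q).some

/-- Conversely. -/
theorem subsingleton_H_of_isZero (h : IsZero ((EtCoh.Rpush f q).obj N)) (s : S) (R : Type u) [CommRing R]
    [IsLocalRing R] [Algebra (S.presheaf.stalk s) R] [IsLocalHom (algebraMap (S.presheaf.stalk s) R)]
    [Hensel.IsStrictHenselization (S.presheaf.stalk s) R] [IsSepClosed (IsLocalRing.ResidueField R)] :
    Subsingleton (EtCoh.H (pullback f (Hens2.specOf S s R))
      ((EtCoh.pull (pullback.fst f (Hens2.specOf S s R))).obj N) q) := by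
  haveI : (EtCoh.stalk (Hens2.geomPt S s R)).Additive := Functor.additive_of_preserves_binary_products _
  exact AddCommGrpCat.subsingleton_of_isZero
    (((EtCoh.stalk (Hens2.geomPt S s R)).map_isZero h).of_iso (S0620.result f N s R q).some.symm)

end Groth.Agent.SmoothBCLib
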