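import Groth.Agent.SmoothBCLib.ZeroDim
import Groth.Agent.SmoothBCLib.Stalks
import Groth.Agent.CdFieldLib.Leray
import Groth.Agent.PBCLib.Descend
import Groth.Agent.PBCLib.FieldExt
import Groth.Agent.PBCLib.Embed
import Groth.Agent.SHTensor.Basic

/-!
# From geometric points to schemes with algebraically closed local rings

If, after base change along `g`, direct images of sheaves killed by `n` from geometric points have no higher
cohomology, then the same holds for direct images from schemes all of whose local rings are algebraically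
closed fields.
-/

set_option autoImplicit false
set_option linter.style.haveILetI false
set_option backward.isDefEq.respectTransparency false
set_option backward.isDefEq.respectTransparency.types false
set_option maxHeartbeats 1000000
set_option synthInstance.maxHeartbeats 400000

universe u

open CategoryTheory CategoryTheory.Limits AlgebraicGeometry Opposite

noncomputable section

namespace Groth.Agent.SmoothBCLib

/-- After base change along `g`, direct images from geometric points of sheaves killed by `n` have no higher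
direct images. -/
def PtAcyclic {S' S : Scheme.{u}} (g : S' ⟶ S) (n : ℕ) : Prop :=
  ∀ (K : Type u) [Field K] [IsAlgClosed K] (ξ : Spec (CommRingCat.of K) ⟶ S) (P : Scheme.{u}) (a : P ⟶ S')
    (b : P ⟶ Spec (CommRingCat.of K)), IsPullback a b g ξ → ∀ (G : EtCoh.Ab (Spec (CommRingCat.of K))),
      EtCoh.KilledBy n G → ∀ q : ℕ, IsZero ((EtCoh.Rpush a (q + 1)).obj ((EtCoh.pull b).obj G))

theorem subsingleton_H_pull_pull {A B C : Scheme.{u}} (g : B ⟶ A) (f : C ⟶ B) (m : C ⟶ A) (w : f ≫ g = m)
    (F : EtCoh.Ab A) (n : ℕ) :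
    Subsingleton (EtCoh.H C ((EtCoh.pull m).obj F) n) ↔
      Subsingleton (EtCoh.H C ((EtCoh.pull f).obj ((EtCoh.pull g).obj F)) n) :=
  ⟨fun h => @Function.Surjective.subsingleton _ _ _ h (PBCLib.bijective_map_comparePull g f m w F n).2,
    fun h => @Function.Injective.subsingleton _ _ _ (PBCLib.bijective_map_comparePull g f m w F n).1 h⟩

theorem subsingleton_H_pull_iso {A B C : Scheme.{u}} (p : C ⟶ A) (k : B ⟶ C) [IsIso k] (m : B ⟶ A)
    (w : k ≫ p = m) (F : EtCoh.Ab A) (n : ℕ) (h : Subsingleton (EtCoh.H C ((EtCoh.pull p).obj F) n)) :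
    Subsingleton (EtCoh.H B ((EtCoh.pull m).obj F) n) :=
  (subsingleton_H_pull_pull p k m w F n).2 (haveI := h; (PBCLib.bijective_Hpull_of_isIso k _ n).2.subsingleton)

/-- The point of a scheme all of whose local rings are algebraically closed fields. -/
theorem AlgFields.exists_point {T : Scheme.{u}} (hT : AlgFields T) (t : T) :
    ∃ (K : Type u) (_ : Field K) (_ : IsAlgClosed K) (η : Spec (CommRingCat.of K) ⟶ T) (_ : QuasiCompact η)
      (_ : QuasiSeparated η), ∀ {W : Scheme.{u}} (w : W ⟶ T) [QuasiCompact w] [QuasiSeparated w] (M : EtCoh.Ab W)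
        (q : ℕ), Subsingleton (EtCoh.H (pullback w η) ((EtCoh.pull (pullback.fst w η)).obj M) q) →
          ∃ (Ω : Type u) (_ : Field Ω) (_ : IsSepClosed Ω) (ξ : Spec (CommRingCat.of Ω) ⟶ T),
            ξ default = t ∧ IsZero ((EtCoh.stalk ξ).obj ((EtCoh.Rpush w q).obj M)) := by
  obtain ⟨hh, hs⟩ := hT.isStrictlyHenselian_stalk t
  haveI := hh
  haveI : IsSepClosed (IsLocalRing.ResidueField (T.presheaf.stalk t)) := hs
  letI : Field (T.presheaf.stalk t) := (hT.isField t).toField
  haveI : IsAlgClosed (T.presheaf.stalk t) := AICCover.MonicRoot.isAlgClosed (hT.monicRoot t)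
  haveI : Hensel.IsStrictHenselization (T.presheaf.stalk t) (T.presheaf.stalk t) :=
    SHTensor.isStrictHenselization_self _
  refine ⟨T.presheaf.stalk t, inferInstance, inferInstance, Hens2.specOf T t (T.presheaf.stalk t), ?_, ?_,
    fun w _ _ M q h => ⟨_, inferInstance, inferInstance, Hens2.geomPt T t (T.presheaf.stalk t),
      geomPt_default t _, ?_⟩⟩
  · exact ⟨fun U _ _ => Set.Finite.isCompact (Set.toFinite _)⟩
  · infer_instance
  haveI := h
  exact (AddCommGrpCat.isZero_of_subsingleton _).of_iso (S0620.result w M t (T.presheaf.stalk t) q).some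

variable {S' S : Scheme.{u}} {g : S' ⟶ S} {n : ℕ}

/-- Direct images from schemes with algebraically closed local rings stay acyclic after base change along `g`. -/
theorem PtAcyclic.algFields (hg : PtAcyclic g n) {T : Scheme.{u}} (hT : AlgFields T) [CompactSpace T]
    [QuasiSeparatedSpace T] (h : T ⟶ S) [QuasiCompact h] [QuasiSeparated h] {T' : Scheme.{u}} (a : T' ⟶ S')
    (b : T' ⟶ T) (hsq : IsPullback a b g h) (G : EtCoh.Ab T) (hG : EtCoh.KilledBy n G) (q : ℕ) :
    IsZero ((EtCoh.Rpush a (q + 1)).obj ((EtCoh.pull b).obj G)) := by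
  haveI : QuasiCompact a := MorphismProperty.of_isPullback hsq.flip inferInstance
  haveI : QuasiSeparated a := MorphismProperty.of_isPullback hsq.flip inferInstance
  refine isZero_Rpush_of_strictLoc a _ _ fun s R _ _ _ _ _ _ => ?_
  let u := Hens2.specOf S' s R
  let pr := pullback.fst a u
  haveI : CompactSpace ↥(pullback a u) := QuasiCompact.compactSpace_of_compactSpace (pullback.snd a u)
  haveI : QuasiSeparatedSpace ↥(pullback a u) := quasiSeparatedSpace_of_quasiSeparated (pullback.snd a u)
  let w := pr ≫ b
  haveI : QuasiCompact w := quasiCompact_of_compactSpace w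
  haveI : QuasiSeparated w := inferInstance
  haveI := Groth.Agent.S0101.result w
  refine (subsingleton_H_pull_pull b pr w rfl G _).1
    (CdFieldLib.subsingleton_H_of_leray w (q + 1) _ fun p j hpj => ?_)
  rcases Nat.eq_zero_or_pos p with rfl | hp
  swap
  · exact hT.subsingleton_H _ p hp
  obtain rfl : j = q + 1 := by omega
  suffices hz : IsZero ((EtCoh.Rpush w (q + 1)).obj ((EtCoh.pull w).obj G)) by
    haveI := PBCLib.HF_additive T 0
    exact AddCommGrpCat.subsingleton_of_isZero ((EtCoh.HF T 0).map_isZero hz)
  refine isZero_of_points _ fun t => ?_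
  obtain ⟨K, _, _, η, _, _, hK⟩ := hT.exists_point t
  refine hK w _ _ ((subsingleton_H_pull_pull w _ _ rfl G _).1 ?_)
  let P := pullback b η
  let a₁ : P ⟶ S' := pullback.fst b η ≫ a
  haveI : QuasiCompact a₁ := inferInstance
  haveI : QuasiSeparated a₁ := inferInstance
  have hP : IsPullback a₁ (pullback.snd b η) g (η ≫ h) := (IsPullback.of_hasPullback b η).paste_horiz hsq
  have hz := hg K (η ≫ h) P a₁ _ hP _ (PBCLib.killedBy_pull η hG) q
  have h0 := subsingleton_H_of_isZero a₁ _ _ hz s R
  rw [← subsingleton_H_pull_pull (pullback.snd b η) (pullback.fst a₁ u) _ rfl,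
    ← subsingleton_H_pull_pull η (pullback.fst a₁ u ≫ pullback.snd b η) _ rfl] at h0
  let k₂ : pullback w η ⟶ P := pullback.lift (pullback.fst w η ≫ pr) (pullback.snd w η)
    ((Category.assoc _ _ _).trans pullback.condition)
  have hl : IsPullback k₂ (pullback.fst w η) (pullback.fst b η) pr :=
    IsPullback.of_right (h₁₁ := k₂) (by rw [pullback.lift_snd]; exact (IsPullback.of_hasPullback w η).flip)
      (pullback.lift_fst _ _ _) (IsPullback.of_hasPullback b η).flip
  have hk : IsPullback k₂ (pullback.fst w η ≫ pullback.snd a u) a₁ u :=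
    hl.paste_vert (IsPullback.of_hasPullback a u)
  refine subsingleton_H_pull_iso _ hk.isoPullback.hom _ ?_ G _ h0
  rw [← Category.assoc, ← Category.assoc, IsPullback.isoPullback_hom_fst, pullback.lift_snd]
  exact pullback.condition.symm

end Groth.Agent.SmoothBCLib
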