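import Groth.Agent.SmoothBCLib.Stalks
import Groth.Agent.SmoothBCLib.PtAcyclic
import Groth.Agent.SmoothBCLib.LocAcyclicGen
import Groth.Agent.AcycCompLib.Criterion
import Groth.Agent.StrictLocLib.FlatBC
import Groth.Agent.CompBCLib.Killed
import Groth.Agent.S1467
import Groth.Agent.S0427
import Groth.Agent.S7127
import Groth.Prelude.Def_SGA4h

/-!
# Units and higher direct images along a geometric fibre, on the closed fibre

If cohomology of the inverse image to a strict localization is invariant under passing to a geometric fibre, the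
unit is bijective and the higher direct images vanish at the corresponding geometric point.
-/

set_option autoImplicit false
set_option linter.style.haveILetI false
set_option backward.isDefEq.respectTransparency false
set_option backward.isDefEq.respectTransparency.types false
set_option maxHeartbeats 2000000
set_option synthInstance.maxHeartbeats 400000

universe u

open CategoryTheory CategoryTheory.Limits AlgebraicGeometry Opposite IsLocalRing
open Groth.Agent.EtPtsLib
open scoped TensorProduct

noncomputable section

namespace Groth.Agent.SmoothBCLib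

attribute [local instance] Groth.Agent.S0101.result

/-- The base change of direct images along a strict localization is an isomorphism. -/
theorem isIso_baseChange0_specOf {Xt X' : Scheme.{u}} (h : Xt ⟶ X') [QuasiCompact h] [QuasiSeparated h] (x' : X')
    (R : Type u) [CommRing R] [IsLocalRing R] [Algebra (X'.presheaf.stalk x') R]
    [IsLocalHom (algebraMap (X'.presheaf.stalk x') R)] [Hensel.IsStrictHenselization (X'.presheaf.stalk x') R]
    (F : EtCoh.Ab Xt) :
    IsIso (EtCoh.baseChange0 h (Hens2.specOf X' x' R) (pullback.snd h (Hens2.specOf X' x' R))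
      (pullback.fst h (Hens2.specOf X' x' R)) pullback.condition F) := by
  haveI := ProEtSLib.weaklyEtale_specOf X' x' R
  refine StrictLocLib.isIso_baseChange0_of_flat h (Hens2.specOf X' x' R) _ _
    (IsPullback.of_hasPullback h (Hens2.specOf X' x' R)) (fun y RS _ _ _ _ hS RX _ _ _ _ hX ψ _ hψ Ω _ _ η => ?_) F
  obtain ⟨hloc, hXY⟩ := (S1467.result (Hens2.specOf X' x' R)).1 inferInstance y RX
  letI : Algebra (X'.presheaf.stalk (Hens2.specOf X' x' R y)) RX :=
    ((algebraMap _ RX).comp ((Hens2.specOf X' x' R).stalkMap y).hom).toAlgebra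
  haveI := hloc
  haveI := hXY
  letI : Algebra RS RX := ψ.toAlgebra
  haveI : IsScalarTower (X'.presheaf.stalk (Hens2.specOf X' x' R y)) RS RX :=
    IsScalarTower.of_algebraMap_eq fun z => (RingHom.congr_fun hψ z).symm
  haveI := ProEtLib2.weaklyEtale_of_isIndEtale (S12237.result (X'.presheaf.stalk (Hens2.specOf X' x' R y)) RS)
  haveI := ProEtLib2.weaklyEtale_of_isIndEtale (S12237.result (X'.presheaf.stalk (Hens2.specOf X' x' R y)) RX)
  haveI := S7127.result (X'.presheaf.stalk (Hens2.specOf X' x' R y)) RS RX
  haveI := Hensel.IsStrictHenselization.henselian (R := X'.presheaf.stalk (Hens2.specOf X' x' R y)) (S := RS)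
  haveI : IsSepClosed (ResidueField RS) :=
    (Hensel.IsStrictHenselization.isSepClosure (R := X'.presheaf.stalk (Hens2.specOf X' x' R y)) (S := RS)).sep_closed
  haveI : IsLocalHom (algebraMap RS RX) := ‹IsLocalHom ψ›
  haveI : IsIso (Spec.map (CommRingCat.ofHom ψ)) := by
    haveI : IsIso (CommRingCat.ofHom ψ) := (ConcreteCategory.isIso_iff_bijective _).2 (S0427.result (A := RS) (B := RX))
    infer_instance
  exact (asIso (pullback.snd (Spec.map (CommRingCat.ofHom ψ)) η)).inv.homeomorph.surjective.connectedSpace
    (asIso (pullback.snd (Spec.map (CommRingCat.ofHom ψ)) η)).inv.continuous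

/-- The stalk of a map at the closed point of a strictly henselian spectrum, from global sections. -/
theorem bijective_stalk_closed_of_top {R : Type u} [CommRing R] [HenselianLocalRing R] [IsSepClosed (ResidueField R)]
    {A B : EtCoh.Ab (Spec (CommRingCat.of R))} (a : A ⟶ B)
    (ha : Function.Bijective (a.hom.app (op (EtCoh.top (Spec (CommRingCat.of R)))))) :
    Function.Bijective ((EtCoh.stalk (Spec.map (CommRingCat.ofHom (residue R)))).map a) := by
  let ξ := Spec.map (CommRingCat.ofHom (residue R))
  let t : (Scheme.pointSmallEtale ξ).fiber.obj (EtCoh.top (Spec (CommRingCat.of R))) :=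
    Over.homMk ξ (Category.comp_id _)
  have hξ : ξ default = closedPoint R := by
    rw [Subsingleton.elim (default : Spec (CommRingCat.of (ResidueField R))) (closedPoint (ResidueField R))]
    exact IsLocalRing.comap_closedPoint (residue R)
  have hex : ∀ (U : (Spec (CommRingCat.of R)).Etale) (l : (Scheme.pointSmallEtale ξ).fiber.obj U),
      ∃ g : EtCoh.top (Spec (CommRingCat.of R)) ⟶ U, g.left (liftHom ξ t default) = liftHom ξ l default := fun U l => by
    haveI : Etale U.hom := U.prop
    have hl : U.hom (liftHom ξ l default) = closedPoint R :=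
      (congr($(liftHom_comp ξ l) default)).trans hξ
    obtain ⟨s, hs, hsu⟩ := Groth.Agent.Hensel.exists_section_of_etale U.hom _ hl
    refine ⟨MorphismProperty.Over.homMk s hs, ?_⟩
    show s (liftHom ξ t default) = _
    rw [show liftHom ξ t default = closedPoint R from hξ]
    exact hsu
  have hA := germ_top_bijective ξ t hex A.obj
  have hB := germ_top_bijective ξ t hex B.obj
  refine (Function.Bijective.of_comp_iff _ hA).1 ?_
  have e : ⇑((EtCoh.stalk ξ).map a) ∘ (fun s => germ ξ A t s) =
      (fun s => germ ξ B t s) ∘ ⇑(a.hom.app (op (EtCoh.top (Spec (CommRingCat.of R))))) :=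
    funext fun s => (Scheme.pointSmallEtale ξ).toPresheafFiber_naturality_apply a.hom _ t s
  exact e.symm ▸ hB.comp ha

/-- Stalks after inverse image. -/
theorem bijective_stalk_pull_iff {X Y : Scheme.{u}} (f : X ⟶ Y) {Ω : Type u} [Field Ω] [IsSepClosed Ω]
    (ζ : Spec (CommRingCat.of Ω) ⟶ X) {A B : EtCoh.Ab Y} (a : A ⟶ B) :
    Function.Bijective ((EtCoh.stalk ζ).map ((EtCoh.pull f).map a)) ↔
      Function.Bijective ((EtCoh.stalk (ζ ≫ f)).map a) := by
  let e₀ : EtCoh.pull f ⋙ EtCoh.stalk ζ ≅ EtCoh.stalk (ζ ≫ f) := pullStalkIso f ζ AddCommGrpCat.{u + 1}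
  exact (ConcreteCategory.isIso_iff_bijective _).symm.trans
    ((NatIso.isIso_map_iff e₀ a).trans (ConcreteCategory.isIso_iff_bijective _))

variable {Xt X' : Scheme.{u}} (h : Xt ⟶ X') [QuasiCompact h] [QuasiSeparated h] (G : EtCoh.Ab X') (x' : X')
  (R : Type u) [CommRing R] [IsLocalRing R] [Algebra (X'.presheaf.stalk x') R]
  [IsLocalHom (algebraMap (X'.presheaf.stalk x') R)] [Hensel.IsStrictHenselization (X'.presheaf.stalk x') R]
  [IsSepClosed (ResidueField R)]

/-- The higher direct images of the inverse image vanish at the point. -/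
theorem isZero_stalk_Rpush_of_bijective (q : ℕ) (hq : 0 < q)
    (hH : Function.Bijective (EtCore.Hpull (pullback.snd h (Hens2.specOf X' x' R))
      ((EtCoh.pull (Hens2.specOf X' x' R)).obj G) q)) :
    IsZero ((EtCoh.stalk (Hens2.geomPt X' x' R)).obj ((EtCoh.Rpush h q).obj ((EtCoh.pull h).obj G))) := by
  haveI := Hensel.IsStrictHenselization.henselian (R := X'.presheaf.stalk x') (S := R)
  obtain ⟨q, rfl⟩ := Nat.exists_eq_succ_of_ne_zero hq.ne'
  haveI := EtVanish.subsingleton_H_strictlyHenselian R ((EtCoh.pull (Hens2.specOf X' x' R)).obj G) q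
  haveI : Subsingleton (EtCoh.H _ ((EtCoh.pull (pullback.snd h (Hens2.specOf X' x' R))).obj
      ((EtCoh.pull (Hens2.specOf X' x' R)).obj G)) (q + 1)) := hH.2.subsingleton
  haveI := (subsingleton_H_pull_pull h (pullback.fst h (Hens2.specOf X' x' R)) _ pullback.condition G (q + 1)).1
    ((subsingleton_H_pull_pull (Hens2.specOf X' x' R) (pullback.snd h (Hens2.specOf X' x' R)) _ rfl G (q + 1)).2
      ‹_›)
  exact (AddCommGrpCat.isZero_of_subsingleton _).of_iso
    (S0620.result h ((EtCoh.pull h).obj G) x' R (q + 1)).some

/-- The unit is bijective at the point. -/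
theorem bijective_stalk_unit_of_bijective
    (hH : Function.Bijective (EtCore.Hpull (pullback.snd h (Hens2.specOf X' x' R))
      ((EtCoh.pull (Hens2.specOf X' x' R)).obj G) 0)) :
    Function.Bijective ((EtCoh.stalk (Hens2.geomPt X' x' R)).map ((EtCoh.pullPushAdj h).unit.app G)) := by
  haveI := Hensel.IsStrictHenselization.henselian (R := X'.presheaf.stalk x') (S := R)
  let ε := Hens2.specOf X' x' R
  let h' := pullback.snd h ε
  obtain ⟨σ, hσ⟩ := AcycCompLib.exists_pull_unit_baseChange0 h ε h' (pullback.fst h ε) pullback.condition G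
  haveI := isIso_baseChange0_specOf h x' R ((EtCoh.pull h).obj G)
  refine (bijective_stalk_pull_iff ε (Spec.map (CommRingCat.ofHom (residue R))) _).1 ?_
  have h0 := bijective_stalk_closed_of_top ((EtCoh.pullPushAdj h').unit.app ((EtCoh.pull ε).obj G))
    (AcycCompLib.bijective_unit_top h' _ hH)
  haveI : IsIso ((EtCoh.stalk (Spec.map (CommRingCat.ofHom (residue R)))).map
      ((EtCoh.pullPushAdj h').unit.app ((EtCoh.pull ε).obj G))) := (ConcreteCategory.isIso_iff_bijective _).2 h0
  have h1 : IsIso ((EtCoh.stalk (Spec.map (CommRingCat.ofHom (residue R)))).map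
      ((EtCoh.pullPushAdj h').unit.app ((EtCoh.pull ε).obj G) ≫ (EtCoh.push h').map σ.hom)) := by
    rw [Functor.map_comp]; infer_instance
  rw [← hσ, Functor.map_comp] at h1
  exact (ConcreteCategory.isIso_iff_bijective _).1 (IsIso.of_isIso_comp_right _ ((EtCoh.stalk
    (Spec.map (CommRingCat.ofHom (residue R)))).map (EtCoh.baseChange0 h ε h' (pullback.fst h ε) pullback.condition
      ((EtCoh.pull h).obj G))))

end Groth.Agent.SmoothBCLib
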