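import Groth.Agent.AcycCompLib.Criterion
import Groth.Agent.RpushSumLib.Push

/-!
# The comparison on cohomology may be tested on affine étale schemes
-/

set_option autoImplicit false
set_option backward.isDefEq.respectTransparency false
set_option backward.isDefEq.respectTransparency.types false
set_option linter.style.haveILetI false
set_option linter.unusedSectionVars false
set_option maxHeartbeats 1000000

universe u

open CategoryTheory CategoryTheory.Limits AlgebraicGeometry Opposite CategoryTheory.Abelian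
open Groth.Agent.AcycCompLib

noncomputable section

namespace Groth.Agent.SmoothBCLib

variable {V Y : Scheme.{u}} (f : Y ⟶ V)

/-- Isomorphisms are detected on the inverse images to affine étale schemes. -/
theorem isIso_of_bijective_top_affine {A B : EtCoh.Ab V} (a : A ⟶ B)
    (h : ∀ W : V.Etale, IsAffine W.left →
      Function.Bijective (((EtCoh.pull W.hom).map a).hom.app (op (EtCoh.top W.left)))) : IsIso a := by
  refine RpushSumLib.isIso_of_affine a fun W hW => ?_
  haveI : AlgebraicGeometry.Etale W.hom := W.prop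
  haveI : EtShriek.JCont W.hom := EtJCont.jCont W.hom
  refine (ConcreteCategory.isIso_iff_bijective _).2 (bijective_restr_top W a ?_)
  refine ((bijective_app_of_isIso ((EtPtsLib.pullIsoRestr W.hom).hom.app A) _).of_comp_iff _).1 ?_
  rw [map_pull_restr]
  exact (bijective_app_of_isIso ((EtPtsLib.pullIsoRestr W.hom).hom.app B) _).comp (h W hW)

/-- Vanishing is detected on affine étale schemes. -/
theorem eq_zero_of_top_affine {A B : EtCoh.Ab V} (a : A ⟶ B)
    (h : ∀ (W : V.Etale), IsAffine W.left → ∀ s : EtCoh.sect ((EtCoh.pull W.hom).obj A) (EtCoh.top W.left),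
      ((EtCoh.pull W.hom).map a).hom.app (op (EtCoh.top W.left)) s = 0) : a = 0 := by
  haveI : IsIso (kernel.ι a) := isIso_of_bijective_top_affine _ fun W hW => by
    haveI : AlgebraicGeometry.Etale W.hom := W.prop
    haveI : PreservesFiniteLimits (EtCoh.pull W.hom) := S0101.result _
    haveI : (EtCoh.pull W.hom).Additive := (EtCoh.pullPushAdj W.hom).left_adjoint_additive
    let S := ShortComplex.mk ((EtCoh.pull W.hom).map (kernel.ι a)) ((EtCoh.pull W.hom).map a)
      (by rw [← Functor.map_comp, kernel.condition, Functor.map_zero])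
    haveI : Mono S.f := (EtCoh.pull W.hom).map_mono (kernel.ι a)
    have hex : S.Exact := (ShortComplex.mk (kernel.ι a) a (kernel.condition a)).exact_of_f_is_kernel
      (kernelIsKernel a) |>.map (EtCoh.pull W.hom)
    let G := RpushSumLib.secF (EtCoh.top W.left)
    haveI : Mono (G.map S.f) := G.map_mono S.f
    refine ⟨(AddCommGrpCat.mono_iff_injective (G.map S.f)).1 ‹_›, fun s => ?_⟩
    exact ((ShortComplex.ab_exact_iff _).1 (hex.map_of_mono_of_preservesKernel G inferInstance inferInstance)) s (h W hW s)
  rw [← cancel_epi (kernel.ι a), kernel.condition, comp_zero]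

/-- Surjectivity of the transposition in degree `p` over every affine étale scheme. -/
def SurjAtAff (G : EtCoh.Ab Y) (p : ℕ) : Prop :=
  ∀ (W : V.Etale), IsAffine W.left → ∀ [PreservesFiniteLimits (EtCoh.pull (fW f W))],
    Function.Surjective (trZ (fW f W) ((EtCoh.pull (pullback.snd W.hom f)).obj G) p)

variable {S : ShortComplex (EtCoh.Ab Y)} (hS : S.ShortExact) [Injective S.X₂]

include hS

theorem epi_push_of_surjAtAff (h : SurjAtAff f S.X₁ 1) : Epi ((EtCoh.push f).map S.g) := by
  refine Abelian.epi_of_cokernel_π_eq_zero _ (eq_zero_of_top_affine _ fun W hW s => ?_)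
  haveI : PreservesFiniteLimits (EtCoh.pull (fW f W)) := S0101.result _
  haveI : (EtCoh.push (fW f W)).Additive := (EtCoh.pullPushAdj (fW f W)).right_adjoint_additive
  haveI : (EtCoh.pull (fW f W)).Additive := (EtCoh.pullPushAdj (fW f W)).left_adjoint_additive
  haveI : PreservesColimitsOfSize.{0, 0} (EtCoh.pull (fW f W)) :=
    (EtCoh.pullPushAdj (fW f W)).leftAdjoint_preservesColimits
  haveI : PreservesFiniteColimits (EtCoh.pull (fW f W)) := PreservesColimitsOfSize.preservesFiniteColimits _
  obtain ⟨hS', hI⟩ := pull_shortExact f hS W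
  haveI := hI
  haveI := isIso_bc f W S.X₃
  let b := EtCoh.baseChange0 f W.hom (fW f W) (pullback.snd W.hom f) (isPullback_fW f W).w S.X₃
  let φ := RpushTorsLib.secHom _ s
  have hπ : (EtCoh.push (fW f W)).map (S.map (EtCoh.pull (pullback.snd W.hom f))).g ≫
      inv b ≫ (EtCoh.pull W.hom).map (cokernel.π ((EtCoh.push f).map S.g)) = 0 := by
    haveI := isIso_bc f W S.X₂
    rw [← cancel_epi (EtCoh.baseChange0 f W.hom (fW f W) (pullback.snd W.hom f) (isPullback_fW f W).w S.X₂),
      comp_zero, ← Category.assoc]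
    have hn := baseChange0_natural f W.hom (fW f W) (pullback.snd W.hom f) (isPullback_fW f W).w S.g
    haveI : (EtCoh.pull W.hom).Additive := (EtCoh.pullPushAdj W.hom).left_adjoint_additive
    refine (congrArg (· ≫ inv b ≫ (EtCoh.pull W.hom).map (cokernel.π ((EtCoh.push f).map S.g))) hn.symm).trans ?_
    simp only [b, Category.assoc, IsIso.hom_inv_id_assoc]
    exact ((EtCoh.pull W.hom).map_comp _ _).symm.trans ((congrArg (EtCoh.pull W.hom).map (cokernel.condition _)).trans
      (Functor.map_zero _ _ _))
  have h0 := comp_eq_zero_of_surjective (EtCoh.pullPushAdj (fW f W)) (EtCoh.const W.left ℤ) hS' (h W hW) (φ ≫ b)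
    (inv b ≫ (EtCoh.pull W.hom).map (cokernel.π ((EtCoh.push f).map S.g))) hπ
  rw [Category.assoc, IsIso.hom_inv_id_assoc] at h0
  apply (RpushTorsLib.secHom _).injective
  rw [map_zero]
  exact (RpushTorsLib.secHom_natural _ s).trans h0

theorem surjAtAff_quotient (h₁ : SurjAtAff f S.X₁ 1) (p : ℕ) (h : SurjAtAff f S.X₁ (p + 1 + 1)) :
    SurjAtAff f S.X₃ (p + 1) := by
  intro W hW _
  haveI : (EtCoh.push (fW f W)).Additive := (EtCoh.pullPushAdj (fW f W)).right_adjoint_additive
  haveI : (EtCoh.pull (fW f W)).Additive := (EtCoh.pullPushAdj (fW f W)).left_adjoint_additive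
  haveI : PreservesColimitsOfSize.{0, 0} (EtCoh.pull (fW f W)) :=
    (EtCoh.pullPushAdj (fW f W)).leftAdjoint_preservesColimits
  haveI : PreservesFiniteColimits (EtCoh.pull (fW f W)) := PreservesColimitsOfSize.preservesFiniteColimits _
  obtain ⟨hS', hI⟩ := pull_shortExact f hS W
  haveI := hI
  haveI := epi_push_of_surjAtAff f hS h₁
  haveI := isIso_bc f W S.X₃
  haveI : PreservesColimitsOfSize.{0, 0} (EtCoh.pull W.hom) :=
    (EtCoh.pullPushAdj W.hom).leftAdjoint_preservesColimits
  haveI : PreservesFiniteColimits (EtCoh.pull W.hom) := PreservesColimitsOfSize.preservesFiniteColimits _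
  refine surjective_transpose_quotient (EtCoh.pullPushAdj (fW f W)) _ hS' ?_ p (h W hW)
  have hn := baseChange0_natural f W.hom (fW f W) (pullback.snd W.hom f) (isPullback_fW f W).w S.g
  haveI : Epi ((EtCoh.pull W.hom).map ((EtCoh.push f).map S.g)) := inferInstance
  exact epi_of_epi_fac hn.symm

omit hS

theorem isZero_Rpush_of_surjAtAff : ∀ (n : ℕ) (G : EtCoh.Ab Y), (∀ p, 1 ≤ p → p ≤ n → SurjAtAff f G p) →
    ∀ q, 1 ≤ q → q ≤ n → IsZero ((EtCoh.Rpush f q).obj G) := by
  intro n
  induction n with
  | zero => intros; omega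
  | succ n ih =>
    intro G hG q hq1 hq
    haveI : (EtCoh.push f).Additive := (EtCoh.pullPushAdj f).right_adjoint_additive
    haveI : PreservesFiniteLimits (EtCoh.push f) :=
      (EtCoh.pullPushAdj f).rightAdjoint_preservesLimits.{0, 0}.preservesFiniteLimits
    let T : ShortComplex (EtCoh.Ab Y) :=
      ShortComplex.mk (Injective.ι G) (cokernel.π (Injective.ι G)) (cokernel.condition _)
    have hT : T.ShortExact :=
      { exact := T.exact_of_g_is_cokernel (cokernelIsCokernel _) }
    haveI : Injective T.X₂ := inferInstanceAs (Injective (Injective.under G))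
    rcases q with _ | _ | q
    · omega
    · exact isZero_one_of_epi (EtCoh.push f) hT (epi_push_of_surjAtAff f hT (hG 1 le_rfl (by omega)))
    · refine isZero_of_quotient (EtCoh.push f) hT q (ih T.X₃ (fun p hp1 hp => ?_) (q + 1) q.succ_pos (by omega))
      obtain ⟨p, rfl⟩ := Nat.exists_eq_succ_of_ne_zero (Nat.one_le_iff_ne_zero.1 hp1)
      exact surjAtAff_quotient f hT (hG 1 le_rfl (by omega)) p (hG (p + 1 + 1) (by omega) (by omega))

/-- The comparison on cohomology follows from the comparisons over affine étale schemes. -/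
theorem bijective_Hpull_of_affine [PreservesFiniteLimits (EtCoh.pull f)] (F : EtCoh.Ab V) (n : ℕ)
    (h : ∀ (W : V.Etale), IsAffine W.left → ∀ [PreservesFiniteLimits (EtCoh.pull (fW f W))], ∀ q ≤ n,
      Function.Bijective (EtCore.Hpull (fW f W) ((EtCoh.pull W.hom).obj F) q)) :
    (∀ q ≤ n, Function.Bijective (EtCore.Hpull f F q)) ∧ Function.Injective (EtCore.Hpull f F (n + 1)) := by
  have hu : IsIso ((EtCoh.pullPushAdj f).unit.app F) := by
    refine isIso_of_bijective_top_affine _ fun W hW => ?_
    haveI : PreservesFiniteLimits (EtCoh.pull (fW f W)) := S0101.result _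
    obtain ⟨σ, hσ⟩ := exists_pull_unit_baseChange0 f W.hom (fW f W) (pullback.snd W.hom f) (isPullback_fW f W).w F
    haveI := isIso_bc f W ((EtCoh.pull f).obj F)
    have hb := bijective_app_of_isIso
      (EtCoh.baseChange0 f W.hom (fW f W) (pullback.snd W.hom f) (isPullback_fW f W).w ((EtCoh.pull f).obj F))
      (EtCoh.top W.left)
    refine (Function.Bijective.of_comp_iff' hb _).1 ?_
    have e : ⇑((EtCoh.baseChange0 f W.hom (fW f W) (pullback.snd W.hom f) (isPullback_fW f W).w
          ((EtCoh.pull f).obj F)).hom.app (op (EtCoh.top W.left))) ∘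
        ⇑(((EtCoh.pull W.hom).map ((EtCoh.pullPushAdj f).unit.app F)).hom.app (op (EtCoh.top W.left))) =
        ⇑(((EtCoh.push (fW f W)).map σ.hom).hom.app (op (EtCoh.top W.left))) ∘
          ⇑(((EtCoh.pullPushAdj (fW f W)).unit.app ((EtCoh.pull W.hom).obj F)).hom.app (op (EtCoh.top W.left))) :=
      funext fun s => ConcreteCategory.congr_hom (congrArg (fun m => m.hom.app (op (EtCoh.top W.left))) hσ) s
    refine Eq.mpr (congrArg Function.Bijective e) ?_
    haveI : IsIso ((EtCoh.push (fW f W)).map σ.hom) := inferInstance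
    exact (bijective_app_of_isIso ((EtCoh.push (fW f W)).map σ.hom) _).comp
      (bijective_unit_top (fW f W) _ (h W hW 0 n.zero_le))
  have hR := isZero_Rpush_of_surjAtAff f n ((EtCoh.pull f).obj F) fun p _ hp W hW _ => by
    obtain ⟨σ, -⟩ := exists_pull_unit_baseChange0 f W.hom (fW f W) (pullback.snd W.hom f) (isPullback_fW f W).w F
    exact surjective_trZ_of_Hpull (fW f W) _ p _ (h W hW p hp).2 σ
  exact ⟨fun q hq => (bijective_Hpull_of_unit f q F n hu hR).1 hq,
    (bijective_Hpull_of_unit f (n + 1) F n hu hR).2 le_rfl⟩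

end Groth.Agent.SmoothBCLib
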