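import Groth.Agent.SmoothBCLib.IndSmoothBC
import Groth.Agent.WLocalLib.WeakEtale

/-!
# Cancellation of weakly étale maps from ind-smooth maps
-/

set_option autoImplicit false
set_option linter.style.haveILetI false
set_option backward.isDefEq.respectTransparency false
set_option backward.isDefEq.respectTransparency.types false
set_option maxHeartbeats 2000000
set_option synthInstance.maxHeartbeats 400000

universe u

open CategoryTheory CategoryTheory.Limits AlgebraicGeometry Opposite
open scoped TensorProduct

noncomputable section

namespace Groth.Agent.SmoothBCLib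

/-- If `A → B` is weakly étale and `A → C` is ind-smooth, so is `B → C`. -/
theorem indSmooth_cancel {A B C : Type u} [CommRing A] [CommRing B] [CommRing C] [Algebra A B] [Algebra A C]
    [Algebra B C] [IsScalarTower A B C] [Algebra.WeaklyEtale A B]
    (h : MorphismProperty.ind.{u} smoothProp.{u} (CommRingCat.ofHom (algebraMap A C))) :
    MorphismProperty.ind.{u} smoothProp.{u} (CommRingCat.ofHom (algebraMap B C)) := by
  let P := B ⊗[A] C
  have h₁ : MorphismProperty.ind.{u} smoothProp.{u} (CommRingCat.ofHom (algebraMap B P)) :=
    MorphismProperty.of_isPushout (CommRingCat.isPushout_tensorProduct A B C) h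
  let μ' : P →ₐ[A] C := Algebra.TensorProduct.lift (IsScalarTower.toAlgHom A B C) (AlgHom.id A C)
    fun _ _ => Commute.all _ _
  letI : Algebra P C := μ'.toRingHom.toAlgebra
  have hμ : ∀ (b : B) (c : C), algebraMap P C (b ⊗ₜ[A] c) = algebraMap B C b * c := fun b c =>
    Algebra.TensorProduct.lift_tmul _ _ _ b c
  let S : Submonoid P := (MonoidHom.mker (algebraMap P C).toMonoidHom)
  haveI : IsLocalization S C := by
    refine ⟨fun s => by rw [show algebraMap P C s.1 = 1 from s.2]; exact isUnit_one,
      fun c => ⟨((1 : B) ⊗ₜ[A] c, 1), by simp [hμ]⟩, fun {x y} hxy => ?_⟩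
    have hw : WLocalLib.toTens (A := A) (B := B) B C (x - y) = 0 := by
      have e : ∀ v : B ⊗[A] C, TensorProduct.lid B C (WLocalLib.toTens (A := A) (B := B) B C v) = algebraMap P C v := fun v => by
        induction v using TensorProduct.induction_on with
        | zero => simp
        | tmul b c => rw [WLocalLib.toTens_tmul, TensorProduct.lid_tmul, hμ, Algebra.smul_def]
        | add a b ha hb => simp only [map_add, ha, hb]
      apply (TensorProduct.lid B C).injective
      rw [e, map_zero, map_sub, hxy, sub_self]
    obtain ⟨s, hs, hsw⟩ := WLocalLib.mem_killed_of_toTens (A := A) (B := B) B C hw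
    let ρ : B ⊗[A] B →ₐ[A] P := Algebra.TensorProduct.map (AlgHom.id A B) (IsScalarTower.toAlgHom A B C)
    have hρ : ∀ (t : B ⊗[A] B) (v : B ⊗[A] C), WLocalLib.biAct B C t v = ρ t * v := fun t v => by
      induction t using TensorProduct.induction_on with
      | zero => simp
      | tmul b b' =>
        induction v using TensorProduct.induction_on with
        | zero => simp
        | tmul c d =>
          rw [WLocalLib.biAct_tmul, Algebra.smul_def, Algebra.smul_def]
          exact ((congrArg (· * (c ⊗ₜ[A] d)) (show ρ (b ⊗ₜ[A] b') = b ⊗ₜ[A] algebraMap B C b' from rfl)).trans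
            (Algebra.TensorProduct.tmul_mul_tmul _ _ _ _)).symm
        | add a a' ha ha' => simp only [map_add, mul_add, ha, ha']
      | add a a' ha ha' => simp only [map_add, LinearMap.add_apply, add_mul, ha, ha']
    have hs' : ∀ t, algebraMap P C (ρ t) = algebraMap B C (Algebra.TensorProduct.lmul' A (S := B) t) := fun t => by
      induction t using TensorProduct.induction_on with
      | zero => simp
      | tmul b b' =>
        refine ((congrArg (algebraMap P C) (show ρ (b ⊗ₜ[A] b') = b ⊗ₜ[A] algebraMap B C b' from rfl)).trans (hμ _ _)).trans ?_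
        rw [Algebra.TensorProduct.lmul'_apply_tmul, map_mul]
      | add a a' ha ha' => rw [map_add ρ, map_add (algebraMap P C), ha, ha', map_add, map_add]
    refine ⟨⟨ρ s, show algebraMap P C (ρ s) = 1 by rw [hs' s, hs, map_one]⟩, ?_⟩
    rw [hρ, mul_sub, sub_eq_zero] at hsw
    exact hsw
  have e : algebraMap B C = (algebraMap P C).comp (algebraMap B P) := RingHom.ext fun b => by
    simp [hμ, P, Algebra.TensorProduct.algebraMap_apply]
  rw [e, CommRingCat.ofHom_comp]
  exact MorphismProperty.comp_mem _ _ _ h₁ (indSmooth_localization S C)

end Groth.Agent.SmoothBCLib
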