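import Groth.Agent.SmoothBCLib.Invariance
import Groth.Agent.SmoothBCLib.IndSmoothCancel
import Groth.Agent.CompBCLib.Killed
import Groth.Agent.PBCLib.Fibration
import Groth.Agent.EtTraceLib.ConstSect

/-!
# Local acyclicity, given acyclicity of the henselized line
-/

set_option autoImplicit false
set_option linter.style.haveILetI false
set_option backward.isDefEq.respectTransparency false
set_option backward.isDefEq.respectTransparency.types false
set_option maxHeartbeats 2000000
set_option synthInstance.maxHeartbeats 400000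

universe u

open CategoryTheory CategoryTheory.Limits AlgebraicGeometry Opposite IsLocalRing
open scoped TensorProduct

noncomputable section

namespace Groth.Agent.SmoothBCLib

attribute [local instance] Groth.Agent.S0101.result

/-- Spectra of ind-smooth ring maps have ind-smooth strict localizations. -/
theorem indSmoothLoc_specMap {A B : CommRingCat.{u}} (φ : A ⟶ B) (hφ : MorphismProperty.ind.{u} smoothProp.{u} φ) :
    IndSmoothLoc (Spec.map φ) :=
  indSmoothLoc_baseChange φ hφ (𝟙 _) (Spec.map φ) (𝟙 _) (IsPullback.of_vert_isIso ⟨by simp⟩)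

variable {X Y : Scheme.{u}} {g : X ⟶ Y}

/-- The induced morphisms of strict localizations are again ind-smooth. -/
theorem IndSmoothLoc.indSmooth_strictLoc (hg : IndSmoothLoc g) (x : X) (RY RX : Type u) [CommRing RY] [CommRing RX]
    [IsLocalRing RY] [IsLocalRing RX] [Algebra (Y.presheaf.stalk (g.base x)) RY]
    [IsLocalHom (algebraMap (Y.presheaf.stalk (g.base x)) RY)]
    [Hensel.IsStrictHenselization (Y.presheaf.stalk (g.base x)) RY]
    [Algebra (X.presheaf.stalk x) RX] [IsLocalHom (algebraMap (X.presheaf.stalk x) RX)]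
    [Hensel.IsStrictHenselization (X.presheaf.stalk x) RX] [Algebra RY RX]
    (hψ : (algebraMap RY RX).comp (algebraMap (Y.presheaf.stalk (g.base x)) RY) =
      (algebraMap (X.presheaf.stalk x) RX).comp (g.stalkMap x).hom) :
    MorphismProperty.ind.{u} smoothProp.{u} (CommRingCat.ofHom (algebraMap RY RX)) := by
  obtain ⟨V, hV, hs, hind⟩ := hg x RX
  let A := Γ(Y, V)
  letI : Algebra A (Y.presheaf.stalk (g.base x)) := (Y.presheaf.germ V (g.base x) hs).hom.toAlgebra
  haveI : IsLocalization.AtPrime (Y.presheaf.stalk (g.base x)) (hV.primeIdealOf ⟨g.base x, hs⟩).asIdeal :=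
    hV.isLocalization_stalk ⟨g.base x, hs⟩
  haveI := WLocalLib.weaklyEtale_of_isLocalization (B := A) (B' := Y.presheaf.stalk (g.base x))
    (hV.primeIdealOf ⟨g.base x, hs⟩).asIdeal.primeCompl
  haveI := S1467.weaklyEtale_sh (Y.presheaf.stalk (g.base x)) RY
  letI : Algebra A RY := ((algebraMap (Y.presheaf.stalk (g.base x)) RY).comp
    (algebraMap A (Y.presheaf.stalk (g.base x)))).toAlgebra
  haveI : IsScalarTower A (Y.presheaf.stalk (g.base x)) RY := IsScalarTower.of_algebraMap_eq fun _ => rfl
  haveI : Algebra.WeaklyEtale A RY := Algebra.WeaklyEtale.trans A (Y.presheaf.stalk (g.base x)) RY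
  letI : Algebra A RX :=
    (Y.presheaf.germ V (g.base x) hs ≫ g.stalkMap x ≫ CommRingCat.ofHom (algebraMap (X.presheaf.stalk x) RX)).hom.toAlgebra
  haveI : IsScalarTower A RY RX := IsScalarTower.of_algebraMap_eq fun v =>
    (RingHom.congr_fun hψ ((Y.presheaf.germ V (g.base x) hs).hom v)).symm
  exact indSmooth_cancel (A := A) hind

/-- Local homomorphisms of strictly henselian local rings satisfy the comparison condition. -/
theorem compN_local {R S : Type u} [CommRing R] [CommRing S] [HenselianLocalRing R] [HenselianLocalRing S]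
    [IsSepClosed (ResidueField R)] [IsSepClosed (ResidueField S)] (φ : R →+* S) [IsLocalHom φ] (L : Set ℕ) (n : ℕ) :
    EtAcyc.CompN (Spec.map (CommRingCat.ofHom φ)) L n := by
  let a := Spec.map (CommRingCat.ofHom (residue S))
  let b := Spec.map (CommRingCat.ofHom (residue R))
  let c := Spec.map (CommRingCat.ofHom (ResidueField.map φ))
  have w : a ≫ Spec.map (CommRingCat.ofHom φ) = c ≫ b := by
    simp only [a, b, c, ← Spec.map_comp, ← CommRingCat.ofHom_comp]
    rfl
  have ha : EtAcyc.CompN a L n := fun F _ _ =>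
    ⟨fun q _ => Groth.Agent.S3073.result S F q, (Groth.Agent.S3073.result S F (n + 1)).1⟩
  have hb : EtAcyc.CompN b L n := fun F _ _ =>
    ⟨fun q _ => Groth.Agent.S3073.result R F q, (Groth.Agent.S3073.result R F (n + 1)).1⟩
  have hcb := (AcycCompLib.compN_comp_iff b c (c ≫ b) rfl L n (compN_sepClosed_point c L n)).1 hb
  exact (AcycCompLib.compN_comp_iff (Spec.map (CommRingCat.ofHom φ)) a (c ≫ b) w L n ha).2 hcb

/-- Primes invertible in the residue field of a point of the total space are invertible on the strict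
localization of the base. -/
theorem invertible_strictLoc {RY RX : Type u} [CommRing RY] [CommRing RX] [IsLocalRing RY] [IsLocalRing RX]
    (x : X) [Algebra (X.presheaf.stalk x) RX] [IsLocalHom (algebraMap (X.presheaf.stalk x) RX)]
    [Algebra RY RX] {p : ℕ} (hp : p.Prime) (hx : (p : X.residueField x) ≠ 0) [IsLocalHom (algebraMap RY RX)] :
    p ∈ EtAcyc.primesInvertibleOn (Spec (CommRingCat.of RY)) := by
  refine ⟨hp, invOn_iff.1 ?_⟩
  rw [InvOn, ← isUnit_map_iff (Scheme.ΓSpecIso (CommRingCat.of RY)).commRingCatIsoToRingEquiv, map_natCast]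
  have h1 : IsUnit ((p : X.presheaf.stalk x)) := by
    refine notMem_maximalIdeal.1 fun h => hx ?_
    have h2 := (residue_eq_zero_iff _).2 h
    rwa [map_natCast] at h2
  have h3 : IsUnit (algebraMap RY RX (p : RY)) := by
    rw [map_natCast, ← map_natCast (algebraMap (X.presheaf.stalk x) RX)]
    exact h1.map _
  exact (isUnit_map_iff (algebraMap RY RX) _).1 h3

variable (hkey : HenLineKey.{u})

include hkey

/-- **Local acyclicity**, at a point. -/
theorem IndSmoothLoc.bcInv_strictLoc (hg : IndSmoothLoc g) (x : X) (RY RX : Type u) [CommRing RY] [CommRing RX]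
    [IsLocalRing RY] [IsLocalRing RX] [Algebra (Y.presheaf.stalk (g.base x)) RY]
    [IsLocalHom (algebraMap (Y.presheaf.stalk (g.base x)) RY)]
    [Hensel.IsStrictHenselization (Y.presheaf.stalk (g.base x)) RY]
    [Algebra (X.presheaf.stalk x) RX] [IsLocalHom (algebraMap (X.presheaf.stalk x) RX)]
    [Hensel.IsStrictHenselization (X.presheaf.stalk x) RX] [Algebra RY RX]
    (hψ : (algebraMap RY RX).comp (algebraMap (Y.presheaf.stalk (g.base x)) RY) =
      (algebraMap (X.presheaf.stalk x) RX).comp (g.stalkMap x).hom) {L : Set ℕ}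
    (hL : L ⊆ EtAcyc.primesInvertibleOn (Spec (CommRingCat.of RY))) :
    BCInv (Spec.map (CommRingCat.ofHom (algebraMap RY RX))) L :=
  bcInv_indSmoothLoc hkey (indSmoothLoc_specMap _ (hg.indSmooth_strictLoc x RY RX hψ)) hL

/-- Morphisms with ind-smooth strict localizations are locally acyclic. -/
theorem IndSmoothLoc.isLocAcyclicN (hg : IndSmoothLoc g) {L : Set ℕ} (hL : L ⊆ EtAcyc.primesInvertibleOn X) (n : ℕ) :
    EtAcyc.IsLocAcyclicN g L n := by
  intro x RY RX _ _ _ _ _ _ _ _ _ _ _ _ hψ
  haveI := Hensel.IsStrictHenselization.henselian (R := Y.presheaf.stalk (g.base x)) (S := RY)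
  haveI := Hensel.IsStrictHenselization.henselian (R := X.presheaf.stalk x) (S := RX)
  haveI : IsSepClosed (ResidueField RY) :=
    (Hensel.IsStrictHenselization.isSepClosure (R := Y.presheaf.stalk (g.base x)) (S := RY)).sep_closed
  haveI : IsSepClosed (ResidueField RX) :=
    (Hensel.IsStrictHenselization.isSepClosure (R := X.presheaf.stalk x) (S := RX)).sep_closed
  exact isAcyclicN_of_bcInv
    (hg.bcInv_strictLoc hkey x RY RX hψ fun p hp => invertible_strictLoc (RX := RX) x (hL hp).1 ((hL hp).2 x)) n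
    (compN_local _ L n)

/-- Cohomology of the geometric fibres of strict localizations. -/
theorem IndSmoothLoc.geomFibre (hg : IndSmoothLoc g) (x : X)
    (RS RX : Type u) [CommRing RS] [CommRing RX] [IsLocalRing RS] [IsLocalRing RX]
    [Algebra (Y.presheaf.stalk (g.base x)) RS] [IsLocalHom (algebraMap (Y.presheaf.stalk (g.base x)) RS)]
    [Hensel.IsStrictHenselization (Y.presheaf.stalk (g.base x)) RS]
    [Algebra (X.presheaf.stalk x) RX] [IsLocalHom (algebraMap (X.presheaf.stalk x) RX)]
    [Hensel.IsStrictHenselization (X.presheaf.stalk x) RX]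
    [Algebra RS RX] [IsLocalHom (algebraMap RS RX)]
    (hψ : (algebraMap RS RX).comp (algebraMap (Y.presheaf.stalk (g.base x)) RS) =
      (algebraMap (X.presheaf.stalk x) RX).comp (g.stalkMap x).hom)
    (Ω : Type u) [Field Ω] [IsSepClosed Ω] [Algebra RS Ω] (n : ℕ) (hn : (n : X.residueField x) ≠ 0) (q : ℕ) :
    (0 < q → Subsingleton (EtCoh.H (Spec (CommRingCat.of (RX ⊗[RS] Ω)))
      (EtCoh.const (Spec (CommRingCat.of (RX ⊗[RS] Ω))) (ZMod n)) q)) ∧
    Nonempty (EtCoh.H (Spec (CommRingCat.of (RX ⊗[RS] Ω)))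
      (EtCoh.const (Spec (CommRingCat.of (RX ⊗[RS] Ω))) (ZMod n)) 0 ≃+ ZMod n) := by
  haveI := Hensel.IsStrictHenselization.henselian (R := Y.presheaf.stalk (g.base x)) (S := RS)
  haveI := Hensel.IsStrictHenselization.henselian (R := X.presheaf.stalk x) (S := RX)
  haveI : IsSepClosed (ResidueField RS) :=
    (Hensel.IsStrictHenselization.isSepClosure (R := Y.presheaf.stalk (g.base x)) (S := RS)).sep_closed
  haveI : IsSepClosed (ResidueField RX) :=
    (Hensel.IsStrictHenselization.isSepClosure (R := X.presheaf.stalk x) (S := RX)).sep_closed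
  have hn0 : n ≠ 0 := fun h => hn (by rw [h, Nat.cast_zero])
  have hpr : EtAcyc.PrimesIn (EtAcyc.primesInvertibleOn (Spec (CommRingCat.of RS))) n := by
    refine ⟨Nat.pos_of_ne_zero hn0, fun p hp hd => invertible_strictLoc (RX := RX) x hp fun h => hn ?_⟩
    obtain ⟨k, rfl⟩ := hd
    rw [Nat.cast_mul, h, zero_mul]
  let XΩ := Spec (CommRingCat.of (RX ⊗[RS] Ω))
  let pr : XΩ ⟶ Spec (CommRingCat.of Ω) :=
    Spec.map (CommRingCat.ofHom (Algebra.TensorProduct.includeRight.toRingHom : Ω →+* RX ⊗[RS] Ω))
  have sq : IsPullback pr (Spec.map (CommRingCat.ofHom Algebra.TensorProduct.includeLeftRingHom))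
      (Spec.map (CommRingCat.ofHom (algebraMap RS Ω))) (Spec.map (CommRingCat.ofHom (algebraMap RS RX))) :=
    (isPullback_SpecMap_of_isPushout _ _ _ _ (CommRingCat.isPushout_tensorProduct RS RX Ω)).flip
  haveI := PBCLib.isSepClosed_residueField_self Ω
  have hΩ : EtAcyc.IsLTorsion (EtAcyc.primesInvertibleOn (Spec (CommRingCat.of RS)))
      (EtCoh.const (Spec (CommRingCat.of Ω)) (ZMod n)) :=
    CompBCLib.isLTorsion_of_killedBy hpr (PBCLib.killedBy_const _ n)
  have hb : ∀ r, Function.Bijective (EtCore.Hpull pr (EtCoh.const (Spec (CommRingCat.of Ω)) (ZMod n)) r) := fun r =>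
    (compN_of_bcInv (hg.bcInv_strictLoc hkey x RS RX hψ subset_rfl) r (compN_local _ _ r) _ _ pr sq _ hΩ).1 r le_rfl
  have he : ∀ r, Nonempty (EtCoh.H (Spec (CommRingCat.of Ω)) (EtCoh.const (Spec (CommRingCat.of Ω)) (ZMod n)) r ≃+
      EtCoh.H XΩ (EtCoh.const XΩ (ZMod n)) r) := fun r =>
    ⟨(AddEquiv.ofBijective _ (hb r)).trans
      ((EtCoh.HF XΩ r).mapIso (EtCore.pullConst pr (ZMod n))).addCommGroupIsoToAddEquiv⟩
  refine ⟨fun hq => ?_, ?_⟩
  · haveI := Groth.Agent.S0073.result Ω (EtCoh.const (Spec (CommRingCat.of Ω)) (ZMod n)) q hq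
    exact (he q).some.symm.injective.subsingleton
  · haveI : Unique (EtCoh.top (Spec (CommRingCat.of Ω))).left := inferInstanceAs (Unique (Spec (CommRingCat.of Ω)))
    let ev : LocallyConstant (EtCoh.top (Spec (CommRingCat.of Ω))).left (ULift.{u + 1} (ZMod n)) ≃+ ULift.{u + 1} (ZMod n) :=
      AddEquiv.mk' { toFun := fun f => f default
                     invFun := fun c => LocallyConstant.const _ c
                     left_inv := fun f => LocallyConstant.ext fun y => congrArg f (Unique.eq_default y).symm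
                     right_inv := fun _ => rfl } fun _ _ => rfl
    exact ⟨(he 0).some.symm.trans (((Sheaf.H.equiv₀ _ (EtCore.topIsTerminal (Spec (CommRingCat.of Ω)))).trans
      (EtTraceLib.constEquiv (AddCommGrpCat.of (ULift.{u + 1} (ZMod n))) (EtCoh.top _))).trans (ev.trans AddEquiv.ulift))⟩

omit hkey

end Groth.Agent.SmoothBCLib
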