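import Groth.Agent.SmoothBCLib.CompLimit
import Groth.Agent.SmoothBCLib.IndSmoothCancel
import Groth.Agent.SmoothBCLib.LocAcyclic
import Groth.Agent.S8560
import Groth.Agent.S8537
import Groth.Agent.EtPtsLib.IntegralBCIso
import Groth.Agent.S3054

/-!
# Geometric fibres of acyclic morphisms are acyclic
-/

set_option autoImplicit false
set_option linter.style.haveILetI false
set_option backward.isDefEq.respectTransparency false
set_option backward.isDefEq.respectTransparency.types false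
set_option maxHeartbeats 2000000
set_option synthInstance.maxHeartbeats 400000

universe u

open CategoryTheory CategoryTheory.Limits AlgebraicGeometry Opposite IsLocalRing

noncomputable section

namespace Groth.Agent.SmoothBCLib

attribute [local instance] Groth.Agent.S0101.result

/-- Integral morphisms satisfy base change in every degree. -/
theorem isIso_bcQ_integral {X S X' S' : Scheme.{u}} (f : X ⟶ S) (g : S' ⟶ S) (f' : X' ⟶ S') (g' : X' ⟶ X)
    (h : IsPullback g' f' f g) [IsIntegralHom f] [PreservesFiniteLimits (EtCoh.pull g')] (F : EtCoh.Ab X) (q : ℕ) :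
    IsIso (EtBC.bcQ f g f' g' h.w q F) := by
  haveI : IsIntegralHom f' := MorphismProperty.of_isPullback h ‹_›
  haveI := EtPtsLib.isIso_baseChange0 f g f' g' h F
  rcases q with _ | q
  · haveI : PreservesFiniteLimits (EtCoh.push f) :=
      (EtCoh.pullPushAdj f).rightAdjoint_preservesLimits.{0, 0}.preservesFiniteLimits
    haveI : PreservesFiniteLimits (EtCoh.push f') :=
      (EtCoh.pullPushAdj f').rightAdjoint_preservesLimits.{0, 0}.preservesFiniteLimits
    haveI : IsIso ((EtCoh.pull g).map ((EtCoh.push f).toRightDerivedZero.app F) ≫ EtBC.bcQ f g f' g' h.w 0 F) := by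
      rw [EtBC.bcQ_zero_compat f g f' g' h.w F]
      infer_instance
    exact IsIso.of_isIso_comp_left ((EtCoh.pull g).map ((EtCoh.push f).toRightDerivedZero.app F)) _
  · haveI : (EtCoh.pull g).Additive := (EtCoh.pullPushAdj g).left_adjoint_additive
    exact isIso_of_source_target_iso_zero _
      ((EtCoh.pull g).map_isZero (S3054.result f F (q + 1) q.succ_pos)).isoZero
      (S3054.result f' _ (q + 1) q.succ_pos).isoZero

/-- Cohomology of a constant sheaf in degree zero detects connectedness. -/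
theorem connected_of_H0_const {X : Scheme.{u}} {ℓ : ℕ} (hℓ : ℓ.Prime)
    (e : EtCoh.H X (EtCoh.const X (ZMod ℓ)) 0 ≃ ZMod ℓ) : Nonempty X ∧ ConnectedSpace X := by
  haveI : Fact ℓ.Prime := ⟨hℓ⟩
  let E : LocallyConstant X (ULift.{u + 1} (ZMod ℓ)) ≃ ZMod ℓ :=
    ((Sheaf.H.equiv₀ (EtCoh.const X (ZMod ℓ)) (EtCore.topIsTerminal X)).trans
      (EtTraceLib.constEquiv (AddCommGrpCat.of (ULift.{u + 1} (ZMod ℓ))) (EtCoh.top X))).toEquiv.symm.trans e
  have hne : Nonempty X := by
    by_contra h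
    haveI := not_nonempty_iff.1 h
    haveI : Subsingleton (LocallyConstant X (ULift.{u + 1} (ZMod ℓ))) :=
      ⟨fun a b => LocallyConstant.ext fun x => isEmptyElim x⟩
    haveI := E.symm.subsingleton
    exact absurd (Subsingleton.elim (0 : ZMod ℓ) 1) zero_ne_one
  refine ⟨hne, ?_⟩
  obtain ⟨x₀⟩ := hne
  let c : ULift.{u + 1} (ZMod ℓ) → LocallyConstant X (ULift.{u + 1} (ZMod ℓ)) := LocallyConstant.const X
  have hc : Function.Injective c := fun a b hab => congrArg (fun f => f x₀) hab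
  haveI : Finite (LocallyConstant X (ULift.{u + 1} (ZMod ℓ))) := Finite.of_equiv _ E.symm
  have hcs : Function.Surjective c :=
    ((Nat.bijective_iff_injective_and_card c).2 ⟨hc, Nat.card_congr (Equiv.ulift.trans E.symm)⟩).2
  haveI : Nonempty X := ⟨x₀⟩
  rw [connectedSpace_iff_clopen]
  refine ⟨inferInstance, fun s hs => ?_⟩
  classical
  obtain ⟨a, ha⟩ := hcs (
    ({ toFun := fun x => if x ∈ s then ULift.up 1 else ULift.up 0
       isLocallyConstant := (IsLocallyConstant.iff_exists_open _).2 fun x => by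
        by_cases hx : x ∈ s
        · exact ⟨s, hs.2, hx, fun y hy => by simp [hx, hy]⟩
        · exact ⟨sᶜ, hs.1.isOpen_compl, hx, fun y (hy : y ∉ s) => by simp [hx, hy]⟩ } :
      LocallyConstant X (ULift.{u + 1} (ZMod ℓ))))
  by_contra hcon
  rw [not_or] at hcon
  obtain ⟨x, hx⟩ := Set.nonempty_iff_ne_empty.2 hcon.1
  obtain ⟨y, hy⟩ := (Set.ne_univ_iff_exists_notMem _).1 hcon.2
  have h1 : a = ULift.up 1 := by simpa [c, hx] using congrArg (fun f => f x) ha
  have h2 : a = ULift.up 0 := by simpa [c, hy] using congrArg (fun f => f y) ha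
  exact zero_ne_one (congrArg ULift.down (h2.symm.trans h1))

variable {X Y : Scheme.{u}} (g : X ⟶ Y) [QuasiCompact g] [QuasiSeparated g] {L : Set ℕ} {n : ℕ}

/-- Acyclicity passes to the spectra of the local rings. -/
theorem compN_localRing (hg : EtAcyc.IsAcyclicN g L n) (y : Y) :
    EtAcyc.CompN (pullback.snd g (Y.fromSpecStalk y)) L n := by
  obtain ⟨U, hU, hyU, -⟩ := exists_isAffineOpen_mem_and_subset (x := y) (U := ⊤) trivial
  let A := Γ(Y, U)
  letI : Algebra A (Y.presheaf.stalk y) := Y.presheaf.algebra_section_stalk (U := U) ⟨y, hyU⟩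
  haveI : IsLocalization.AtPrime (Y.presheaf.stalk y) (hU.primeIdealOf ⟨y, hyU⟩).asIdeal :=
    hU.isLocalization_stalk ⟨y, hyU⟩
  let M := (hU.primeIdealOf ⟨y, hyU⟩).asIdeal.primeCompl
  let E : (ProEtLib2.DvdIdx M) ⥤ CommRingCat.{u} := ProEtLib2.awayDiagram M
  let D : (ProEtLib2.DvdIdx M)ᵒᵖ ⥤ Scheme.{u} := E.op ⋙ Scheme.Spec
  let t : ∀ i, D.obj i ⟶ Y := fun i =>
    Spec.map (CommRingCat.ofHom (algebraMap A (Localization.Away i.unop.val))) ≫ hU.fromSpec
  have ht : ∀ ⦃i j : (ProEtLib2.DvdIdx M)ᵒᵖ⦄ (a : i ⟶ j), D.map a ≫ t j = t i := fun i j a => by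
    show Spec.map (E.map a.unop) ≫ Spec.map _ ≫ hU.fromSpec = _
    rw [← Category.assoc, ← Spec.map_comp]
    exact congrArg (fun k => Spec.map k ≫ hU.fromSpec) (CommRingCat.hom_ext (RingHom.ext fun x =>
      ProEtLib2.awayMap_algebraMap (leOfHom a.unop) x))
  let c : Cone D := Scheme.Spec.mapCone (ProEtLib2.awayCocone M (Y.presheaf.stalk y)).op
  have hc : IsLimit c := isLimitOfPreserves Scheme.Spec (ProEtLib2.isColimitAwayCocone M (Y.presheaf.stalk y)).op
  have hτ : ∀ i, c.π.app i ≫ t i = Y.fromSpecStalk y := fun i => by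
    show Spec.map _ ≫ Spec.map _ ≫ hU.fromSpec = _
    rw [← Category.assoc, ← Spec.map_comp, ← hU.fromSpecStalk_eq_fromSpecStalk hyU]
    exact congrArg (fun k => Spec.map k ≫ hU.fromSpec) (CommRingCat.hom_ext (RingHom.ext fun x =>
      ProEtLib2.toLoc_algebraMap M (Y.presheaf.stalk y) i.unop x))
  haveI : ∀ i, IsAffine (D.obj i) := fun i => inferInstanceAs (IsAffine (Spec _))
  haveI : ∀ i, IsOpenImmersion (t i) := fun i => inferInstance
  have hst : ∀ i, EtAcyc.CompN (pullback.snd g (t i)) L n := fun i => by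
    have H := hg (Scheme.Etale.mk (t i))
    exact (AcycCompLib.compN_comp_iff (pullback.fst (t i) g) (pullbackSymmetry g (t i)).hom (pullback.snd g (t i))
      (pullbackSymmetry_hom_comp_fst g (t i)) L n (AcycCompLib.compN_of_isIso _ L n)).1 H
  intro F hF _
  let i₀ : ProEtLib2.DvdIdx M := ⟨1, M.one_mem⟩
  let u₀ : c.pt ⟶ D.obj (op i₀) := c.π.app (op i₀)
  have hind : IndSmoothLoc u₀ := by
    refine indSmoothLoc_specMap (CommRingCat.ofHom (ProEtLib2.toLoc M (Y.presheaf.stalk y) i₀)) ?_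
    letI : Algebra (Localization.Away i₀.val) (Y.presheaf.stalk y) := (ProEtLib2.toLoc M (Y.presheaf.stalk y) i₀).toAlgebra
    haveI : IsScalarTower A (Localization.Away i₀.val) (Y.presheaf.stalk y) :=
      IsScalarTower.of_algebraMap_eq fun x => (ProEtLib2.toLoc_algebraMap M (Y.presheaf.stalk y) i₀ x).symm
    haveI : Algebra.WeaklyEtale A (Localization.Away i₀.val) :=
      WLocalLib.weaklyEtale_of_isLocalization (B := A) (B' := Localization.Away i₀.val) (Submonoid.powers i₀.val)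
    exact indSmooth_cancel (A := A) (indSmooth_localization M (Y.presheaf.stalk y))
  haveI : Mono (u₀ ≫ t (op i₀)) := by rw [hτ]; infer_instance
  haveI : Mono u₀ := mono_of_mono u₀ (t (op i₀))
  haveI : IsAffine c.pt := inferInstanceAs (IsAffine (Spec _))
  haveI : QuasiCompact u₀ := inferInstance
  haveI : QuasiSeparated u₀ := inferInstance
  have hbc := hind.isIso_baseChange0 u₀ (𝟙 _) (𝟙 _) (IsPullback.of_isLimit (PullbackCone.isLimitMkIdId u₀)) F
  haveI : IsIntegralHom (𝟙 c.pt) := inferInstance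
  let σ : (EtCoh.pull u₀).obj ((EtCoh.push u₀).obj F) ≅ F := by
    haveI := hbc
    haveI := isIso_unit_univHomeo (𝟙 c.pt) F
    exact asIso (EtCoh.baseChange0 u₀ u₀ (𝟙 _) (𝟙 _) _ F) ≪≫ (asIso ((EtCoh.pullPushAdj (𝟙 c.pt)).unit.app F)).symm
  have hG : EtAcyc.IsLTorsion L ((EtCoh.push u₀).obj F) := by
    haveI : PreservesFiniteLimits (EtCoh.push u₀) :=
      (EtCoh.pullPushAdj u₀).rightAdjoint_preservesLimits.{0, 0}.preservesFiniteLimits
    exact RpushTorsLib.isLTorsion_of_iso (asIso ((EtCoh.push u₀).toRightDerivedZero.app F)).symm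
      (S8560.result u₀ L F hF 0)
  have H := comp_limit D t ht g c (Y.fromSpecStalk y) hτ (fun i => inferInstance) (fun i => inferInstance)
    (fun {i j} a => inferInstance) hc hst i₀ _ hG
  have key : ∀ q, (Function.Bijective (EtCore.Hpull (pullback.snd g (Y.fromSpecStalk y)) ((EtCoh.pull u₀).obj ((EtCoh.push u₀).obj F)) q) →
      Function.Bijective (EtCore.Hpull (pullback.snd g (Y.fromSpecStalk y)) F q)) ∧
      (Function.Injective (EtCore.Hpull (pullback.snd g (Y.fromSpecStalk y)) ((EtCoh.pull u₀).obj ((EtCoh.push u₀).obj F)) q) →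
      Function.Injective (EtCore.Hpull (pullback.snd g (Y.fromSpecStalk y)) F q)) := fun q => by
    let v := pullback.snd g (Y.fromSpecStalk y)
    have hb1 := ConcreteCategory.bijective_of_isIso ((EtCoh.HF c.pt q).map σ.hom)
    have hb2 := ConcreteCategory.bijective_of_isIso ((EtCoh.HF _ q).map ((EtCoh.pull v).map σ.hom))
    have hsq : ⇑(EtCore.Hpull v F q) ∘ ⇑((EtCoh.HF c.pt q).map σ.hom).hom =
        ⇑((EtCoh.HF _ q).map ((EtCoh.pull v).map σ.hom)).hom ∘
          ⇑(EtCore.Hpull v ((EtCoh.pull u₀).obj ((EtCoh.push u₀).obj F)) q) :=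
      funext fun x => CompBCLib.Hpull_map v σ.hom x
    refine ⟨fun hq => (Function.Bijective.of_comp_iff _ hb1).1 ?_, fun hq => (Function.Injective.of_comp_iff' _ hb1).1 ?_⟩
    · rw [hsq]; exact hb2.comp hq
    · rw [hsq]; exact hb2.1.comp hq
  exact ⟨fun q hq => (key q).1 (H.1 q hq), (key (n + 1)).2 H.2⟩

/-- **Geometric fibres of acyclic morphisms are acyclic.** -/
theorem geomFibresAcyclicN_of_isAcyclicN (hL : ∃ ℓ ∈ L, ℓ.Prime) (hg : EtAcyc.IsAcyclicN g L n) :
    EtAcyc.GeomFibresAcyclicN L n g := by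
  intro y Ω _ _ _ _
  let τ := Y.fromSpecStalk y
  let gO := pullback.snd g τ
  let φ : Y.presheaf.stalk y →+* Ω := (algebraMap (Y.residueField y) Ω).comp (Y.residue y).hom
  let p := Spec.map (CommRingCat.ofHom φ)
  have hp : p ≫ τ = EtAcyc.geomPt Y y Ω := by
    show _ = Spec.map _ ≫ Spec.map _ ≫ _
    rw [← Category.assoc, ← Spec.map_comp]
    rfl
  haveI : IsIntegralHom p := by
    refine IsIntegralHom.SpecMap_iff.2 ?_
    refine RingHom.IsIntegral.trans _ _ (RingHom.isIntegral_of_surjective _ (Y.residue_surjective y)) ?_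
    exact fun x => (Algebra.IsAlgebraic.isAlgebraic x).isIntegral
  let hb := pullback.snd g (EtAcyc.geomPt Y y Ω)
  let pY : pullback g (EtAcyc.geomPt Y y Ω) ⟶ pullback g τ :=
    pullback.lift (pullback.fst _ _) (hb ≫ p) (by rw [Category.assoc, hp]; exact pullback.condition)
  have sq : IsPullback hb pY p gO := by
    refine (IsPullback.of_right (h₁₁ := pY) (v₁₁ := hb) (h₂₁ := p) ?_ (pullback.lift_snd _ _ _)
      (IsPullback.of_hasPullback g τ)).flip
    rw [pullback.lift_fst, hp]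
    exact IsPullback.of_hasPullback g _
  haveI : CompactSpace ↥(pullback g τ) := QuasiCompact.compactSpace_of_compactSpace gO
  haveI : QuasiSeparatedSpace ↥(pullback g τ) := quasiSeparatedSpace_of_quasiSeparated gO
  haveI : CompactSpace ↥(pullback g (EtAcyc.geomPt Y y Ω)) := QuasiCompact.compactSpace_of_compactSpace hb
  haveI : QuasiSeparatedSpace ↥(pullback g (EtAcyc.geomPt Y y Ω)) := quasiSeparatedSpace_of_quasiSeparated hb
  have hcomp : EtAcyc.CompN hb L n := S8537.result gO p hb pY sq L n (compN_localRing g hg y) fun Fb _ =>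
    ⟨fun i _ => isIso_bcQ_integral p gO pY hb sq Fb i,
      haveI := isIso_bcQ_integral p gO pY hb sq Fb (n + 1); inferInstance⟩
  haveI := PBCLib.isSepClosed_residueField_self Ω
  have he : ∀ ℓ : ℕ, ℓ.Prime → ℓ ∈ L → ∀ r ≤ n,
      Nonempty (EtCoh.H (Spec (CommRingCat.of Ω)) (EtCoh.const _ (ZMod ℓ)) r ≃+
        EtCoh.H (pullback g (EtAcyc.geomPt Y y Ω)) (EtCoh.const _ (ZMod ℓ)) r) := fun ℓ hℓ hℓL r hr => by
    have hb' := (hcomp _ (CompBCLib.isLTorsion_of_killedBy
      ⟨hℓ.pos, fun p hp hd => ((Nat.prime_dvd_prime_iff_eq hp hℓ).1 hd).symm ▸ hℓL⟩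
      (PBCLib.killedBy_const (Spec (CommRingCat.of Ω)) ℓ))).1 r hr
    exact ⟨(AddEquiv.ofBijective _ hb').trans
      ((EtCoh.HF _ r).mapIso (EtCore.pullConst hb (ZMod ℓ))).addCommGroupIsoToAddEquiv⟩
  obtain ⟨ℓ₀, hℓ₀L, hℓ₀⟩ := hL
  haveI : Unique (EtCoh.top (Spec (CommRingCat.of Ω))).left := inferInstanceAs (Unique (Spec (CommRingCat.of Ω)))
  let ev : LocallyConstant (EtCoh.top (Spec (CommRingCat.of Ω))).left (ULift.{u + 1} (ZMod ℓ₀)) ≃ ULift.{u + 1} (ZMod ℓ₀) :=
    { toFun := fun f => f default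
      invFun := fun c => LocallyConstant.const _ c
      left_inv := fun f => LocallyConstant.ext fun y => congrArg f (Unique.eq_default y).symm
      right_inv := fun _ => rfl }
  obtain ⟨hne, hconn⟩ := connected_of_H0_const hℓ₀ (((he ℓ₀ hℓ₀ hℓ₀L 0 n.zero_le).some.symm.toEquiv.trans
    (((Sheaf.H.equiv₀ _ (EtCore.topIsTerminal (Spec (CommRingCat.of Ω)))).trans
      (EtTraceLib.constEquiv (AddCommGrpCat.of (ULift.{u + 1} (ZMod ℓ₀))) (EtCoh.top _))).toEquiv.trans (ev.trans Equiv.ulift))))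
  refine ⟨hne, hconn, fun ℓ hℓ hℓL q hq hqn => ?_⟩
  haveI := S0073.result Ω (EtCoh.const (Spec (CommRingCat.of Ω)) (ZMod ℓ)) q hq
  exact (he ℓ hℓ hℓL q hqn).some.symm.injective.subsingleton

end Groth.Agent.SmoothBCLib
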