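import Groth.Agent.SmoothBCLib.VCLocAcyclic
import Groth.Agent.S8525

/-!
# Locally constant torsion sheaves on acyclic schemes over strictly henselian spectra
-/

set_option autoImplicit false
set_option linter.style.haveILetI false
set_option backward.isDefEq.respectTransparency false
set_option backward.isDefEq.respectTransparency.types false
set_option maxHeartbeats 2000000
set_option synthInstance.maxHeartbeats 400000

universe u

open CategoryTheory CategoryTheory.Limits AlgebraicGeometry Opposite IsLocalRing CategoryTheory.Abelian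

noncomputable section

namespace Groth.Agent.SmoothBCLib

open EtPtsLib FLCLib

variable {V : Scheme.{u}} {L : Set ℕ} {n : ℕ}

theorem isZero_C_of_subsingleton (M : AddCommGrpCat.{u + 1}) [Subsingleton M] :
    IsZero ((constantSheaf V.smallEtaleTopology AddCommGrpCat.{u + 1}).obj M) :=
  haveI : (constantSheaf V.smallEtaleTopology AddCommGrpCat.{u + 1}).Additive := by
    unfold constantSheaf; infer_instance
  (constantSheaf V.smallEtaleTopology AddCommGrpCat.{u + 1}).map_isZero (AddCommGrpCat.isZero_of_subsingleton M)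

/-- Finite constant sheaves of orders supported in `L` have no cohomology in degrees `1,…,n` on a scheme which is
`n`-acyclic for `L`. -/
theorem isZero_HF_finite_L
    (hV : ∀ ℓ : ℕ, ℓ.Prime → ℓ ∈ L → ∀ q : ℕ, 1 ≤ q → q ≤ n → Subsingleton (EtCoh.H V (EtCoh.const V (ZMod ℓ)) q))
    (q : ℕ) (hq : 1 ≤ q) (hqn : q ≤ n) : ∀ (N : ℕ) (M : AddCommGrpCat.{u + 1}) [Finite M], Nat.card M ≤ N →
      (∀ m : M, ∃ k : ℕ, EtAcyc.PrimesIn L k ∧ k • m = 0) →
      IsZero ((EtCoh.HF V q).obj ((constantSheaf V.smallEtaleTopology AddCommGrpCat.{u + 1}).obj M)) := by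
  haveI := PBCLib.HF_additive V q
  intro N
  induction N with
  | zero => exact fun M _ hM _ => absurd hM (Nat.not_le.2 Nat.card_pos)
  | succ N ih =>
    intro M _ hcard hM
    rcases subsingleton_or_nontrivial M with h | h
    · exact (EtCoh.HF V q).map_isZero (isZero_C_of_subsingleton M)
    haveI : Fact (Nat.card M).minFac.Prime := ⟨Nat.minFac_prime (Finite.one_lt_card.ne')⟩
    obtain ⟨a, ha⟩ := exists_prime_addOrderOf_dvd_card' (Nat.card M).minFac (Nat.minFac_dvd _)
    set p := (Nat.card M).minFac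
    have hp : p.Prime := Fact.out
    obtain ⟨k, hk, hka⟩ := hM a
    have hpL : p ∈ L := hk.2 p hp (ha ▸ addOrderOf_dvd_of_nsmul_eq_zero hka)
    let A := AddSubgroup.zmultiples a
    have hA : Nat.card A = p := (Nat.card_zmultiples a).trans ha
    let S : ShortComplex AddCommGrpCat.{u + 1} := ShortComplex.mk
      (AddCommGrpCat.ofHom A.subtype : AddCommGrpCat.of A ⟶ M)
      (AddCommGrpCat.ofHom (QuotientAddGroup.mk' A) : M ⟶ AddCommGrpCat.of (M ⧸ A))
      (by ext ⟨x, hx⟩; exact (QuotientAddGroup.eq_zero_iff x).2 hx)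
    have hS : S.ShortExact :=
      { exact := (ShortComplex.ab_exact_iff _).2 fun x hx => ⟨⟨x, (QuotientAddGroup.eq_zero_iff x).1 hx⟩, rfl⟩
        mono_f := (AddCommGrpCat.mono_iff_injective _).2 Subtype.val_injective
        epi_g := (AddCommGrpCat.epi_iff_surjective _).2 (QuotientAddGroup.mk'_surjective A) }
    haveI : PreservesFiniteLimits (constantSheaf V.smallEtaleTopology AddCommGrpCat.{u + 1}) := by
      unfold constantSheaf; infer_instance
    haveI : PreservesFiniteColimits (constantSheaf V.smallEtaleTopology AddCommGrpCat.{u + 1}) := by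
      unfold constantSheaf; infer_instance
    haveI : (constantSheaf V.smallEtaleTopology AddCommGrpCat.{u + 1}).Additive := by
      unfold constantSheaf; infer_instance
    have hT := hS.map_of_exact (constantSheaf V.smallEtaleTopology AddCommGrpCat.{u + 1})
    have h1 : IsZero ((EtCoh.HF V q).obj ((constantSheaf V.smallEtaleTopology AddCommGrpCat.{u + 1}).obj S.X₁)) := by
      haveI : IsAddCyclic A := AddSubgroup.isAddCyclic_zmultiples a
      let e : ULift.{u + 1} (ZMod p) ≃+ A :=
        AddEquiv.ulift.trans ((ZMod.ringEquivCongr hA.symm).toAddEquiv.trans (zmodAddCyclicAddEquiv inferInstance))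
      exact ((PBCLib.subsingleton_H_iff _ q).1 (hV p hp hpL q hq hqn)).of_iso
        ((EtCoh.HF V q).mapIso ((constantSheaf V.smallEtaleTopology AddCommGrpCat.{u + 1}).mapIso
          e.toAddCommGrpIso)).symm
    have h3 : IsZero ((EtCoh.HF V q).obj ((constantSheaf V.smallEtaleTopology AddCommGrpCat.{u + 1}).obj S.X₃)) := by
      haveI : Finite (AddCommGrpCat.of (M ⧸ A)) := inferInstanceAs (Finite (M ⧸ A))
      refine ih (AddCommGrpCat.of (M ⧸ A)) ?_ fun m => ?_
      · have h2 := AddSubgroup.card_eq_card_quotient_mul_card_addSubgroup A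
        rw [hA] at h2
        have h4 : Nat.card (M ⧸ A) < Nat.card M := by
          rw [h2]
          exact lt_mul_of_one_lt_right Nat.card_pos hp.one_lt
        show Nat.card (M ⧸ A) ≤ N
        omega
      · obtain ⟨x, rfl⟩ := QuotientAddGroup.mk'_surjective A m
        obtain ⟨k, hk, hx⟩ := hM x
        exact ⟨k, hk, by rw [← map_nsmul, hx, map_zero]⟩
    have h1' := (PBCLib.subsingleton_H_iff _ q).2 h1
    have h3' := (PBCLib.subsingleton_H_iff _ q).2 h3
    refine (PBCLib.subsingleton_H_iff _ q).1 (subsingleton_of_forall_eq 0 fun x => ?_)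
    obtain ⟨y, rfl⟩ := Ext.covariant_sequence_exact₂ _ hT x (@Subsingleton.elim _ h3' _ _)
    rw [show y = 0 from @Subsingleton.elim _ h1' _ _, Ext.zero_comp]

/-- Torsion constant sheaves of orders supported in `L` have no cohomology in degrees `1,…,n`. -/
theorem isZero_HF_torsion_L [CompactSpace V] [QuasiSeparatedSpace V]
    (hV : ∀ ℓ : ℕ, ℓ.Prime → ℓ ∈ L → ∀ q : ℕ, 1 ≤ q → q ≤ n → Subsingleton (EtCoh.H V (EtCoh.const V (ZMod ℓ)) q))
    (q : ℕ) (hq : 1 ≤ q) (hqn : q ≤ n) (M : AddCommGrpCat.{u + 1})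
    (hM : ∀ m : M, ∃ k : ℕ, EtAcyc.PrimesIn L k ∧ k • m = 0) :
    IsZero ((EtCoh.HF V q).obj ((constantSheaf V.smallEtaleTopology AddCommGrpCat.{u + 1}).obj M)) := by
  classical
  obtain ⟨hc⟩ := nonempty_isColimit_spanCocone M
  haveI : IsFiltered (Finset M) := by infer_instance
  haveI := CohColim.preserves_HF V q (Finset M)
  haveI : PreservesColimitsOfSize.{u + 1, u + 1} (constantSheaf V.smallEtaleTopology AddCommGrpCat.{u + 1}) :=
    (EtCore.constAdj V).leftAdjoint_preservesColimits
  have h := isColimitOfPreserves (constantSheaf V.smallEtaleTopology AddCommGrpCat.{u + 1} ⋙ EtCoh.HF V q) hc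
  rw [IsZero.iff_id_eq_zero]
  refine h.hom_ext fun s => ?_
  haveI : AddGroup.FG (AddSubgroup.closure (s : Set M)) :=
    (AddGroup.fg_iff_addSubgroup_fg _).2 ⟨s, rfl⟩
  haveI : Finite (AddSubgroup.closure (s : Set M)) := AddCommGroup.finite_of_fg_torsion _ fun m =>
    let ⟨k, hk, hkm⟩ := hM m
    isOfFinAddOrder_iff_nsmul_eq_zero.2 ⟨k, hk.1, Subtype.ext hkm⟩
  haveI : Finite ((spanDiag M).obj s) := ‹Finite (AddSubgroup.closure (s : Set M))›
  exact (isZero_HF_finite_L hV q hq hqn _ ((spanDiag M).obj s) le_rfl fun m =>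
    let ⟨k, hk, hkm⟩ := hM (m : AddSubgroup.closure (s : Set M)).1
    ⟨k, hk, Subtype.ext hkm⟩).eq_of_src _ _

/-- Inverse image of a locally constant `L`-torsion sheaf from a strictly henselian spectrum to a quasi-compact
quasi-separated scheme which is `n`-acyclic for `L`. -/
theorem bijective_Hpull_locConst_L (R : Type u) [CommRing R] [HenselianLocalRing R] [IsSepClosed (ResidueField R)]
    [CompactSpace V] [QuasiSeparatedSpace V] (t : V ⟶ Spec (CommRingCat.of R))
    [PreservesFiniteLimits (EtCoh.pull t)] (hV : (∃ ℓ ∈ L, ℓ.Prime) → EtAcyc.IsAcyclicSchemeN L n V)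
    (F : EtCoh.Ab (Spec (CommRingCat.of R))) (hF : LocConst (fun _ => True) F) (hFtor : EtAcyc.IsLTorsion L F) :
    (∀ q : ℕ, q ≤ n → Function.Bijective (EtCore.Hpull t F q)) ∧ Function.Injective (EtCore.Hpull t F (n + 1)) := by
  let Y := Spec (CommRingCat.of R)
  haveI hn1 := EtVanish.subsingleton_H_strictlyHenselian R F n
  refine ⟨fun q hq => ?_, fun _ _ _ => Subsingleton.elim _ _⟩
  obtain ⟨M, θ, hθ⟩ := exists_isConstOn_top R hF
  have hM : ∀ m : M, ∃ k : ℕ, EtAcyc.PrimesIn L k ∧ k • m = 0 := fun m => by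
    let ξ : Spec (CommRingCat.of (ResidueField R)) ⟶ Y := Spec.map (CommRingCat.ofHom (residue R))
    let l : (Scheme.pointSmallEtale ξ).fiber.obj (EtCoh.top Y) := Over.homMk ξ (Category.comp_id _)
    obtain ⟨k, hk, hks⟩ := (S8525.result L F).1 hFtor (ResidueField R) ξ (germ ξ F l (θ m))
    refine ⟨k, hk, (hθ _ ξ l).1 ?_⟩
    have hl : ∀ z : M, germ ξ F l (θ z) =
        (θ ≫ (Scheme.pointSmallEtale ξ).toPresheafFiber (EtCoh.top Y) l F.obj).hom z := fun z => rfl
    show germ ξ F l (θ (k • m)) = germ ξ F l (θ 0)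
    rw [hl, hl, map_nsmul, map_zero, ← hl]
    exact hks
  by_cases hL : ∃ ℓ ∈ L, ℓ.Prime
  · obtain ⟨_, hconn, hV⟩ := hV hL
    haveI := hconn
    rcases q with _ | q
    · exact bijective_Hpull_zero_isConstOn R t F hθ
    obtain ⟨eC⟩ := nonempty_iso_C_of_isConstOn _ ((hθ.pull t).map (EtCore.bcTopIso t).inv)
    haveI := EtVanish.subsingleton_H_strictlyHenselian R F q
    haveI := (PBCLib.subsingleton_H_iff _ (q + 1)).2 ((isZero_HF_torsion_L hV (q + 1) q.succ_pos hq M hM).of_iso
      ((EtCoh.HF V (q + 1)).mapIso eC).symm)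
    exact ⟨fun _ _ _ => Subsingleton.elim _ _, fun b => ⟨0, Subsingleton.elim _ _⟩⟩
  · haveI : Subsingleton M := subsingleton_of_forall_eq 0 fun m => by
      obtain ⟨k, hk, hkm⟩ := hM m
      obtain rfl : k = 1 := by
        by_contra hk1
        exact hL ⟨k.minFac, hk.2 _ (Nat.minFac_prime hk1) (Nat.minFac_dvd k), Nat.minFac_prime hk1⟩
      simpa using hkm
    obtain ⟨eC⟩ := nonempty_iso_C_of_isConstOn F hθ
    have hF0 : IsZero F := (isZero_C_of_subsingleton M).of_iso eC.symm
    haveI : (EtCoh.pull t).Additive := (EtCoh.pullPushAdj t).left_adjoint_additive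
    haveI := PBCLib.HF_additive Y q
    haveI := PBCLib.HF_additive V q
    haveI := (PBCLib.subsingleton_H_iff F q).2 ((EtCoh.HF Y q).map_isZero hF0)
    haveI := (PBCLib.subsingleton_H_iff _ q).2 ((EtCoh.HF V q).map_isZero ((EtCoh.pull t).map_isZero hF0))
    exact ⟨fun _ _ _ => Subsingleton.elim _ _, fun b => ⟨0, Subsingleton.elim _ _⟩⟩

end Groth.Agent.SmoothBCLib
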