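import Groth.Agent.SmoothBCLib.LARelFibre
import Groth.Agent.SmoothBCLib.LTorsLocConst
import Groth.Agent.SmoothBCLib.AcycFibre

/-!
# Locally constant torsion sheaves on geometric fibres of locally acyclic morphisms

For a locally acyclic morphism and a locally constant torsion sheaf on its source, the inverse image to a geometric
fibre of a strict localization preserves cohomology in low degrees.
-/

set_option autoImplicit false
set_option linter.style.haveILetI false
set_option backward.isDefEq.respectTransparency false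
set_option backward.isDefEq.respectTransparency.types false
set_option maxHeartbeats 2000000
set_option synthInstance.maxHeartbeats 400000

universe u

open CategoryTheory CategoryTheory.Limits AlgebraicGeometry Opposite IsLocalRing
open Groth.Agent.EtPtsLib

noncomputable section

namespace Groth.Agent.SmoothBCLib

attribute [local instance] Groth.Agent.S0101.result

variable {X Y : Scheme.{u}} (f : X ⟶ Y)

/-- Strict localizations map to each other. -/
theorem exists_strictLoc_hom (x : X) (RY R : Type u) [CommRing RY] [CommRing R] [IsLocalRing RY] [IsLocalRing R]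
    [Algebra (Y.presheaf.stalk (f x)) RY] [IsLocalHom (algebraMap (Y.presheaf.stalk (f x)) RY)]
    [Hensel.IsStrictHenselization (Y.presheaf.stalk (f x)) RY]
    [Algebra (X.presheaf.stalk x) R] [IsLocalHom (algebraMap (X.presheaf.stalk x) R)]
    [Hensel.IsStrictHenselization (X.presheaf.stalk x) R] :
    ∃ (ψ : RY →+* R) (_ : IsLocalHom ψ),
      ψ.comp (algebraMap (Y.presheaf.stalk (f x)) RY) = (algebraMap (X.presheaf.stalk x) R).comp (f.stalkMap x).hom ∧
      Hens2.specOf X x R ≫ f = Spec.map (CommRingCat.ofHom ψ) ≫ Hens2.specOf Y (f x) RY := by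
  haveI := Hensel.IsStrictHenselization.henselian (R := X.presheaf.stalk x) (S := R)
  have hX := Hensel.IsStrictHenselization.isSepClosure (R := X.presheaf.stalk x) (S := R)
  have hY := Hensel.IsStrictHenselization.isSepClosure (R := Y.presheaf.stalk (f x)) (S := RY)
  haveI : IsSepClosed (ResidueField R) := hX.sep_closed
  let φ : Y.presheaf.stalk (f x) →+* R := (algebraMap (X.presheaf.stalk x) R).comp (f.stalkMap x).hom
  haveI : IsLocalHom φ := RingHom.isLocalHom_comp _ _
  letI : Algebra (ResidueField (Y.presheaf.stalk (f x))) (ResidueField R) := (ResidueField.map φ).toAlgebra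
  haveI : Algebra.IsSeparable (ResidueField (Y.presheaf.stalk (f x))) (ResidueField RY) := hY.separable
  let τ : ResidueField RY →ₐ[ResidueField (Y.presheaf.stalk (f x))] ResidueField R := IsSepClosed.lift
  obtain ⟨ψ, ⟨hψφ, hψr⟩, -⟩ := Hensel.IsStrictHenselization.universal (R := Y.presheaf.stalk (f x)) (S := RY)
    R φ τ.toRingHom (RingHom.ext fun z => τ.commutes z)
  haveI hl : IsLocalHom ψ := ⟨fun r hr => by
    by_contra hn
    have h0 : residue R (ψ r) = 0 := by
      rw [hψr, (residue_eq_zero_iff r).2 hn, map_zero]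
    exact (residue_eq_zero_iff (ψ r)).1 h0 hr⟩
  refine ⟨ψ, hl, hψφ, ?_⟩
  show (Spec.map _ ≫ X.fromSpecStalk x) ≫ f = Spec.map _ ≫ Spec.map _ ≫ Y.fromSpecStalk (f x)
  rw [Category.assoc, ← Scheme.SpecMap_stalkMap_fromSpecStalk, ← Category.assoc, ← Category.assoc, ← Spec.map_comp,
    ← Spec.map_comp]
  exact congrArg (fun m => Spec.map m ≫ Y.fromSpecStalk (f x)) (CommRingCat.hom_ext hψφ.symm)

variable {f} {L : Set ℕ} {n : ℕ}

/-- Geometric fibres of strict localizations of a locally acyclic morphism do not change the cohomology of locally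
constant torsion sheaves in low degrees. -/
theorem bijective_Hpull_locFibre (hf : EtAcyc.IsLocAcyclicN f L n) (F : EtCoh.Ab X)
    (hlc : EtRest.IsLocallyConstant F) (hFtor : EtAcyc.IsLTorsion L F) (x : X)
    (RY R : Type u) [CommRing RY] [CommRing R] [IsLocalRing RY] [IsLocalRing R]
    [Algebra (Y.presheaf.stalk (f x)) RY] [IsLocalHom (algebraMap (Y.presheaf.stalk (f x)) RY)]
    [Hensel.IsStrictHenselization (Y.presheaf.stalk (f x)) RY]
    [Algebra (X.presheaf.stalk x) R] [IsLocalHom (algebraMap (X.presheaf.stalk x) R)]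
    [Hensel.IsStrictHenselization (X.presheaf.stalk x) R] [IsSepClosed (ResidueField R)]
    (ψ : RY →+* R) [IsLocalHom ψ]
    (hψ : ψ.comp (algebraMap (Y.presheaf.stalk (f x)) RY) = (algebraMap (X.presheaf.stalk x) R).comp (f.stalkMap x).hom)
    (y₁ : Spec (CommRingCat.of RY)) (Ω : Type u) [Field Ω] [IsSepClosed Ω]
    [Algebra ((Spec (CommRingCat.of RY)).residueField y₁) Ω]
    [Algebra.IsAlgebraic ((Spec (CommRingCat.of RY)).residueField y₁) Ω]
    {Xt : Scheme.{u}} (h : Xt ⟶ X)
    (e : pullback h (Hens2.specOf X x R) ≅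
      pullback (Spec.map (CommRingCat.ofHom ψ)) (EtAcyc.geomPt (Spec (CommRingCat.of RY)) y₁ Ω))
    (he : e.hom ≫ pullback.fst _ _ = pullback.snd h (Hens2.specOf X x R)) :
    (∀ q : ℕ, q ≤ n → Function.Bijective (EtCore.Hpull (pullback.snd h (Hens2.specOf X x R))
      ((EtCoh.pull (Hens2.specOf X x R)).obj F) q)) ∧
    Function.Injective (EtCore.Hpull (pullback.snd h (Hens2.specOf X x R))
      ((EtCoh.pull (Hens2.specOf X x R)).obj F) (n + 1)) := by
  haveI := Hensel.IsStrictHenselization.henselian (R := X.presheaf.stalk x) (S := R)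
  letI : Algebra RY R := ψ.toAlgebra
  haveI : IsLocalHom (algebraMap RY R) := ‹IsLocalHom ψ›
  have hacy : EtAcyc.IsAcyclicN (Spec.map (CommRingCat.ofHom ψ)) L n := hf x RY R hψ
  let ε := Hens2.specOf X x R
  let t := pullback.fst (Spec.map (CommRingCat.ofHom ψ)) (EtAcyc.geomPt (Spec (CommRingCat.of RY)) y₁ Ω)
  haveI : CompactSpace ↥(pullback (Spec.map (CommRingCat.ofHom ψ)) (EtAcyc.geomPt (Spec (CommRingCat.of RY)) y₁ Ω)) :=
    inferInstance
  have hb := bijective_Hpull_locConst_L R t
    (fun hL => geomFibresAcyclicN_of_isAcyclicN (Spec.map (CommRingCat.ofHom ψ)) hL hacy y₁ Ω)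
    ((EtCoh.pull ε).obj F) (((FLCLib.locallyConstant_iff F).1 hlc).pull ε) (AcycCompLib.isLTorsion_pull ε hFtor)
  exact ⟨fun q hq => (AcycCompLib.bijective_Hpull_comp_iff t e.hom _ he _ q).2
      ((AcycCompLib.bijective_Hpull_of_isIso e.hom _ q).comp (hb.1 q hq)),
    (AcycCompLib.injective_Hpull_comp_iff t e.hom _ he _ (n + 1)).2
      ((AcycCompLib.bijective_Hpull_of_isIso e.hom _ (n + 1)).1.comp hb.2)⟩

/-- Stalks of the unit and of the higher direct images from the invariance of cohomology over strict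
localizations. -/
theorem stalks_of_bijective_Hpull {Xt : Scheme.{u}} (h : Xt ⟶ X) [QuasiCompact h] [QuasiSeparated h]
    (G : EtCoh.Ab X) (x : X) (R : Type u) [CommRing R] [IsLocalRing R] [Algebra (X.presheaf.stalk x) R]
    [IsLocalHom (algebraMap (X.presheaf.stalk x) R)] [Hensel.IsStrictHenselization (X.presheaf.stalk x) R]
    [IsSepClosed (ResidueField R)]
    (hH : ∀ q : ℕ, q ≤ n → Function.Bijective (EtCore.Hpull (pullback.snd h (Hens2.specOf X x R))
      ((EtCoh.pull (Hens2.specOf X x R)).obj G) q))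
    {Ω : Type u} [Field Ω] [IsSepClosed Ω] (ξ : Spec (CommRingCat.of Ω) ⟶ X) (hξ : ξ default = x) :
    Function.Bijective ((EtCoh.stalk ξ).map ((EtCoh.pullPushAdj h).unit.app G)) ∧
      ∀ q : ℕ, 1 ≤ q → q ≤ n →
        IsZero ((EtCoh.stalk ξ).obj ((EtCoh.Rpush h q).obj ((EtCoh.pull h).obj G))) := by
  have hd : ξ default = (Hens2.geomPt X x R) default := hξ.trans (geomPt_default x R).symm
  exact ⟨bijective_stalk_of_default_eq _ (bijective_stalk_unit_of_bijective h G x R (hH 0 n.zero_le)) hd,
    fun q hq hqn => CdFieldLib.isZero_stalk_of_default_eq _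
      (isZero_stalk_Rpush_of_bijective h G x R q hq (hH q hqn)) hd⟩

end Groth.Agent.SmoothBCLib
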