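import Groth.Agent.S0101
import Groth.Prelude.Def_EtCore
import Groth.Agent.EtPtsLib.GermEq
import Mathlib.CategoryTheory.Abelian.RightDerived
import Mathlib.Algebra.Homology.ShortComplex.ExactFunctor

/-!
# Direct images of a sheaf without higher direct images

If `R^j a_* N = 0` for `j > 0` then the direct image of an injective resolution of `N` is an injective resolution
of `a_* N`, so `R^q b_* (a_* N) ≅ R^q (a ≫ b)_* N`.
-/

set_option autoImplicit false
set_option linter.style.haveILetI false
set_option backward.isDefEq.respectTransparency false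
set_option backward.isDefEq.respectTransparency.types false
set_option maxHeartbeats 1000000
set_option synthInstance.maxHeartbeats 400000

universe u

open CategoryTheory CategoryTheory.Limits AlgebraicGeometry Opposite

noncomputable section

namespace Groth.Agent.SmoothBCLib

variable {T X Y : Scheme.{u}} (a : T ⟶ X) (b : X ⟶ Y) (N : EtCoh.Ab T)

theorem nonempty_Rpush_push_iso (h : ∀ j : ℕ, IsZero ((EtCoh.Rpush a (j + 1)).obj N)) (q : ℕ) :
    Nonempty ((EtCoh.Rpush b q).obj ((EtCoh.push a).obj N) ≅ (EtCoh.Rpush (a ≫ b) q).obj N) := by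
  haveI : (EtCoh.push a).IsRightAdjoint := (EtCoh.pullPushAdj a).isRightAdjoint
  haveI : PreservesFiniteLimits (EtCoh.push a) := inferInstance
  haveI : PreservesFiniteLimits (EtCoh.pull a) := S0101.result a
  let R := InjectiveResolution.of N
  let C : CochainComplex (EtCoh.Ab X) ℕ := ((EtCoh.push a).mapHomologicalComplex (ComplexShape.up ℕ)).obj R.cocomplex
  have w : (EtCoh.push a).map (R.ι.f 0) ≫ C.d 0 1 = 0 := by
    refine ((EtCoh.push a).map_comp _ _).symm.trans ?_
    rw [R.ι_f_zero_comp_complex_d, Functor.map_zero]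
  let f : (CochainComplex.single₀ (EtCoh.Ab X)).obj ((EtCoh.push a).obj N) ⟶ C :=
    (C.fromSingle₀Equiv _).symm ⟨(EtCoh.push a).map (R.ι.f 0), w⟩
  have hf : f.f 0 = (EtCoh.push a).map (R.ι.f 0) := by simp [f]
  haveI : QuasiIso f := ⟨fun n => by
    cases n with
    | zero =>
      rw [CochainComplex.quasiIsoAt₀_iff, ShortComplex.quasiIso_iff_of_zeros]
      · haveI : Mono ((ShortComplex.mk (R.ι.f 0) (R.cocomplex.d 0 1) R.ι_f_zero_comp_complex_d).f) :=
          inferInstanceAs (Mono (R.ι.f 0))
        refine (ShortComplex.exact_and_mono_f_iff_of_iso ?_).2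
          ⟨R.exact₀.map_of_mono_of_preservesKernel (EtCoh.push a) inferInstance inferInstance,
            inferInstanceAs (Mono ((EtCoh.push a).map (R.ι.f 0)))⟩
        exact ShortComplex.isoMk (Iso.refl _) (Iso.refl _) (Iso.refl _)
          ((Category.id_comp _).trans (Eq.trans hf.symm (Category.comp_id _).symm))
          ((Category.id_comp _).trans (Category.comp_id _).symm)
      all_goals first | rfl | exact HomologicalComplex.shape _ _ _ (by simp) | simp | exact C.shape _ _ (by simp)
    | succ m =>
      rw [quasiIsoAt_iff_exactAt _ _ (CochainComplex.exactAt_succ_single_obj _ m),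
        HomologicalComplex.exactAt_iff_isZero_homology]
      exact (h m).of_iso (R.isoRightDerivedObj (EtCoh.push a) (m + 1)).symm⟩
  let R' : InjectiveResolution ((EtCoh.push a).obj N) :=
    { cocomplex := C
      injective := fun n => Injective.injective_of_adjoint (EtCoh.pullPushAdj a) (R.cocomplex.X n)
      ι := f
      quasiIso := inferInstance }
  exact ⟨R'.isoRightDerivedObj (EtCoh.push b) q ≪≫
    (HomologicalComplex.homologyFunctor _ _ q).mapIso
      ((NatIso.mapHomologicalComplex (EtCoh.pushComp b a) (ComplexShape.up ℕ)).app R.cocomplex) ≪≫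
    (R.isoRightDerivedObj (EtCoh.push (a ≫ b)) q).symm⟩

theorem isZero_Rpush_push (h : ∀ j : ℕ, IsZero ((EtCoh.Rpush a (j + 1)).obj N)) {q : ℕ}
    (hz : IsZero ((EtCoh.Rpush (a ≫ b) q).obj N)) : IsZero ((EtCoh.Rpush b q).obj ((EtCoh.push a).obj N)) :=
  hz.of_iso (nonempty_Rpush_push_iso a b N h q).some

end Groth.Agent.SmoothBCLib
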