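import Groth.Agent.SmoothBCLib.Proper
import Groth.Agent.S0646
import Groth.Agent.S0101
import Mathlib.CategoryTheory.Limits.Preserves.Opposites

/-!
# Vanishing of the cohomology of constant sheaves on limits of pullbacks
-/

set_option autoImplicit false
set_option linter.style.haveILetI false
set_option backward.isDefEq.respectTransparency false
set_option backward.isDefEq.respectTransparency.types false
set_option maxHeartbeats 1000000
set_option synthInstance.maxHeartbeats 400000

universe u

open CategoryTheory CategoryTheory.Limits AlgebraicGeometry Opposite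

noncomputable section

namespace Groth.Agent.SmoothBCLib

variable {ι : Type u} [Preorder ι] [IsDirected ι (· ≤ ·)] [Nonempty ι] (D : ιᵒᵖ ⥤ Scheme.{u}) {W S : Scheme.{u}}
  (t : ∀ i, D.obj i ⟶ S) (ht : ∀ ⦃i j : ιᵒᵖ⦄ (a : i ⟶ j), D.map a ≫ t j = t i) (m : W ⟶ S)

/-- The pullbacks of a system along a fixed morphism. -/
@[simps]
def pbDiag : ιᵒᵖ ⥤ Scheme.{u} where
  obj i := pullback m (t i)
  map {i j} a := pullback.map m (t i) m (t j) (𝟙 _) (D.map a) (𝟙 _) (by simp) (by simp [ht a])
  map_id i := by ext <;> simp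
  map_comp a b := by ext <;> simp

variable (c : Cone D) (τ : c.pt ⟶ S) (hτ : ∀ i, c.π.app i ≫ t i = τ)

/-- Its cone. -/
@[simps]
def pbCone : Cone (pbDiag D t ht m) where
  pt := pullback m τ
  π :=
    { app := fun i => pullback.map m τ m (t i) (𝟙 _) (c.π.app i) (𝟙 _) (by simp) (by simp [hτ i])
      naturality := fun i j a => by apply pullback.hom_ext <;> simp }

/-- It is a limit. -/
def isLimitPbCone (hc : IsLimit c) : IsLimit (pbCone D t ht m c τ hτ) where
  lift s := pullback.lift (s.π.app (Classical.arbitrary ιᵒᵖ) ≫ pullback.fst _ _)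
    (hc.lift ⟨s.pt, { app := fun k => s.π.app k ≫ pullback.snd _ _
                      naturality := fun k l a => by simp [← s.w a] }⟩)
    (by
      let i := Classical.arbitrary ιᵒᵖ
      rw [← hτ i, ← Category.assoc (hc.lift _), hc.fac]
      simp [i, pullback.condition])
  fac s k := by
    apply pullback.hom_ext <;> simp
    obtain ⟨l, hl₁, hl₂⟩ := directed_of (α := ι) (· ≤ ·) k.unop (Classical.arbitrary ιᵒᵖ).unop
    have h1 := s.w (homOfLE hl₁).op
    have h2 := s.w (homOfLE hl₂).op
    simp [← h1, ← h2]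
  uniq s f hf := by
    apply pullback.hom_ext
    · have := congr($(hf (Classical.arbitrary ιᵒᵖ)) ≫ pullback.fst _ _)
      simp at this
      simp [this]
    · refine hc.hom_ext fun k => ?_
      have := congr($(hf k) ≫ pullback.snd _ _)
      simp at this
      simp [this]

include ht hτ in
/-- Vanishing passes to the limit. -/
theorem subsingleton_H_pullback_limit [IsAffine W] [IsAffine S] (haff : ∀ i, IsAffine (D.obj i)) (hc : IsLimit c)
    (M : Type) [AddCommGroup M] (q : ℕ)
    (h : ∀ i, Subsingleton (EtCoh.H (pullback m (t i)) (EtCoh.const _ M) q)) :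
    Subsingleton (EtCoh.H (pullback m τ) (EtCoh.const _ M) q) := by
  haveI := haff
  haveI : ∀ i, IsAffine ((pbDiag D t ht m).obj i) := fun i => inferInstanceAs (IsAffine (pullback m (t i)))
  haveI : ∀ a, PreservesFiniteLimits (EtCoh.pull ((pbCone D t ht m c τ hτ).π.app a)) := fun _ => S0101.result _
  haveI : ∀ ⦃a b : ιᵒᵖ⦄ (φ : a ⟶ b), PreservesFiniteLimits (EtCoh.pull ((pbDiag D t ht m).map φ)) :=
    fun _ _ _ => S0101.result _
  let C := pbCone D t ht m c τ hτ
  obtain ⟨i₀⟩ := ‹Nonempty ι›
  let F₀ := EtCoh.const ((pbDiag D t ht m).obj (op i₀)) M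
  suffices hs : Subsingleton (EtCoh.H C.pt ((EtCoh.pull (C.π.app (op i₀))).obj F₀) q) from
    CdFieldLib.subsingleton_H_of_iso' (EtCore.pullConst (C.π.app (op i₀)) M).symm q hs
  refine subsingleton_of_forall_eq 0 fun x => ?_
  obtain ⟨j, hj, y, rfl⟩ := (S0646.result (pbDiag D t ht m) (fun _ _ φ => inferInstance) (fun a => inferInstance)
    (fun a => inferInstance) C (isLimitPbCone D t ht m c τ hτ hc) i₀ F₀ q).1 x
  haveI : Subsingleton (EtCoh.H ((pbDiag D t ht m).obj (op j))
      ((EtCoh.pull ((pbDiag D t ht m).map (homOfLE hj).op)).obj F₀) q) :=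
    CdFieldLib.subsingleton_H_of_iso' (EtCore.pullConst ((pbDiag D t ht m).map (homOfLE hj).op) M) q (h (op j))
  rw [Subsingleton.elim y 0, map_zero]

end Groth.Agent.SmoothBCLib
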