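import Groth.Agent.EtPtsLib.IntegralUI
import Groth.Agent.BCVertLib.EtaleBCQ

/-!
# Base change along universal homeomorphisms
-/

set_option autoImplicit false
set_option linter.style.haveILetI false
set_option backward.isDefEq.respectTransparency false
set_option backward.isDefEq.respectTransparency.types false
set_option maxHeartbeats 1000000

universe u

open CategoryTheory CategoryTheory.Limits AlgebraicGeometry Opposite
open Groth.Agent.EtPtsLib

noncomputable section

namespace Groth.Agent.SmoothBCLib

attribute [local instance] Groth.Agent.S0101.result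

variable {X Y : Scheme.{u}} (f : X ⟶ Y) [IsIntegralHom f] [UniversallyInjective f] [Surjective f]

theorem isIso_unit_univHomeo (G : EtCoh.Ab Y) : IsIso ((EtCoh.pullPushAdj f).unit.app G) := by
  refine isIso_of_alg_ab _ fun y => ?_
  obtain ⟨ζ, hζ⟩ := exists_comp_eq_integral f (geomPtAlg y) (f.surjective _)
  rw [← hζ]
  haveI := isIso_stalk_unit (A := AddCommGrpCat.{u + 1}) f ζ
    (liftsLocally_of_propC f (propC_of_integral f f.injective)) (bcInducing_of_universallyInjective f) G
  exact ConcreteCategory.bijective_of_isIso
    ((Scheme.pointSmallEtale (ζ ≫ f)).sheafFiber.map ((EtCoh.pullPushAdj f).unit.app G))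

theorem isEquivalence_pull_univHomeo : (EtCoh.pull f).IsEquivalence := by
  haveI : IsIso (EtCoh.pullPushAdj f).unit :=
    @NatIso.isIso_of_isIso_app _ _ _ _ _ _ _ (isIso_unit_univHomeo f)
  haveI : IsIso (EtCoh.pullPushAdj f).counit :=
    @NatIso.isIso_of_isIso_app _ _ _ _ _ _ _ (isIso_counit_integral f)
  exact (EtCoh.pullPushAdj f).toEquivalence.isEquivalence_functor

theorem injective_pull_univHomeo (I : EtCoh.Ab Y) [Injective I] : Injective ((EtCoh.pull f).obj I) := by
  haveI := isEquivalence_pull_univHomeo f
  exact ((EtCoh.pull f).asEquivalence.map_injective_iff I).2 inferInstance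

omit [IsIntegralHom f] [UniversallyInjective f] [Surjective f] in
/-- Base change in degree zero along a universal homeomorphism, for every direct image. -/
theorem isIso_baseChange0_univHomeo {T T' : Scheme.{u}} (e : T ⟶ Y) (g : X ⟶ Y) [IsIntegralHom g]
    [UniversallyInjective g] [Surjective g] (e' : T' ⟶ X) (g' : T' ⟶ T) (h : IsPullback g' e' e g)
    (F : EtCoh.Ab T) : IsIso (EtCoh.baseChange0 e g e' g' h.w F) := by
  haveI : IsIntegralHom g' := MorphismProperty.of_isPullback h.flip ‹_›
  haveI : UniversallyInjective g' := MorphismProperty.of_isPullback h.flip ‹_›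
  haveI : Surjective g' := MorphismProperty.of_isPullback h.flip ‹_›
  haveI := isIso_unit_univHomeo g' F
  haveI : IsIso (EtCoh.pullPushAdj g).counit :=
    @NatIso.isIso_of_isIso_app _ _ _ _ _ _ _ (isIso_counit_integral g)
  rw [EtCoh.baseChange0, Adjunction.homEquiv_counit]
  infer_instance

/-- Base change in every degree along a universal homeomorphism. -/
theorem isIso_bcQ_univHomeo {T T' : Scheme.{u}} (e : T ⟶ Y) (g : X ⟶ Y) [IsIntegralHom g]
    [UniversallyInjective g] [Surjective g] (e' : T' ⟶ X) (g' : T' ⟶ T) (h : IsPullback g' e' e g)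
    [PreservesFiniteLimits (EtCoh.pull g')] (q : ℕ) (F : EtCoh.Ab T) : IsIso (EtBC.bcQ e g e' g' h.w q F) := by
  haveI : IsIntegralHom g' := MorphismProperty.of_isPullback h.flip ‹_›
  haveI : UniversallyInjective g' := MorphismProperty.of_isPullback h.flip ‹_›
  haveI : Surjective g' := MorphismProperty.of_isPullback h.flip ‹_›
  exact BCVertLib.isIso_bcQ_of_injective e g e' g' h.w (fun I _ => injective_pull_univHomeo g' I)
    (fun I _ => isIso_baseChange0_univHomeo e g e' g' h I) q F

end Groth.Agent.SmoothBCLib
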