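import Groth.Agent.SmoothBCLib.PointField
import Groth.Agent.PBCLib.AIC
import Mathlib.RingTheory.Algebraic.Integral
import Mathlib.RingTheory.Localization.Integral

/-!
# Algebraic field valued points and absolutely integrally closed rings
-/

set_option autoImplicit false
set_option linter.style.haveILetI false
set_option backward.isDefEq.respectTransparency false
set_option backward.isDefEq.respectTransparency.types false
set_option maxHeartbeats 1000000

universe u

open CategoryTheory CategoryTheory.Limits AlgebraicGeometry Opposite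

noncomputable section

namespace Groth.Agent.SmoothBCLib

variable {K : Type u} [Field K]

theorem surjective_descResidueField_id :
    Function.Surjective ((Spec (CommRingCat.of K)).descResidueField
      (Scheme.stalkClosedPointTo (𝟙 (Spec (CommRingCat.of K))))).hom := by
  intro x
  have h : x ∈ pointField (Spec.map (CommRingCat.ofHom (RingHom.id K))) := mem_pointField_specMap (RingHom.id K) x
  rw [CommRingCat.ofHom_id, Spec.map_id] at h
  exact h

theorem pointField_specMap_le {F : Type u} [Field F] (i : F →+* K) :
    pointField (Spec.map (CommRingCat.ofHom i)) ≤ i.fieldRange := by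
  rintro _ ⟨z, rfl⟩
  obtain ⟨r, rfl⟩ := (ConcreteCategory.bijective_of_isIso
    (Scheme.Spec.residueFieldIso (CommRingCat.of F) ((Spec.map (CommRingCat.ofHom i)) (IsLocalRing.closedPoint K))).inv).2 z
  haveI : ((Spec.map (CommRingCat.ofHom i)) (IsLocalRing.closedPoint K)).asIdeal.IsMaximal :=
    (Ideal.eq_bot_of_prime (I := ((Spec.map (CommRingCat.ofHom i)) (IsLocalRing.closedPoint K)).asIdeal)) ▸ Ideal.bot_isMaximal
  obtain ⟨a, rfl⟩ := Ideal.algebraMap_residueField_surjective _ r
  refine ⟨a, ?_⟩
  have h1 := congrArg (fun m => m.hom a) (Scheme.Spec.algebraMap_residueFieldIso_inv (CommRingCat.of F)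
    ((Spec.map (CommRingCat.ofHom i)) (IsLocalRing.closedPoint K)))
  refine Eq.trans ?_ (congrArg _ h1).symm
  exact ((congrArg (fun m => m.hom ((Scheme.ΓSpecIso _).inv a))
    (Scheme.germ_stalkClosedPointTo_Spec (CommRingCat.ofHom i))).trans
      (congrArg i (Iso.inv_hom_id_apply (Scheme.ΓSpecIso (CommRingCat.of F)) a))).symm

/-- The field of a point of an affine scheme is generated by the image of its ring. -/
theorem pointField_le_closure {A : Type u} [CommRing A] (φ : A →+* K) :
    pointField (Spec.map (CommRingCat.ofHom φ)) ≤ Subfield.closure (Set.range φ) := by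
  let F := Subfield.closure (Set.range φ)
  let φ₀ : A →+* F := φ.codRestrict _ fun a => Subfield.subset_closure ⟨a, rfl⟩
  have e : Spec.map (CommRingCat.ofHom φ) = Spec.map (CommRingCat.ofHom F.subtype) ≫ Spec.map (CommRingCat.ofHom φ₀) := by
    rw [← Spec.map_comp]
    rfl
  rw [e]
  refine ((pointField_comp _ _).trans (pointField_specMap_le F.subtype)).trans ?_
  rw [Subfield.fieldRange_subtype]

theorem isAlgebraic_pointField {X : Scheme.{u}} (η : Spec (CommRingCat.of K) ⟶ X) (h : PBCLib.IsAlgPt η) (x : K) :
    IsAlgebraic (pointField η) x := by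
  have hint : ∀ pt : Spec (CommRingCat.of K), (η.residueFieldMap pt).hom.IsIntegral := fun pt => by
    rw [Subsingleton.elim pt default]
    exact h
  let d := (Spec (CommRingCat.of K)).descResidueField (Scheme.stalkClosedPointTo (𝟙 (Spec (CommRingCat.of K))))
  let ψ := X.descResidueField (Scheme.stalkClosedPointTo η)
  obtain ⟨y, hy⟩ := surjective_descResidueField_id (K := K) x
  obtain ⟨p, hp, hpy⟩ := hint (IsLocalRing.closedPoint K) y
  let r : X.residueField (η (IsLocalRing.closedPoint K)) →+* pointField η := ψ.hom.rangeRestrictField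
  refine IsIntegral.isAlgebraic ⟨p.map r, hp.map _, ?_⟩
  rw [Polynomial.eval₂_map]
  have e := Polynomial.hom_eval₂ p (η.residueFieldMap (IsLocalRing.closedPoint K)).hom d.hom y
  erw [hpy, map_zero] at e
  rw [← hy]
  refine Eq.trans ?_ e.symm
  congr 1
  have h2 := congrArg (fun m : X.residueField _ ⟶ CommRingCat.of K => m.hom)
    (Scheme.descResidueField_stalkClosedPointTo_comp η (𝟙 (Spec (CommRingCat.of K))))
  exact h2

/-- For an algebraic point of an affine scheme the integral closure of the ring in the field has it as fraction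
field. -/
theorem isFractionRing_integralClosure {A : Type u} [CommRing A] (φ : A →+* K)
    (h : PBCLib.IsAlgPt (Spec.map (CommRingCat.ofHom φ))) : IsFractionRing (integralClosure φ.range K) K := by
  let F := Subfield.closure (Set.range φ)
  letI : Algebra φ.range F := (Subring.inclusion (fun x hx => Subfield.subset_closure (by
    obtain ⟨a, rfl⟩ := hx; exact ⟨a, rfl⟩))).toAlgebra
  haveI : IsScalarTower φ.range F K := IsScalarTower.of_algebraMap_eq fun _ => rfl
  haveI : Algebra.IsAlgebraic φ.range F := ⟨fun w => by
    obtain ⟨y, hy, z, hz, hw⟩ := Subfield.mem_closure_iff.1 w.2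
    rw [← RingHom.coe_range, Subring.closure_eq] at hy hz
    by_cases h0 : (⟨z, hz⟩ : φ.range) = 0
    · refine ⟨Polynomial.X, Polynomial.X_ne_zero, ?_⟩
      rw [Polynomial.aeval_X]
      refine Subtype.ext (hw.symm.trans ?_)
      rw [show z = 0 from congrArg Subtype.val h0, div_zero]
      rfl
    refine ⟨Polynomial.C ⟨z, hz⟩ * Polynomial.X - Polynomial.C ⟨y, hy⟩, fun e => h0 ?_, ?_⟩
    · simpa using congrArg (fun q => q.coeff 1) e
    · rw [map_sub, map_mul, Polynomial.aeval_C, Polynomial.aeval_C, Polynomial.aeval_X]
      refine Subtype.ext ?_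
      show z * (w : K) - y = 0
      rw [← hw, mul_div_cancel₀ _ (fun e => h0 (Subtype.ext e)), sub_self]⟩
  haveI : Algebra.IsAlgebraic φ.range K := ⟨fun x => by
    have hle := pointField_le_closure φ
    letI := (Subfield.inclusion hle).toAlgebra
    haveI : IsScalarTower (pointField (Spec.map (CommRingCat.ofHom φ))) F K := IsScalarTower.of_algebraMap_eq fun _ => rfl
    exact ((isAlgebraic_pointField _ h x).tower_top (A := K) F).restrictScalars φ.range⟩
  exact integralClosure.isFractionRing_of_algebraic fun x hx => Subtype.ext hx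

end Groth.Agent.SmoothBCLib
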