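import Groth.Agent.SmoothBCLib.Stalks
import Groth.Agent.EtPtsLib.GermEq
import Mathlib.AlgebraicGeometry.Fiber
import Mathlib.AlgebraicGeometry.Morphisms.Finite

/-!
# A sheaf on a scheme locally of finite type over a base vanishes if it does at the closed points of the fibres
-/

set_option autoImplicit false
set_option linter.style.haveILetI false
set_option backward.isDefEq.respectTransparency false
set_option backward.isDefEq.respectTransparency.types false
set_option maxHeartbeats 1000000
set_option synthInstance.maxHeartbeats 400000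

universe u

open CategoryTheory CategoryTheory.Limits AlgebraicGeometry Opposite

noncomputable section

namespace Groth.Agent.SmoothBCLib

variable {X Z : Scheme.{u}}

/-- A point which has no proper specialization in its fibre. -/
def IsFibreClosed (g : X ⟶ Z) (y : X) : Prop := ∀ y' : X, y ⤳ y' → g y' = g y → y' = y

/-- Points of an étale scheme specialize to points over closed points of the fibres. -/
theorem exists_specializes_fibreClosed (g : X ⟶ Z) [LocallyOfFiniteType g] {U : Scheme.{u}} (e : U ⟶ X) [Etale e]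
    (u₀ : U) : ∃ u' : U, u₀ ⤳ u' ∧ IsFibreClosed g (e u') := by
  let h := e ≫ g
  let z := h u₀
  haveI : JacobsonSpace ↥(g.fiber z) := inferInstance
  haveI : JacobsonSpace ↥(h.fiber z) := inferInstance
  obtain ⟨c, hc, hcl⟩ := nonempty_inter_closedPoints (Z := closure ({h.asFiber u₀} : Set (h.fiber z)))
    ⟨_, subset_closure rfl⟩ isClosed_closure.isLocallyClosed
  refine ⟨h.fiberι z c, ?_, fun y' hy' hg => ?_⟩
  · have := (specializes_iff_mem_closure.2 hc).map (h.fiberι z).continuous
    rwa [Scheme.Hom.fiberι_asFiber] at this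
  let φ : h.fiber z ⟶ g.fiber z := pullback.map _ _ _ _ e (𝟙 _) (𝟙 _) (Category.comp_id _)
    (by rw [Category.comp_id, Category.id_comp])
  haveI : LocallyOfFiniteType (φ ≫ g.fiberToSpecResidueField z) := by
    have : φ ≫ g.fiberToSpecResidueField z = h.fiberToSpecResidueField z :=
      (pullback.lift_snd _ _ _).trans (Category.comp_id _)
    rw [this]
    exact MorphismProperty.pullback_snd _ _ inferInstance
  haveI : LocallyOfFiniteType φ := locallyOfFiniteType_of_comp φ (g.fiberToSpecResidueField z)
  have hφc : IsClosed ({φ c} : Set (g.fiber z)) := φ.closePoints_subset_preimage_closedPoints hcl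
  have he : g.fiberι z (φ c) = e (h.fiberι z c) := by
    rw [← Scheme.Hom.comp_apply, show φ ≫ g.fiberι z = h.fiberι z ≫ e from pullback.lift_fst _ _ _,
      Scheme.Hom.comp_apply]
  have hz : g (e (h.fiberι z c)) = z := by
    have : h.fiberι z c ∈ Set.range (h.fiberι z) := ⟨c, rfl⟩
    rw [Scheme.Hom.range_fiberι] at this
    exact this
  obtain ⟨c', rfl⟩ : y' ∈ Set.range (g.fiberι z) := by
    rw [Scheme.Hom.range_fiberι]
    exact hg.trans hz
  have hs : φ c ⤳ c' := (g.fiberι z).isEmbedding.isInducing.specializes_iff.1 (he ▸ hy')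
  rw [Set.mem_singleton_iff.1 (hs.mem_closed hφc rfl), he]

/-- Vanishing at the closed points of the fibres implies vanishing. -/
theorem isZero_of_fibreClosed (g : X ⟶ Z) [LocallyOfFiniteType g] (F : EtCoh.Ab X)
    (hF : ∀ y : X, IsFibreClosed g y → ∃ (Ω : Type u) (_ : Field Ω) (_ : IsSepClosed Ω)
      (ξ : Spec (CommRingCat.of Ω) ⟶ X), ξ default = y ∧ IsZero ((EtCoh.stalk ξ).obj F)) : IsZero F := by
  let FF : Sheaf X.smallEtaleTopology (Type (u + 1)) := (sheafCompose _ (forget AddCommGrpCat.{u + 1})).obj F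
  have key : ∀ (U : X.Etale) (s : EtCoh.sect F U), s = 0 := fun U s => by
    refine EtPtsLib.sect_eq_of_cover FF U s (0 : EtCoh.sect F U) fun u₀ => ?_
    haveI : Etale U.hom := U.prop
    obtain ⟨u', hu, hc⟩ := exists_specializes_fibreClosed g U.hom u₀
    obtain ⟨Ω, _, _, ξ, hξ, hz⟩ := hF _ hc
    obtain ⟨l, hl⟩ := Scheme.pointSmallEtaleFiberObjToPreimage_surjective ξ hξ U ⟨u', rfl⟩
    haveI := AddCommGrpCat.subsingleton_of_isZero hz
    obtain ⟨V, k, y, hy, hk⟩ := ((Scheme.pointSmallEtale ξ).toPresheafFiber_eq_iff' U l s (0 : EtCoh.sect F U)).1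
      (Subsingleton.elim (α := (EtCoh.stalk ξ).obj F) _ _)
    haveI : Etale V.hom := V.prop
    have hw : k.left ≫ U.hom = V.hom := MorphismProperty.Over.w k
    haveI : Etale (k.left ≫ U.hom) := hw ▸ inferInstance
    haveI : Etale k.left := Etale.of_comp k.left U.hom
    let v : V.left := (Scheme.pointSmallEtaleFiberObjToPreimage ξ hξ y).1
    have hv : k.left v = u' := by
      have h1 := congrArg Subtype.val hl
      rw [← hy] at h1
      exact h1
    obtain ⟨v₀, hv₀⟩ : u₀ ∈ Set.range k.left := hu.mem_open k.left.isOpenMap.isOpen_range ⟨v, hv⟩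
    exact ⟨V, k, v₀, hv₀, hk⟩
  rw [IsZero.iff_id_eq_zero]
  refine Sheaf.hom_ext (NatTrans.ext (funext fun U => ?_))
  ext s
  exact (key U.unop s).trans rfl

end Groth.Agent.SmoothBCLib
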