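import Groth.Agent.SmoothBCLib.Proper
import Groth.Agent.SmoothBCLib.Spread
import Groth.Agent.AICCover.Ring
import Groth.Agent.GeomFacLib.Loc
import Groth.Agent.Henselization.Basic
import Mathlib.RingTheory.Polynomial.Basic
import Mathlib.RingTheory.Localization.LocalizationLocalization

/-!
# Closed points of the fibres of the affine line over an absolutely integrally closed domain

The strict localization at such a point is the henselization of the line at the origin over a local ring of the
base, after a translation.
-/

set_option autoImplicit false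
set_option linter.style.haveILetI false
set_option backward.isDefEq.respectTransparency false
set_option backward.isDefEq.respectTransparency.types false
set_option maxHeartbeats 2000000
set_option synthInstance.maxHeartbeats 400000

universe u

open CategoryTheory CategoryTheory.Limits AlgebraicGeometry Opposite IsLocalRing Polynomial

noncomputable section

namespace Groth.Agent.SmoothBCLib

/-- Acyclicity of `ℤ/d` on the henselized affine line over an absolutely integrally closed local domain, at the
generic point of the base. -/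
def HenLineKey : Prop :=
  ∀ (R : Type u) [CommRing R] [IsDomain R] [IsLocalRing R], AICCover.MonicRoot R →
    ∀ (P : Ideal (Polynomial R)) [P.IsMaximal], P = (maximalIdeal R).map Polynomial.C ⊔ Ideal.span {Polynomial.X} →
    ∀ (B : Type u) [CommRing B] [IsLocalRing B] [Algebra (Localization.AtPrime P) B]
      [IsLocalHom (algebraMap (Localization.AtPrime P) B)] [Hensel.IsHenselization (Localization.AtPrime P) B]
      (K : Type u) [Field K] [Algebra R K] [IsFractionRing R K] (d : ℕ), IsUnit (d : R) → ∀ (q : ℕ), 0 < q →
      Subsingleton (EtCoh.H (pullback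
          (Spec.map (CommRingCat.ofHom (((algebraMap (Localization.AtPrime P) B).comp
            (algebraMap (Polynomial R) (Localization.AtPrime P))).comp Polynomial.C)))
          (Spec.map (CommRingCat.ofHom (algebraMap R K))))
        (EtCoh.const _ (ZMod d)) q)

/-- A strict henselization of a local ring with separably closed residue field is a henselization. -/
theorem exists_henselization_strict (L : Type u) [CommRing L] [IsLocalRing L] [IsSepClosed (ResidueField L)] :
    ∃ (B : Type u) (_ : CommRing B) (_ : IsLocalRing B) (_ : Algebra L B) (_ : IsLocalHom (algebraMap L B)),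
      Hensel.IsHenselization L B ∧ Hensel.IsStrictHenselization L B := by
  let B := Henselization.StrictHenselizationRing L
  have hB : Hensel.IsStrictHenselization L B := inferInstance
  refine ⟨B, inferInstance, inferInstance, inferInstance, inferInstance, ⟨hB.henselian, fun T _ _ f hf => ?_⟩, hB⟩
  haveI := hf
  have hs : Function.Surjective (ResidueField.map (algebraMap L B)) := by
    haveI := hB.isSepClosure.separable
    exact (algebraMap (ResidueField L) (ResidueField B)).injective |> fun _ =>
      IsSepClosed.algebraMap_surjective (ResidueField L) (ResidueField B)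
  let e := RingEquiv.ofBijective (ResidueField.map (algebraMap L B))
    ⟨(ResidueField.map (algebraMap L B)).injective, hs⟩
  let τ : ResidueField B →+* ResidueField T := (ResidueField.map f).comp e.symm.toRingHom
  have hτ : τ.comp (ResidueField.map (algebraMap L B)) = ResidueField.map f :=
    RingHom.ext fun x => congrArg (ResidueField.map f) (e.symm_apply_apply x)
  obtain ⟨g, ⟨hg, hgr⟩, hu⟩ := hB.universal T f τ hτ
  refine ⟨g, hg, fun g' hg' => hu g' ⟨hg', fun b => ?_⟩⟩
  obtain ⟨y, hy⟩ := hs (residue B b)
  obtain ⟨l, rfl⟩ := residue_surjective y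
  have hl : residue B b = residue B (algebraMap L B l) := hy.symm
  have hb : b - algebraMap L B l ∈ maximalIdeal B := by
    rw [← Ideal.Quotient.eq_zero_iff_mem, map_sub]
    exact sub_eq_zero.2 hl
  have hloc : (maximalIdeal B).map g' ≤ maximalIdeal T := by
    rw [← Henselization.map_maximalIdeal, Ideal.map_map, hg']
    exact ((local_hom_TFAE f).out 0 2 rfl rfl).mp hf
  have h1 : residue T (g' b) = residue T (g' (algebraMap L B l)) := by
    rw [← sub_eq_zero, ← map_sub, ← map_sub]
    exact Ideal.Quotient.eq_zero_iff_mem.2 (hloc (Ideal.mem_map_of_mem g' hb))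
  rw [h1, show g' (algebraMap L B l) = f l from RingHom.congr_fun hg' l]
  exact ((congrArg τ hl).trans (RingHom.congr_fun hτ (residue L l))).symm

theorem isAlgClosed_residueField_of_monicRoot (R : Type u) [CommRing R] [IsLocalRing R] (h : AICCover.MonicRoot R) :
    IsAlgClosed (ResidueField R) := by
  refine AICCover.MonicRoot.isAlgClosed fun p hp hd => ?_
  obtain ⟨q, hq, hqd, hqm⟩ := Polynomial.lifts_and_natDegree_eq_and_monic
    ((Polynomial.lifts_iff_coeff_lifts p).2 fun n => Ideal.Quotient.mk_surjective _) hp
  obtain ⟨r, hr⟩ := h q hqm (hqd ▸ hd)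
  exact ⟨residue R r, hq ▸ hr.map⟩

/-- The local ring at a closed point of a fibre is that of the origin after translation. -/
theorem exists_localRing_equiv (R₀ : Type u) [CommRing R₀] (hR₀ : AICCover.MonicRoot R₀)
    (y : Spec (CommRingCat.of (Polynomial R₀)))
    (hy : IsFibreClosed (Spec.map (CommRingCat.ofHom (Polynomial.C : R₀ →+* Polynomial R₀))) y)
    (𝔭 : Ideal R₀) [𝔭.IsPrime] (h𝔭 : 𝔭 = y.asIdeal.comap Polynomial.C) :
    ∃ (P : Ideal (Polynomial (Localization.AtPrime 𝔭))) (_ : P.IsMaximal)
      (e : (Spec (CommRingCat.of (Polynomial R₀))).presheaf.stalk y ≃+* Localization.AtPrime P),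
      P = (maximalIdeal (Localization.AtPrime 𝔭)).map Polynomial.C ⊔ Ideal.span {Polynomial.X} ∧
        ∀ r : R₀, e ((StructureSheaf.stalkAlgebra (Polynomial R₀) y).algebraMap (Polynomial.C r)) =
          algebraMap (Polynomial (Localization.AtPrime 𝔭)) (Localization.AtPrime P)
            (Polynomial.C (algebraMap R₀ (Localization.AtPrime 𝔭) r)) := by
  classical
  subst h𝔭
  let Q : Ideal (Polynomial R₀) := y.asIdeal
  haveI : Q.IsPrime := y.isPrime
  let 𝔭 : Ideal R₀ := Q.comap Polynomial.C
  let R := Localization.AtPrime 𝔭
  haveI hκ : IsAlgClosed (ResidueField R) :=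
    isAlgClosed_residueField_of_monicRoot R (hR₀.of_isLocalization 𝔭.primeCompl)
  let μ : Polynomial R₀ →+* Polynomial R := Polynomial.mapRingHom (algebraMap R₀ R)
  letI : Algebra (Polynomial R₀) (Polynomial R) := μ.toAlgebra
  let N : Submonoid (Polynomial R₀) := 𝔭.primeCompl.map Polynomial.C
  haveI : IsLocalization N (Polynomial R) := Polynomial.isLocalization 𝔭.primeCompl R
  have hdisj : Disjoint (N : Set (Polynomial R₀)) Q := by
    rw [Set.disjoint_left]
    rintro _ ⟨c, hc, rfl⟩ hQ
    exact hc hQ
  haveI : (Q.map μ).IsPrime := IsLocalization.isPrime_of_isPrime_disjoint N (Polynomial R) Q inferInstance hdisj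
  have hQc : (Q.map μ).comap μ = Q := IsLocalization.comap_map_of_isPrime_disjoint N (Polynomial R) inferInstance hdisj
  obtain ⟨M, hM, hQM⟩ := Ideal.exists_le_maximal (Q.map μ) (Ideal.IsPrime.ne_top inferInstance)
  have hMR : M.comap Polynomial.C = maximalIdeal R := by
    haveI := hM
    refine (IsLocalRing.le_maximalIdeal (Ideal.IsPrime.ne_top (Ideal.IsPrime.comap _))).antisymm ?_
    rw [← Localization.AtPrime.map_eq_maximalIdeal, Ideal.map_le_iff_le_comap]
    intro r hr
    have h1 : μ (Polynomial.C r) ∈ M := hQM (Ideal.mem_map_of_mem μ hr)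
    rwa [show μ (Polynomial.C r) = Polynomial.C (algebraMap R₀ R r) from Polynomial.map_C _] at h1
  have hM2 : M.comap μ = Q := by
    haveI := hM
    let y' : Spec (CommRingCat.of (Polynomial R₀)) := ⟨M.comap μ, inferInstance⟩
    have hle : Q ≤ M.comap μ := Ideal.map_le_iff_le_comap.1 hQM
    have h1 := hy y' ((PrimeSpectrum.le_iff_specializes y y').1 hle) ?_
    · exact congrArg PrimeSpectrum.asIdeal h1
    · refine PrimeSpectrum.ext ?_
      show (M.comap μ).comap Polynomial.C = Q.comap Polynomial.C
      rw [Ideal.comap_comap, show μ.comp Polynomial.C = Polynomial.C.comp (algebraMap R₀ R) from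
        RingHom.ext fun r => Polynomial.map_C _, ← Ideal.comap_comap, hMR]
      exact IsLocalization.AtPrime.comap_maximalIdeal R 𝔭
  haveI := hM
  -- the coordinate of the point
  obtain ⟨a, ha⟩ : ∃ a : R, Polynomial.X - Polynomial.C a ∈ M := by
    let π : Polynomial R →+* Polynomial (ResidueField R) := Polynomial.mapRingHom (residue R)
    have hπ : Function.Surjective π := Polynomial.map_surjective _ residue_surjective
    have hker : RingHom.ker π ≤ M := by
      rw [Polynomial.ker_mapRingHom, IsLocalRing.ker_residue, ← hMR]
      exact Ideal.map_comap_le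
    haveI : (M.map π).IsMaximal := Ideal.IsMaximal.map_of_surjective_of_ker_le hπ hker
    obtain ⟨p, hp⟩ := (IsPrincipalIdealRing.principal (M.map π)).principal
    have hp0 : p ≠ 0 := fun h0 => by
      have hbot : M.map π = ⊥ := by rw [hp, h0]; simp
      exact Ring.ne_bot_of_isMaximal_of_not_isField inferInstance (Polynomial.not_isField _) hbot
    have hdeg : p.degree ≠ 0 := fun hd => by
      refine Ideal.IsMaximal.ne_top (I := M.map π) inferInstance ?_
      rw [hp]
      exact Ideal.span_singleton_eq_top.2 (Polynomial.isUnit_iff_degree_eq_zero.2 hd)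
    obtain ⟨c, hc⟩ := IsAlgClosed.exists_root p hdeg
    obtain ⟨a, rfl⟩ := residue_surjective c
    refine ⟨a, ?_⟩
    have hle : M.map π ≤ Ideal.span {Polynomial.X - Polynomial.C (residue R a)} := by
      rw [hp, Ideal.submodule_span_eq, Ideal.span_singleton_le_span_singleton]
      exact Polynomial.dvd_iff_isRoot.2 hc
    have hmax : (M.map π).IsMaximal := inferInstance
    have heq := hmax.eq_of_le (by
      rw [Ne, Ideal.span_singleton_eq_top]
      exact Polynomial.not_isUnit_X_sub_C _) hle
    have hmem : π (Polynomial.X - Polynomial.C a) ∈ M.map π := by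
      rw [heq]
      exact Ideal.subset_span (by simp [π])
    obtain ⟨m, hm, hme⟩ := (Ideal.mem_map_iff_of_surjective π hπ).1 hmem
    have := M.add_mem hm (hker (show Polynomial.X - Polynomial.C a - m ∈ RingHom.ker π by
      rw [RingHom.mem_ker, map_sub, hme, sub_self]))
    simpa using this
  let τ : Polynomial R ≃+* Polynomial R := (Polynomial.algEquivAevalXAddC a).toRingEquiv
  have hτC : ∀ r : R, τ (Polynomial.C r) = Polynomial.C r := fun r => (Polynomial.algEquivAevalXAddC a).commutes r
  let P : Ideal (Polynomial R) := M.comap τ.symm.toRingHom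
  haveI : P.IsMaximal := Ideal.comap_isMaximal_of_surjective _ τ.symm.surjective
  have hP : P = (maximalIdeal R).map Polynomial.C ⊔ Ideal.span {Polynomial.X} := by
    have hC : ∀ r : R, τ.symm (Polynomial.C r) = Polynomial.C r := fun r => τ.injective (by
      rw [RingEquiv.apply_symm_apply, hτC])
    have hX : τ.symm Polynomial.X = Polynomial.X - Polynomial.C a := τ.injective (by
      rw [RingEquiv.apply_symm_apply, map_sub, hτC]
      simp [τ])
    have hXP : Polynomial.X ∈ P := by
      show τ.symm Polynomial.X ∈ M
      rw [hX]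
      exact ha
    refine le_antisymm (fun f hf => ?_) (sup_le ?_ ((Ideal.span_singleton_le_iff_mem P).2 hXP))
    · have hd : f = Polynomial.C (f.coeff 0) + Polynomial.X * f.divX := by
        rw [add_comm]; exact (Polynomial.X_mul_divX_add f).symm
      have h0 : f.coeff 0 ∈ maximalIdeal R := by
        rw [← hMR]
        show Polynomial.C (f.coeff 0) ∈ M
        rw [← hC]
        have h2 : f - Polynomial.X * f.divX ∈ P := P.sub_mem hf (P.mul_mem_right _ hXP)
        nth_rw 1 [hd] at h2
        rw [add_sub_cancel_right] at h2
        exact h2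
      rw [hd]
      exact Submodule.add_mem_sup (Ideal.mem_map_of_mem _ h0) (Ideal.mem_span_singleton.2 (dvd_mul_right _ _))
    · rw [Ideal.map_le_iff_le_comap]
      intro r hr
      show τ.symm (Polynomial.C r) ∈ M
      rw [hC]
      rw [← hMR] at hr
      exact hr
  -- the local ring at the point
  let LP := Localization.AtPrime P
  let O := (Spec (CommRingCat.of (Polynomial R₀))).presheaf.stalk y
  letI : Algebra (Polynomial R₀) O := StructureSheaf.stalkAlgebra (Polynomial R₀) y
  haveI : IsLocalization.AtPrime O Q := StructureSheaf.IsLocalization.to_stalk (Polynomial R₀) y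
  haveI : IsLocalization.AtPrime (Localization.AtPrime M) Q := by
    have := IsLocalization.isLocalization_isLocalization_atPrime_isLocalization N (Localization.AtPrime M) M
    have e : Q.primeCompl = (M.comap μ).primeCompl := by
      ext x
      show x ∉ Q ↔ x ∉ M.comap μ
      rw [hM2]
    show IsLocalization Q.primeCompl _
    rw [e]
    exact this
  let e₁ : O ≃ₐ[Polynomial R₀] Localization.AtPrime M := IsLocalization.algEquiv Q.primeCompl _ _
  let e₂ : Localization.AtPrime M ≃+* LP := IsLocalization.ringEquivOfRingEquiv (M := M.primeCompl) (T := P.primeCompl) (Localization.AtPrime M) LP τ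
    (by
      ext f
      constructor
      · rintro ⟨g, hg, rfl⟩ h
        exact hg (by simpa [P] using h)
      · intro hf
        exact ⟨τ.symm f, hf, τ.apply_symm_apply f⟩)
  let e : O ≃+* LP := e₁.toRingEquiv.trans e₂
  refine ⟨P, inferInstance, e, hP, fun r => ?_⟩
  show e₂ (e₁ (algebraMap (Polynomial R₀) O (Polynomial.C r))) = _
  rw [e₁.commutes]
  show IsLocalization.ringEquivOfRingEquiv (Localization.AtPrime M) LP τ _
    (algebraMap (Polynomial R) (Localization.AtPrime M) (μ (Polynomial.C r))) = _
  rw [IsLocalization.ringEquivOfRingEquiv_eq, show μ (Polynomial.C r) = Polynomial.C (algebraMap R₀ R r) from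
    Polynomial.map_C _, hτC]

/-- The residue field at the origin of the line is that of the base. -/
theorem isAlgClosed_residueField_origin (R : Type u) [CommRing R] [IsLocalRing R] [IsAlgClosed (ResidueField R)]
    (P : Ideal (Polynomial R)) [P.IsMaximal] (hP : P = (maximalIdeal R).map Polynomial.C ⊔ Ideal.span {Polynomial.X}) :
    IsAlgClosed (ResidueField (Localization.AtPrime P)) := by
  let LP := Localization.AtPrime P
  let h : R →+* ResidueField LP := ((residue LP).comp (algebraMap (Polynomial R) LP)).comp Polynomial.C
  have hXP : Polynomial.X ∈ P := by rw [hP]; exact Submodule.mem_sup_right (Ideal.subset_span rfl)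
  let ν : ResidueField R →+* ResidueField LP := Ideal.Quotient.lift _ h fun r hr => by
    refine Ideal.Quotient.eq_zero_iff_mem.2 ((IsLocalization.AtPrime.to_map_mem_maximal_iff LP P _).2 ?_)
    rw [hP]
    exact Submodule.mem_sup_left (Ideal.mem_map_of_mem _ hr)
  refine IsAlgClosed.of_ringEquiv (ResidueField R) _ (RingEquiv.ofBijective ν ⟨ν.injective, fun z => ?_⟩)
  obtain ⟨f, rfl⟩ : ∃ f, residue LP (algebraMap (Polynomial R) LP f) = z :=
    Ideal.algebraMap_residueField_surjective P z
  refine ⟨residue R (f.coeff 0), ?_⟩
  show residue LP (algebraMap (Polynomial R) LP (Polynomial.C (f.coeff 0))) = _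
  rw [eq_comm, ← sub_eq_zero, ← map_sub, IsLocalRing.residue_eq_zero_iff, ← map_sub,
    IsLocalization.AtPrime.to_map_mem_maximal_iff LP P]
  have hd : f - Polynomial.C (f.coeff 0) = Polynomial.X * f.divX := by
    rw [sub_eq_iff_eq_add]
    exact (Polynomial.X_mul_divX_add f).symm
  rw [hd]
  exact P.mul_mem_right _ hXP

/-- Vanishing at the closed points of the fibres. -/
theorem exists_vanish_closedPoint (hkey : HenLineKey.{u}) (R₀ : Type u) [CommRing R₀] [IsDomain R₀]
    (hR₀ : AICCover.MonicRoot R₀) (K : Type u) [Field K] [Algebra R₀ K] [IsFractionRing R₀ K]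
    (y : Spec (CommRingCat.of (Polynomial R₀)))
    (hy : IsFibreClosed (Spec.map (CommRingCat.ofHom (Polynomial.C : R₀ →+* Polynomial R₀))) y)
    {n : ℕ} (hn : IsUnit (n : R₀)) (q : ℕ) :
    ∃ (B : Type u) (_ : CommRing B) (_ : IsLocalRing B)
      (_ : Algebra ((Spec (CommRingCat.of (Polynomial R₀))).presheaf.stalk y) B)
      (_ : IsLocalHom (algebraMap ((Spec (CommRingCat.of (Polynomial R₀))).presheaf.stalk y) B))
      (_ : Hensel.IsStrictHenselization ((Spec (CommRingCat.of (Polynomial R₀))).presheaf.stalk y) B)
      (_ : IsSepClosed (ResidueField B)),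
      ZModVanish (pullback (Hens2.specOf (Spec (CommRingCat.of (Polynomial R₀))) y B ≫
          Spec.map (CommRingCat.ofHom Polynomial.C)) (Spec.map (CommRingCat.ofHom (algebraMap R₀ K)))) n (q + 1) := by
  let 𝔭 : Ideal R₀ := y.asIdeal.comap Polynomial.C
  haveI : 𝔭.IsPrime := Ideal.IsPrime.comap _
  obtain ⟨P, hPm, e, hP, he⟩ := exists_localRing_equiv R₀ hR₀ y hy 𝔭 rfl
  haveI := hPm
  let R := Localization.AtPrime 𝔭
  haveI : IsDomain R := IsLocalization.isDomain_localization 𝔭.primeCompl_le_nonZeroDivisors
  have hR : AICCover.MonicRoot R := hR₀.of_isLocalization 𝔭.primeCompl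
  haveI : IsAlgClosed (ResidueField R) := isAlgClosed_residueField_of_monicRoot R hR
  let LP := Localization.AtPrime P
  let O := (Spec (CommRingCat.of (Polynomial R₀))).presheaf.stalk y
  haveI := isAlgClosed_residueField_origin R P hP
  obtain ⟨B, _, _, algB, locB, hH, hSH⟩ := exists_henselization_strict LP
  letI algO : Algebra O B := ((algebraMap LP B).comp e.toRingHom).toAlgebra
  haveI locO : IsLocalHom (algebraMap O B) := by
    haveI : IsLocalHom e.toRingHom := ⟨fun r hr => (MulEquiv.isUnit_map e.toMulEquiv).1 hr⟩
    exact RingHom.isLocalHom_comp _ _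
  haveI hSO : Hensel.IsStrictHenselization O B :=
    GeomFacLib.isStrictHenselization_of_ringEquiv (R := LP) (R' := O) (T := B) (e := e.symm) (he := fun r => by
      show algebraMap LP B (e (e.symm r)) = _
      rw [RingEquiv.apply_symm_apply])
  haveI : IsSepClosed (ResidueField B) := hSH.isSepClosure.sep_closed
  refine ⟨B, inferInstance, inferInstance, algO, locO, hSO, inferInstance, fun d hd hd0 => ?_⟩
  have hdR : IsUnit (d : R) := by
    have hnR := hn.map (algebraMap R₀ R)
    rw [map_natCast] at hnR
    exact isUnit_of_dvd_unit (Nat.cast_dvd_cast hd) hnR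
  -- the fraction field over the local ring of the base
  letI : Algebra R K := (IsLocalization.lift (M := 𝔭.primeCompl) (g := algebraMap R₀ K) fun s =>
    isUnit_iff_ne_zero.2 fun h0 => s.2 (by
      rw [← map_zero (algebraMap R₀ K)] at h0
      rw [IsFractionRing.injective R₀ K h0]
      exact zero_mem _)).toAlgebra
  haveI : IsScalarTower R₀ R K := IsScalarTower.of_algebraMap_eq fun r => (IsLocalization.lift_eq _ r).symm
  haveI : IsFractionRing R K := IsFractionRing.isFractionRing_of_isDomain_of_isLocalization 𝔭.primeCompl R K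
  have hvan := hkey R hR P hP B K d hdR (q + 1) q.succ_pos
  let ι : Spec (CommRingCat.of R) ⟶ Spec (CommRingCat.of R₀) := Spec.map (CommRingCat.ofHom (algebraMap R₀ R))
  haveI : IsPreimmersion ι := IsPreimmersion.of_isLocalization 𝔭.primeCompl
  haveI : Mono ι := inferInstance
  have hu : Hens2.specOf (Spec (CommRingCat.of (Polynomial R₀))) y B ≫ Spec.map (CommRingCat.ofHom Polynomial.C) =
      Spec.map (CommRingCat.ofHom (((algebraMap LP B).comp (algebraMap (Polynomial R) LP)).comp Polynomial.C)) ≫ ι := by
    show (_ ≫ _) ≫ _ = _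
    rw [Spec.fromSpecStalk_eq, ← Spec.map_comp, ← Spec.map_comp, ← Spec.map_comp]
    refine congrArg Spec.map (CommRingCat.hom_ext (RingHom.ext fun r => ?_))
    exact (congrArg (algebraMap LP B) (he r))
  have hη : Spec.map (CommRingCat.ofHom (algebraMap R₀ K)) = Spec.map (CommRingCat.ofHom (algebraMap R K)) ≫ ι := by
    rw [← Spec.map_comp, IsScalarTower.algebraMap_eq R₀ R K]
    rfl
  rw [hu, hη]
  let sq := CdFieldLib.isPullback_of_comp_mono
    (Spec.map (CommRingCat.ofHom (((algebraMap LP B).comp (algebraMap (Polynomial R) LP)).comp Polynomial.C)))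
    (Spec.map (CommRingCat.ofHom (algebraMap R K))) ι
  exact (PBCLib.nonempty_H_const_iso sq.isoPullback (ZMod d) (q + 1)).some.symm.toEquiv.subsingleton

end Groth.Agent.SmoothBCLib
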