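import Groth.Agent.SmoothBCLib.Localize
import Groth.Agent.SmoothBCLib.ClosedPoint
import Groth.Agent.SmoothBCLib.AlgField
import Groth.Agent.SpSeqLib.DerivedComp
import Groth.Agent.S6662
import Mathlib.Algebra.MvPolynomial.Equiv

/-!
# Affine lines are acyclic at algebraic geometric points, given acyclicity of the henselized line
-/

set_option autoImplicit false
set_option linter.style.haveILetI false
set_option backward.isDefEq.respectTransparency false
set_option backward.isDefEq.respectTransparency.types false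
set_option maxHeartbeats 2000000
set_option synthInstance.maxHeartbeats 400000

universe u

open CategoryTheory CategoryTheory.Limits AlgebraicGeometry Opposite

noncomputable section

namespace Groth.Agent.SmoothBCLib

/-- A line over an affine scheme is the spectrum of the polynomial ring. -/
theorem IsLine.exists_iso_spec {R : Type u} [CommRing R] {X : Scheme.{u}} {g : X ⟶ Spec (CommRingCat.of R)}
    (hg : IsLine g) : ∃ e : Spec (CommRingCat.of (Polynomial R)) ≅ X,
      e.hom ≫ g = Spec.map (CommRingCat.ofHom Polynomial.C) := by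
  obtain ⟨e, rfl⟩ := hg
  let f : MvPolynomial PUnit.{u + 1} R ≃+* Polynomial R := (MvPolynomial.pUnitAlgEquiv.{u, u} R).toRingEquiv
  refine ⟨Scheme.Spec.mapIso f.toCommRingCatIso.op ≪≫
    (AffineSpace.SpecIso PUnit.{u + 1} (CommRingCat.of R)).symm ≪≫ e.symm, ?_⟩
  simp only [Iso.trans_hom, Category.assoc, Iso.symm_hom, Iso.inv_hom_id_assoc]
  rw [AffineSpace.SpecIso_inv_over]
  show Spec.map _ ≫ Spec.map _ = _
  rw [← Spec.map_comp]
  refine congrArg Spec.map (CommRingCat.hom_ext (RingHom.ext fun r => ?_))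
  exact (MvPolynomial.pUnitAlgEquiv.{u, u} R).commutes r

/-- The case of a point which is the generic point of an absolutely integrally closed integral scheme over the
base. -/
theorem isZero_Rpush_pull_closure (hkey : HenLineKey.{u}) {n : ℕ} (hn : 0 < n) {A : Type u} [CommRing A]
    {S' : Scheme.{u}} {g : S' ⟶ Spec (CommRingCat.of A)} (hg : IsLine g) (hS : InvOn n (Spec (CommRingCat.of A)))
    {K : Type u} [Field K] [IsAlgClosed K] (φ : A →+* K) (R₀ : Type u) [CommRing R₀] [IsDomain R₀]
    (hR₀ : AICCover.MonicRoot R₀) [Algebra R₀ K] [IsFractionRing R₀ K] (i₀ : A →+* R₀) (hi₀ : i₀.IsIntegral)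
    (hc : (algebraMap R₀ K).comp i₀ = φ)
    {P : Scheme.{u}} {a : P ⟶ S'} {b : P ⟶ Spec (CommRingCat.of K)}
    (hP : IsPullback a b g (Spec.map (CommRingCat.ofHom φ))) (G : EtCoh.Ab (Spec (CommRingCat.of K)))
    (hG : EtCoh.KilledBy n G) (q : ℕ) : IsZero ((EtCoh.Rpush a (q + 1)).obj ((EtCoh.pull b).obj G)) := by
  let ι := Spec.map (CommRingCat.ofHom i₀)
  haveI : IsIntegralHom ι := IsIntegralHom.SpecMap_iff.2 hi₀
  let η := Spec.map (CommRingCat.ofHom (algebraMap R₀ K))
  have hη : η ≫ ι = Spec.map (CommRingCat.ofHom φ) := by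
    rw [← Spec.map_comp]
    exact congrArg Spec.map (CommRingCat.hom_ext hc)
  let gZ := pullback.snd g ι
  obtain ⟨e, he⟩ := (hg.isPullback_map (IsPullback.of_hasPullback g ι)).exists_iso_spec
  let ι'' : Spec (CommRingCat.of (Polynomial R₀)) ⟶ S' := e.hom ≫ pullback.fst g ι
  let gX := Spec.map (CommRingCat.ofHom (Polynomial.C : R₀ →+* Polynomial R₀))
  haveI : IsIntegralHom ι'' := inferInstance
  have sqX : IsPullback ι'' gX g ι :=
    (IsPullback.of_horiz_isIso ⟨he.trans (Category.comp_id _).symm⟩).paste_horiz (IsPullback.of_hasPullback g ι) |>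
      fun h => Category.id_comp ι ▸ h
  rw [← hη] at hP
  let a' : P ⟶ Spec (CommRingCat.of (Polynomial R₀)) := sqX.lift a (b ≫ η) (by rw [hP.w, Category.assoc])
  have ha : a' ≫ ι'' = a := sqX.lift_fst _ _ _
  have hP' : IsPullback a' b gX η :=
    IsPullback.of_right (h₁₁ := a') (ha.symm ▸ hP) (sqX.lift_snd _ _ _) sqX
  have hn₀ : IsUnit (n : R₀) := by
    have h : IsUnit (n : A) := by
      have := hS.map (Scheme.ΓSpecIso (CommRingCat.of A)).hom.hom
      rwa [map_natCast] at this
    have := h.map i₀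
    rwa [map_natCast] at this
  haveI : QuasiCompact a' := MorphismProperty.of_isPullback hP'.flip inferInstance
  haveI : QuasiSeparated a' := MorphismProperty.of_isPullback hP'.flip inferInstance
  haveI : LocallyOfFiniteType gX := by
    rw [HasRingHomProperty.Spec_iff (P := @LocallyOfFiniteType)]
    exact RingHom.finiteType_algebraMap.2 inferInstance
  let N := (EtCoh.pull b).obj G
  have hz : IsZero ((EtCoh.Rpush a' (q + 1)).obj N) := by
    refine isZero_of_fibreClosed gX _ fun y hy => ?_
    obtain ⟨B, _, _, _, _, _, _, hB⟩ := exists_vanish_closedPoint hkey R₀ hR₀ K y hy hn₀ q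
    refine ⟨_, inferInstance, inferInstance, Hens2.geomPt _ y B, geomPt_default y B, ?_⟩
    haveI := subsingleton_H_pull_of_zmod hn hP' (q + 1) y B hB G hG
    exact (AddCommGrpCat.isZero_of_subsingleton _).of_iso (S0620.result a' N y B (q + 1)).some
  haveI := S6662.preservesFiniteColimits_push_integral ι''
  haveI : (EtCoh.push ι'').IsRightAdjoint := (EtCoh.pullPushAdj ι'').isRightAdjoint
  haveI : PreservesFiniteLimits (EtCoh.push ι'') := inferInstance
  haveI : (EtCoh.push a').IsRightAdjoint := (EtCoh.pullPushAdj a').isRightAdjoint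
  refine IsZero.of_iso ((EtCoh.push ι'').map_isZero hz)
    ((SpSeqLib.rightDerivedCongr ((EtCoh.pushCongr ha).symm ≪≫ (EtCoh.pushComp ι'' a').symm) (q + 1)).app N ≪≫
      (SpSeqLib.rightDerivedPostcompIso (EtCoh.push a') (EtCoh.push ι'') (q + 1)).app N)

/-- The case of an algebraic point of an affine base. -/
theorem isZero_Rpush_pull_alg (hkey : HenLineKey.{u}) {n : ℕ} (hn : 0 < n) {A : Type u} [CommRing A]
    {S' : Scheme.{u}} {g : S' ⟶ Spec (CommRingCat.of A)} (hg : IsLine g) (hS : InvOn n (Spec (CommRingCat.of A)))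
    {K : Type u} [Field K] [IsAlgClosed K] (φ : A →+* K) (hφ : PBCLib.IsAlgPt (Spec.map (CommRingCat.ofHom φ)))
    {P : Scheme.{u}} {a : P ⟶ S'} {b : P ⟶ Spec (CommRingCat.of K)}
    (hP : IsPullback a b g (Spec.map (CommRingCat.ofHom φ))) (G : EtCoh.Ab (Spec (CommRingCat.of K)))
    (hG : EtCoh.KilledBy n G) (q : ℕ) : IsZero ((EtCoh.Rpush a (q + 1)).obj ((EtCoh.pull b).obj G)) := by
  let R₀ := integralClosure φ.range K
  haveI : IsFractionRing R₀ K := isFractionRing_integralClosure φ hφ
  have hR₀ : AICCover.MonicRoot R₀ :=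
    PBCLib.monicRoot_integralClosure fun p hp hd => IsAlgClosed.exists_root p fun h => by
      rw [Polynomial.degree_eq_natDegree hp.ne_zero] at h
      exact hd.ne' (by exact_mod_cast h)
  let i₀ : A →+* R₀ := (algebraMap φ.range R₀).comp φ.rangeRestrict
  have hi₀ : i₀.IsIntegral := RingHom.IsIntegral.trans _ _
    (RingHom.isIntegral_of_surjective _ φ.rangeRestrict_surjective)
    (fun x => Algebra.IsIntegral.isIntegral (R := φ.range) x)
  exact isZero_Rpush_pull_closure hkey hn hg hS φ R₀ hR₀ i₀ hi₀ (RingHom.ext fun x => rfl) hP G hG q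

/-- **Acyclicity of affine lines at algebraic geometric points.** -/
theorem algLineVanish_of_key (hkey : HenLineKey.{u}) {n : ℕ} (hn : 0 < n) : AlgLineVanish.{u} n := by
  intro S' S g hg hS K _ _ ξ hξ s R _ _ _ _ _ _ q
  have sq : IsPullback (pullback.fst g ξ) (pullback.snd g ξ) g ξ := IsPullback.of_hasPullback g ξ
  haveI : QuasiCompact ξ := ⟨fun U _ _ => Set.Finite.isCompact (Set.toFinite _)⟩
  refine zmodVanish_of_isZero sq (q + 1) (fun G hG => ?_) s R
  refine isZero_Rpush_pull_local g ξ _ _ sq G q fun A j _ φ hφ P' a' b' hP' => ?_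
  refine isZero_Rpush_pull_alg hkey hn (hg.isPullback_map (IsPullback.of_hasPullback g j)) (hS.of_hom j) φ.hom ?_ hP' G hG q
  show PBCLib.IsAlgPt (Spec.map φ)
  rw [← hφ, PBCLib.IsAlgPt, Scheme.residueFieldMap_comp, CommRingCat.hom_comp] at hξ
  exact RingHom.IsIntegral.tower_top _ _ hξ

end Groth.Agent.SmoothBCLib
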