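import Groth.Agent.SmoothBCLib.Step
import Mathlib.AlgebraicGeometry.AffineSpace
import Mathlib.AlgebraicGeometry.Morphisms.Smooth

/-!
# Relative affine lines
-/

set_option autoImplicit false
set_option linter.style.haveILetI false
set_option backward.isDefEq.respectTransparency false
set_option backward.isDefEq.respectTransparency.types false
set_option maxHeartbeats 1000000

universe u

open CategoryTheory CategoryTheory.Limits AlgebraicGeometry Opposite

noncomputable section

namespace Groth.Agent.SmoothBCLib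

/-- A morphism isomorphic to the projection of a relative affine line. -/
def IsLine {S' S : Scheme.{u}} (g : S' ⟶ S) : Prop :=
  ∃ e : S' ≅ 𝔸(PUnit.{u + 1}; S), e.hom ≫ (𝔸(PUnit.{u + 1}; S) ↘ S) = g

theorem isLine_affineSpace (S : Scheme.{u}) : IsLine (𝔸(PUnit.{u + 1}; S) ↘ S) := ⟨Iso.refl _, Category.id_comp _⟩

theorem IsLine.isPullback_map {S' S S₁ S₁' : Scheme.{u}} {g : S' ⟶ S} (hg : IsLine g) {b : S₁ ⟶ S}
    {g₁ : S₁' ⟶ S₁} {b' : S₁' ⟶ S'} (sq : IsPullback b' g₁ g b) : IsLine g₁ := by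
  obtain ⟨e, he⟩ := hg
  have e' : IsPullback e.hom g (𝔸(PUnit.{u + 1}; S) ↘ S) (𝟙 S) :=
    IsPullback.of_horiz_isIso ⟨by rw [Category.comp_id, he]⟩
  have sq' : IsPullback (b' ≫ e.hom) g₁ (𝔸(PUnit.{u + 1}; S) ↘ S) b :=
    Category.comp_id b ▸ sq.paste_horiz e'
  exact ⟨sq'.isoIsPullback _ _ (AffineSpace.isPullback_map b), sq'.isoIsPullback_hom_snd _ _ _⟩

theorem smooth_affineLine (S : Scheme.{u}) : Smooth (𝔸(PUnit.{u + 1}; S) ↘ S) :=
  MorphismProperty.pullback_fst _ _ <| by
    open AffineSpace MvPolynomial in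
    have := isIso_of_isTerminal specULiftZIsTerminal.{u} terminalIsTerminal (terminal.from _)
    rw [← terminal.comp_from (Spec.map (CommRingCat.ofHom MvPolynomial.C)),
      MorphismProperty.cancel_right_of_respectsIso (P := @Smooth),
      HasRingHomProperty.Spec_iff (P := @Smooth), CommRingCat.hom_ofHom, ← MvPolynomial.algebraMap_eq,
      RingHom.smooth_algebraMap]
    show Algebra.Smooth (ULift.{u} ℤ) (MvPolynomial PUnit.{u + 1} (ULift.{u} ℤ))
    exact ⟨inferInstance, inferInstance⟩

theorem IsLine.smooth {S' S : Scheme.{u}} {g : S' ⟶ S} (hg : IsLine g) : Smooth g := by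
  obtain ⟨e, rfl⟩ := hg
  haveI := smooth_affineLine S
  infer_instance

end Groth.Agent.SmoothBCLib
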