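import Groth.Agent.PBCLib.Glue
import Groth.Agent.PBCLib.P1Pow

/-!
# The subfield attached to a field valued point

Finitely many elements of a field can be made coordinates of a point of a fibre power of the projective line,
over which the field is then algebraic if it was algebraic over the field they generate.
-/

set_option autoImplicit false
set_option linter.style.haveILetI false
set_option backward.isDefEq.respectTransparency false
set_option backward.isDefEq.respectTransparency.types false
set_option maxHeartbeats 1000000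

universe u

open CategoryTheory CategoryTheory.Limits AlgebraicGeometry Opposite

noncomputable section

namespace Groth.Agent.SmoothBCLib

variable {K : Type u} [Field K]

/-- The residue field of the image of a field valued point, as a subfield. -/
def pointField {X : Scheme.{u}} (η : Spec (CommRingCat.of K) ⟶ X) : Subfield K :=
  ((X.descResidueField (Scheme.stalkClosedPointTo η)).hom).fieldRange

theorem pointField_comp {X Y : Scheme.{u}} (η : Spec (CommRingCat.of K) ⟶ X) (f : X ⟶ Y) :
    pointField (η ≫ f) ≤ pointField η := by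
  rintro _ ⟨z, rfl⟩
  exact ⟨_, (congrArg (fun m => m.hom z) (Scheme.descResidueField_stalkClosedPointTo_comp f η)).symm⟩

theorem le_pointField_comp {X Y : Scheme.{u}} (η : Spec (CommRingCat.of K) ⟶ X) (f : X ⟶ Y) [IsOpenImmersion f] :
    pointField η ≤ pointField (η ≫ f) := by
  rintro _ ⟨z, rfl⟩
  obtain ⟨y, rfl⟩ := (ConcreteCategory.bijective_of_isIso (f.residueFieldMap (η (IsLocalRing.closedPoint K)))).2 z
  exact ⟨y, congrArg (fun m => m.hom y) (Scheme.descResidueField_stalkClosedPointTo_comp f η)⟩

theorem mem_pointField_specMap {A : Type u} [CommRing A] (φ : A →+* K) (a : A) :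
    φ a ∈ pointField (Spec.map (CommRingCat.ofHom φ)) := by
  let s := (Scheme.ΓSpecIso (CommRingCat.of A)).inv a
  refine ⟨(Spec (CommRingCat.of A)).residue _ ((Spec (CommRingCat.of A)).presheaf.germ ⊤ _ trivial s), ?_⟩
  have h := congrArg (fun m => m.hom s) (Scheme.germ_stalkClosedPointTo_Spec (CommRingCat.ofHom φ))
  refine Eq.trans ?_ (h.trans (congrArg φ (Iso.inv_hom_id_apply (Scheme.ΓSpecIso (CommRingCat.of A)) a)))
  rfl

theorem isAlgPt_of_pointField {X : Scheme.{u}} (η : Spec (CommRingCat.of K) ⟶ X)
    (h : ∀ x : K, IsAlgebraic (pointField η) x) : PBCLib.IsAlgPt η := by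
  let ψ := X.descResidueField (Scheme.stalkClosedPointTo η)
  rw [← Scheme.descResidueField_stalkClosedPointTo_fromSpecResidueField K X η]
  refine PBCLib.isAlgPt_specMap_fromSpecResidueField _ ψ fun x => ?_
  obtain ⟨p, hp, hpx⟩ := (h x).isIntegral
  have hs : Function.Surjective ψ.hom.rangeRestrictField := fun y => by
    obtain ⟨z, hz⟩ := y.2
    exact ⟨z, Subtype.ext hz⟩
  obtain ⟨q, hq, -, hqm⟩ := Polynomial.lifts_and_natDegree_eq_and_monic
    ((Polynomial.lifts_iff_coeff_lifts p).2 fun n => hs _) hp
  refine ⟨q, hqm, ?_⟩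
  rw [← hq, Polynomial.eval₂_map] at hpx
  exact hpx

/-- Finitely many elements become coordinates of an algebraic point of a fibre power of the projective line. -/
theorem exists_algPt_P1Pow {A : Type u} [CommRing A] (φ : A →+* K) (N : ℕ) (v : Fin N → K)
    (h : ∀ x : K, IsAlgebraic (Subfield.closure (Set.range φ ∪ Set.range v)) x) :
    ∃ η : Spec (CommRingCat.of K) ⟶ PBCLib.P1Pow N (Spec (CommRingCat.of A)),
      η ≫ PBCLib.P1Pow.toBase N _ = Spec.map (CommRingCat.ofHom φ) ∧ PBCLib.IsAlgPt η := by
  obtain ⟨η, hη, hc⟩ := PBCLib.P1Pow.exists_mk N (S := Spec (CommRingCat.of A)) (Spec.map (CommRingCat.ofHom φ))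
    fun i => PBCLib.coordSpec K (v i)
  refine ⟨η, hη, isAlgPt_of_pointField η fun x => ?_⟩
  have hle : Subfield.closure (Set.range φ ∪ Set.range v) ≤ pointField η := by
    rw [Subfield.closure_le]
    rintro y (⟨a, rfl⟩ | ⟨i, rfl⟩)
    · exact pointField_comp η _ (hη ▸ mem_pointField_specMap φ a)
    · refine pointField_comp η (PBCLib.P1Pow.proj N _ i) ?_
      rw [hc i]
      refine le_pointField_comp _ PBCLib.chartι ?_
      have := mem_pointField_specMap (P1.chartMap 0 K (v i)) PBCLib.chartCoord
      rwa [PBCLib.chartMap_chartCoord] at this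
  letI := (Subfield.inclusion hle).toAlgebra
  haveI : IsScalarTower (Subfield.closure (Set.range φ ∪ Set.range v)) (pointField η) K :=
    IsScalarTower.of_algebraMap_eq fun _ => rfl
  exact (h x).tower_top _

end Groth.Agent.SmoothBCLib
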