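import Groth.Agent.SmoothBCLib.Localize
import Groth.Agent.SmoothBCLib.PointField

/-!
# Acyclicity of the affine line at all geometric points from that at the algebraic ones
-/

set_option autoImplicit false
set_option linter.style.haveILetI false
set_option backward.isDefEq.respectTransparency false
set_option backward.isDefEq.respectTransparency.types false
set_option maxHeartbeats 2000000
set_option synthInstance.maxHeartbeats 400000

universe u

open CategoryTheory CategoryTheory.Limits AlgebraicGeometry Opposite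

noncomputable section

namespace Groth.Agent.SmoothBCLib

section Field

variable {A : Type u} [CommRing A] {K : Type u} [Field K] (φ : A →+* K)

omit φ in
/-- The elements algebraic over a subfield. -/
def algIn (F : Subfield K) : Subfield K := (algebraicClosure F K).toSubfield

omit φ in
theorem mem_algIn {F : Subfield K} {x : K} : x ∈ algIn F ↔ IsAlgebraic F x := by
  rw [algIn, IntermediateField.mem_toSubfield, mem_algebraicClosure_iff]

omit φ in
theorem isAlgClosed_algIn [IsAlgClosed K] (F : Subfield K) : IsAlgClosed (algIn F) := by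
  haveI : IsAlgClosed (algebraicClosure F K) := (algebraicClosure.isAlgClosure F K).isAlgClosed
  exact inferInstanceAs (IsAlgClosed (algebraicClosure F K))

/-- The elements algebraic over the field generated by the image of `φ` and a finite set. -/
def algGen (J : Finset K) : Subfield K := algIn (Subfield.closure (Set.range φ ∪ (J : Set K)))

theorem mem_algGen {J : Finset K} {x : K} :
    x ∈ algGen φ J ↔ IsAlgebraic (Subfield.closure (Set.range φ ∪ (J : Set K))) x := mem_algIn

theorem closure_le_algGen (J : Finset K) : Subfield.closure (Set.range φ ∪ (J : Set K)) ≤ algGen φ J := fun x hx =>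
  (mem_algGen φ).2 (isAlgebraic_algebraMap (⟨x, hx⟩ : Subfield.closure (Set.range φ ∪ (J : Set K))))

omit φ in
theorem algIn_mono {F F' : Subfield K} (hle : F ≤ F') : algIn F ≤ algIn F' := fun x hx => by
  letI := (Subfield.inclusion hle).toAlgebra
  haveI : IsScalarTower F F' K := IsScalarTower.of_algebraMap_eq fun _ => rfl
  exact mem_algIn.2 ((mem_algIn.1 hx).tower_top _)

theorem algGen_mono {J J' : Finset K} (h : J ⊆ J') : algGen φ J ≤ algGen φ J' :=
  algIn_mono (Subfield.closure_mono (Set.union_subset_union_right _ (Finset.coe_subset.2 h)))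

instance isAlgClosed_algGen [IsAlgClosed K] (J : Finset K) : IsAlgClosed (algGen φ J) := isAlgClosed_algIn _

/-- The structure map into `algGen`. -/
def algGenHom (J : Finset K) : A →+* algGen φ J :=
  φ.codRestrict _ fun a => closure_le_algGen φ J (Subfield.subset_closure (Or.inl ⟨a, rfl⟩))

theorem exists_algPt_algGen (J : Finset K) :
    ∃ η : Spec (CommRingCat.of (algGen φ J)) ⟶ PBCLib.P1Pow J.card (Spec (CommRingCat.of A)),
      η ≫ PBCLib.P1Pow.toBase J.card _ = Spec.map (CommRingCat.ofHom (algGenHom φ J)) ∧ PBCLib.IsAlgPt η := by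
  let v : Fin J.card → algGen φ J := fun i =>
    ⟨(J.equivFin.symm i).1, closure_le_algGen φ J (Subfield.subset_closure (Or.inr (J.equivFin.symm i).2))⟩
  refine exists_algPt_P1Pow (algGenHom φ J) J.card v fun x => ?_
  let L := algGen φ J
  let F₀ := Subfield.closure (Set.range φ ∪ (J : Set K))
  let F₁ := Subfield.closure (Set.range (algGenHom φ J) ∪ Set.range v)
  have hF : ∀ y : K, ∀ hy : y ∈ F₀, (⟨y, closure_le_algGen φ J hy⟩ : L) ∈ F₁ := by
    have h : F₀ ≤ F₁.map L.subtype := by
      rw [Subfield.closure_le]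
      rintro y (⟨a, rfl⟩ | hy)
      · exact ⟨algGenHom φ J a, Subfield.subset_closure (Or.inl ⟨a, rfl⟩), rfl⟩
      · exact ⟨v (J.equivFin ⟨y, hy⟩), Subfield.subset_closure (Or.inr ⟨_, rfl⟩), by simp [v]⟩
    intro y hy
    obtain ⟨z, hz, hzy⟩ := h hy
    exact (Subtype.ext hzy : z = ⟨y, closure_le_algGen φ J hy⟩) ▸ hz
  let e : F₀ →+* F₁ :=
    { toFun := fun y => ⟨⟨y.1, closure_le_algGen φ J y.2⟩, hF y.1 y.2⟩
      map_one' := rfl
      map_mul' := fun _ _ => rfl
      map_zero' := rfl
      map_add' := fun _ _ => rfl }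
  obtain ⟨p, hp0, hp⟩ := (mem_algGen φ).1 x.2
  refine ⟨p.map e, (Polynomial.map_ne_zero_iff e.injective).2 hp0, ?_⟩
  apply L.subtype.injective
  rw [map_zero, ← hp, Polynomial.aeval_def, Polynomial.aeval_def, Polynomial.eval₂_map, Polynomial.hom_eval₂]
  rfl

theorem mem_algGen_singleton (x : K) : x ∈ algGen φ {x} :=
  closure_le_algGen φ {x} (Subfield.subset_closure (Or.inr (by simp)))

end Field

section Family

variable {I : Type u} [Preorder I] [IsDirected I (· ≤ ·)] [Nonempty I] {K : Type u} [Field K] (L : I → Subfield K)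
  (hL : ∀ ⦃i j : I⦄, i ≤ j → L i ≤ L j)

/-- The diagram of a directed family of subfields. -/
def subfieldDiag : I ⥤ CommRingCat.{u} where
  obj i := CommRingCat.of (L i)
  map {i j} h := CommRingCat.ofHom (Subfield.inclusion (hL (leOfHom h)))
  map_id i := rfl
  map_comp a b := rfl

/-- Its cocone in the field. -/
def subfieldCocone : Cocone (subfieldDiag L hL) where
  pt := CommRingCat.of K
  ι := { app := fun i => CommRingCat.ofHom (L i).subtype, naturality := fun _ _ _ => rfl }

include hL in
theorem exists_isColimit_subfieldCocone (hcov : ∀ x : K, ∃ i, x ∈ L i) :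
    Nonempty (IsColimit (subfieldCocone L hL)) := by
  haveI : PreservesColimit (subfieldDiag L hL) (forget CommRingCat.{u}) := inferInstance
  haveI : ReflectsColimit (subfieldDiag L hL) (forget CommRingCat.{u}) :=
    reflectsColimit_of_reflectsIsomorphisms _ _
  refine ⟨isColimitOfReflects (forget CommRingCat.{u}) (Types.FilteredColimit.isColimitOf' _ _ (fun x => ?_)
    fun i x y e => ⟨i, 𝟙 i, congrArg _ (Subtype.ext e)⟩)⟩
  obtain ⟨i, hi⟩ := hcov x
  exact ⟨i, ⟨x, hi⟩, rfl⟩

include hL in
/-- Vanishing of cohomology of pullbacks along the subfields passes to the field. -/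
theorem subsingleton_H_pullback_subfields (hcov : ∀ x : K, ∃ i, x ∈ L i) {A : Type u} [CommRing A] (φ : A →+* K)
    (φL : ∀ i, A →+* L i) (hφ : ∀ i a, (φL i a : K) = φ a) {W : Scheme.{u}} [IsAffine W]
    (m : W ⟶ Spec (CommRingCat.of A)) (M : Type) [AddCommGroup M] (q : ℕ)
    (h : ∀ i, Subsingleton (EtCoh.H (pullback m (Spec.map (CommRingCat.ofHom (φL i)))) (EtCoh.const _ M) q)) :
    Subsingleton (EtCoh.H (pullback m (Spec.map (CommRingCat.ofHom φ))) (EtCoh.const _ M) q) := by
  obtain ⟨hc₀⟩ := exists_isColimit_subfieldCocone L hL hcov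
  let D : Iᵒᵖ ⥤ Scheme.{u} := (subfieldDiag L hL).op ⋙ Scheme.Spec
  let c : Cone D := Scheme.Spec.mapCone (subfieldCocone L hL).op
  have hc : IsLimit c := isLimitOfPreserves Scheme.Spec hc₀.op
  refine subsingleton_H_pullback_limit D (fun i => Spec.map (CommRingCat.ofHom (φL i.unop))) (fun i j a => ?_) m c
    (Spec.map (CommRingCat.ofHom φ)) (fun i => ?_) (fun i => inferInstanceAs (IsAffine (Spec _))) hc M q
    fun i => h i.unop
  · refine (Spec.map_comp _ _).symm.trans (congrArg Spec.map ?_)
    refine CommRingCat.hom_ext (RingHom.ext fun x => Subtype.ext ?_)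
    exact (hφ j.unop x).trans (hφ i.unop x).symm
  · refine (Spec.map_comp _ _).symm.trans (congrArg Spec.map ?_)
    exact CommRingCat.hom_ext (RingHom.ext fun x => hφ _ x)

end Family

variable {n : ℕ}

/-- The affine case. -/
theorem isZero_Rpush_pull_spec (hn : 0 < n) (hkey : AlgLineVanish.{u} n) {A : Type u} [CommRing A] {S' : Scheme.{u}}
    {g : S' ⟶ Spec (CommRingCat.of A)} (hg : IsLine g) (hS : InvOn n (Spec (CommRingCat.of A))) {K : Type u}
    [Field K] [IsAlgClosed K] (φ : A →+* K) {P : Scheme.{u}} {a : P ⟶ S'} {b : P ⟶ Spec (CommRingCat.of K)}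
    (hP : IsPullback a b g (Spec.map (CommRingCat.ofHom φ))) (G : EtCoh.Ab (Spec (CommRingCat.of K)))
    (hG : EtCoh.KilledBy n G) (q : ℕ) : IsZero ((EtCoh.Rpush a (q + 1)).obj ((EtCoh.pull b).obj G)) := by
  classical
  refine isZero_Rpush_pull_of_zmod hn hP (q + 1) (fun s R _ _ _ _ _ _ => ?_) G hG
  intro d hd hd0
  refine subsingleton_H_pullback_subfields (algGen φ) (fun _ _ h => algGen_mono φ h)
    (fun x => ⟨{x}, mem_algGen_singleton φ x⟩) φ (algGenHom φ) (fun _ _ => rfl) (Hens2.specOf S' s R ≫ g) (ZMod d)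
    (q + 1) fun J => ?_
  obtain ⟨η, hη, hηa⟩ := exists_algPt_algGen φ J
  haveI := PBCLib.P1Pow.isProper_toBase J.card (Spec (CommRingCat.of A))
  haveI : QuasiCompact η := ⟨fun U _ _ => Set.Finite.isCompact (Set.toFinite _)⟩
  obtain ⟨P', a', b', hP', hz⟩ := isZero_Rpush_pull_of_proper hn hkey hg hS
    (PBCLib.P1Pow.toBase J.card (Spec (CommRingCat.of A))) η hηa q
  rw [hη] at hP'
  exact zmodVanish_of_isZero hP' (q + 1) hz s R d hd hd0

/-- Affine lines are acyclic at all geometric points. -/
theorem ptAcyclic_line (hn : 0 < n) (hkey : AlgLineVanish.{u} n) {S' S : Scheme.{u}} {g : S' ⟶ S} (hg : IsLine g)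
    (hS : InvOn n S) : PtAcyclic g n := fun _ _ _ ξ _ a b hP G hG q =>
  isZero_Rpush_pull_local g ξ a b hP G q fun _ j _ φ _ _ _ _ h =>
    isZero_Rpush_pull_spec hn hkey (hg.isPullback_map (IsPullback.of_hasPullback g j)) (hS.of_hom j) φ.hom h G hG q

/-- Affine lines are universally acyclic at geometric points. -/
theorem uPtAcyclic_line (hn : 0 < n) (hkey : AlgLineVanish.{u} n) {S' S : Scheme.{u}} {g : S' ⟶ S} (hg : IsLine g)
    (hS : InvOn n S) : UPtAcyclic g n :=
  fun b g₁ _ sq => ptAcyclic_line hn hkey (hg.isPullback_map sq) (hS.of_hom b)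

end Groth.Agent.SmoothBCLib
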