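import Groth.Agent.SmoothBCLib.AlgLine
import Groth.Agent.SmoothBCLib.LineAcyclic
import Groth.Agent.BCVertLib.EtaleBCQ
import Mathlib.RingTheory.RingHom.StandardSmooth

/-!
# Smooth base change for sheaves killed by `n`, given acyclicity of the henselized line
-/

set_option autoImplicit false
set_option linter.style.haveILetI false
set_option backward.isDefEq.respectTransparency false
set_option backward.isDefEq.respectTransparency.types false
set_option maxHeartbeats 2000000
set_option synthInstance.maxHeartbeats 400000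

universe u

open CategoryTheory CategoryTheory.Limits AlgebraicGeometry Opposite

noncomputable section

namespace Groth.Agent.SmoothBCLib

variable {n : ℕ}

/-- Base change along an étale morphism. -/
theorem bcKilled_etale {S' S : Scheme.{u}} (g : S' ⟶ S) [Etale g] : BCKilled g n := by
  intro X X' f _ _ f' g' h _ F _ q
  haveI := Groth.Agent.S0101.result g
  exact BCVertLib.isIso_bcQ_etale f g f' g' h q F

/-- Base change is stable under composition. -/
theorem BCKilled.comp {S'' S' S : Scheme.{u}} {g₁ : S'' ⟶ S'} {g₂ : S' ⟶ S} (h₁ : BCKilled g₁ n)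
    (h₂ : BCKilled g₂ n) : BCKilled (g₁ ≫ g₂) n := by
  intro X X'' f _ _ f'' g'' h _ F hF q
  let f' := pullback.snd f g₂
  let g' := pullback.fst f g₂
  have sq : IsPullback g' f' f g₂ := IsPullback.of_hasPullback f g₂
  let k : X'' ⟶ pullback f g₂ := pullback.lift g'' (f'' ≫ g₁) (by rw [Category.assoc, h.w])
  have hk : k ≫ g' = g'' := pullback.lift_fst _ _ _
  have sq₁ : IsPullback k f'' f' g₁ :=
    IsPullback.of_right (h₁₁ := k) (hk.symm ▸ h) (pullback.lift_snd _ _ _) sq
  haveI := Groth.Agent.S0101.result g'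
  haveI := Groth.Agent.S0101.result k
  haveI := Groth.Agent.S0101.result (k ≫ g')
  exact BCVertLib.isIso_bcQ_congr f rfl f'' hk _ h.w q F
    (BCVertLib.isIso_bcQ_vcomp g₂ f f' g' sq.w g₁ f'' k sq₁.w (hk.symm ▸ h).w F q
      (h₂ f f' g' sq F hF q) (h₁ f' f'' k sq₁ _ (PBCLib.killedBy_pull g' hF) q))

/-- The spectrum of a polynomial ring is an affine line. -/
theorem isLine_spec_C (B : Type u) [CommRing B] :
    IsLine (Spec.map (CommRingCat.ofHom (Polynomial.C : B →+* Polynomial B))) := by
  obtain ⟨e, he⟩ := (isLine_affineSpace (Spec (CommRingCat.of B))).exists_iso_spec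
  exact ⟨e, he⟩

/-- Base change along an affine line. -/
theorem bcKilled_line (hn : 0 < n) (hkey : AlgLineVanish.{u} n) {S' S : Scheme.{u}} {g : S' ⟶ S} (hg : IsLine g)
    (hS : InvOn n S) : BCKilled g n := by
  haveI := hg.smooth
  have h : UPtAcyclic g n := fun b g₁ b' sq => uPtAcyclic_line hn hkey hg hS b g₁ b' sq
  intro X X' f _ _ f' g' h' _ F hF q
  exact bcKilled_of_uPtAcyclic h f f' g' h' F hF q

/-- Base change along an affine space. -/
theorem bcKilled_mvPolynomial (hn : 0 < n) (hkey : AlgLineVanish.{u} n) (A : Type u) [CommRing A]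
    (hA : InvOn n (Spec (CommRingCat.of A))) : ∀ m : ℕ,
    BCKilled (Spec.map (CommRingCat.ofHom (MvPolynomial.C : A →+* MvPolynomial (Fin m) A))) n
  | 0 => by
    let e : A ≃+* MvPolynomial (Fin 0) A := (MvPolynomial.isEmptyRingEquiv A (Fin 0)).symm
    have : CommRingCat.ofHom (MvPolynomial.C : A →+* MvPolynomial (Fin 0) A) = e.toCommRingCatIso.hom :=
      CommRingCat.hom_ext (RingHom.ext fun a => rfl)
    rw [this]
    exact bcKilled_etale _
  | m + 1 => by
    let e : MvPolynomial (Fin (m + 1)) A ≃+* Polynomial (MvPolynomial (Fin m) A) :=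
      (MvPolynomial.finSuccEquiv A m).toRingEquiv
    have : CommRingCat.ofHom (MvPolynomial.C : A →+* MvPolynomial (Fin (m + 1)) A) =
        CommRingCat.ofHom (MvPolynomial.C : A →+* MvPolynomial (Fin m) A) ≫
          CommRingCat.ofHom (Polynomial.C : MvPolynomial (Fin m) A →+* _) ≫ e.toCommRingCatIso.inv := by
      refine CommRingCat.hom_ext (RingHom.ext fun a => ?_)
      exact ((MvPolynomial.finSuccEquiv A m).symm.commutes a).symm
    rw [this, Spec.map_comp, Spec.map_comp]
    refine BCKilled.comp (BCKilled.comp (bcKilled_etale (Spec.map e.toCommRingCatIso.inv)) ?_) (bcKilled_mvPolynomial hn hkey A hA m)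
    exact bcKilled_line hn hkey (isLine_spec_C _) (hA.of_hom (Spec.map (CommRingCat.ofHom MvPolynomial.C)))

/-- Base change along a standard smooth morphism of affine schemes. -/
theorem bcKilled_standardSmooth (hn : 0 < n) (hkey : AlgLineVanish.{u} n) {A B : CommRingCat.{u}} (φ : A ⟶ B)
    (hφ : φ.hom.IsStandardSmooth) (hA : InvOn n (Spec A)) : BCKilled (Spec.map φ) n := by
  obtain ⟨m, g, hg, het⟩ := hφ.exists_etale_mvPolynomial
  have : φ = CommRingCat.ofHom MvPolynomial.C ≫ CommRingCat.ofHom g := CommRingCat.hom_ext hg.symm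
  rw [this, Spec.map_comp]
  haveI : Etale (Spec.map (CommRingCat.ofHom g)) := HasRingHomProperty.Spec_iff.2 het
  intro X X' f _ _ f' g' h' _ F hF q
  exact BCKilled.comp (bcKilled_etale (Spec.map (CommRingCat.ofHom g))) (bcKilled_mvPolynomial hn hkey A hA m)
    f f' g' h' F hF q

/-- **Smooth base change** for sheaves killed by an integer invertible on the base, given acyclicity of lines. -/
theorem bcKilled_smooth_of_algLine (hn : 0 < n) (hkey : AlgLineVanish.{u} n) {S' S : Scheme.{u}} (g : S' ⟶ S)
    [Smooth g] (hS : InvOn n S) : BCKilled g n := by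
  intro X X' f _ _ f' g' h _ F hF q
  choose A hA V hV hxV e hφ using fun x => Smooth.exists_isStandardSmooth g x
  let Vf : S' → S.Etale := fun x => MorphismProperty.Over.mk ⊤ (hA x).fromSpec inferInstance
  let U : S' → S'.Etale := fun x => MorphismProperty.Over.mk ⊤ (hV x).fromSpec inferInstance
  have hU : EtCoh.Covers U := fun x => by
    have hx : x ∈ Set.range (hV x).fromSpec := by rw [(hV x).range_fromSpec]; exact hxV x
    exact ⟨x, hx⟩
  let a : ∀ x, (U x).left ⟶ (Vf x).left := fun x => Spec.map (g.appLE (A x) (V x) (e x))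
  refine BCVertLib.isIso_bcQ_of_local g f f' g' h F q U hU Vf a
    (fun x => IsAffineOpen.SpecMap_appLE_fromSpec g (hA x) (hV x) (e x)) (fun x => pullback f (hA x).fromSpec)
    (fun x => pullback (pullback.snd f (hA x).fromSpec) (a x))
    (fun x => pullback.snd f (hA x).fromSpec) (fun x => pullback.fst f (hA x).fromSpec)
    (fun x => IsPullback.of_hasPullback f (hA x).fromSpec)
    (fun x => pullback.snd _ _) (fun x => pullback.fst _ _) (fun x => IsPullback.of_hasPullback _ _) fun x => ?_
  haveI := Groth.Agent.S0101.result (pullback.fst (pullback.snd f (hA x).fromSpec) (a x))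
  exact bcKilled_standardSmooth hn hkey _ (hφ x) (hS.of_hom (hA x).fromSpec) _ _ _
    (IsPullback.of_hasPullback _ _) _ (PBCLib.killedBy_pull _ hF) q

/-- **Smooth base change** for sheaves killed by an integer invertible on the base, given acyclicity of the
henselized line. -/
theorem bcKilled_smooth_of_key (hkey : HenLineKey.{u}) (hn : 0 < n) {S' S : Scheme.{u}} (g : S' ⟶ S)
    [Smooth g] (hS : InvOn n S) : BCKilled g n :=
  bcKilled_smooth_of_algLine hn (algLineVanish_of_key hkey hn) g hS

end Groth.Agent.SmoothBCLib
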