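import Groth.Agent.SmoothBCLib.LARelStalk
import Groth.Agent.FLCLib.Filtration

/-!
# Local acyclicity and the closed fibre over a strict localization of the base
-/

set_option autoImplicit false
set_option linter.style.haveILetI false
set_option backward.isDefEq.respectTransparency false
set_option backward.isDefEq.respectTransparency.types false
set_option maxHeartbeats 2000000
set_option synthInstance.maxHeartbeats 400000

universe u

open CategoryTheory CategoryTheory.Limits AlgebraicGeometry Opposite IsLocalRing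
open Groth.Agent.EtPtsLib
open scoped TensorProduct

noncomputable section

namespace Groth.Agent.SmoothBCLib

attribute [local instance] Groth.Agent.S0101.result

/-- Bijectivity of stalks of a map only depends on the image of the geometric point. -/
theorem bijective_stalk_of_default_eq {Y : Scheme.{u}} {A B : EtCoh.Ab Y} (a : A ⟶ B) {Ω₀ : Type u} [Field Ω₀]
    [IsSepClosed Ω₀] {ξ₀ : Spec (CommRingCat.of Ω₀) ⟶ Y} (h₀ : Function.Bijective ((EtCoh.stalk ξ₀).map a))
    {Ω : Type u} [Field Ω] [IsSepClosed Ω] {ξ : Spec (CommRingCat.of Ω) ⟶ Y} (h : ξ default = ξ₀ default) :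
    Function.Bijective ((EtCoh.stalk ξ).map a) := by
  haveI : (EtCoh.stalk ξ₀).Additive := Functor.additive_of_preserves_binary_products _
  haveI : (EtCoh.stalk ξ).Additive := Functor.additive_of_preserves_binary_products _
  haveI : IsIso ((EtCoh.stalk ξ₀).map a) := (ConcreteCategory.isIso_iff_bijective _).2 h₀
  have hk : IsZero ((EtCoh.stalk ξ).obj (kernel a)) := CdFieldLib.isZero_stalk_of_default_eq (ξ₀ := ξ₀) _
    ((isZero_kernel_of_mono ((EtCoh.stalk ξ₀).map a)).of_iso (PreservesKernel.iso (EtCoh.stalk ξ₀) a)) h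
  have hq : IsZero ((EtCoh.stalk ξ).obj (cokernel a)) := CdFieldLib.isZero_stalk_of_default_eq (ξ₀ := ξ₀) _
    ((isZero_cokernel_of_epi ((EtCoh.stalk ξ₀).map a)).of_iso (PreservesCokernel.iso (EtCoh.stalk ξ₀) a)) h
  haveI : Mono ((EtCoh.stalk ξ).map a) :=
    Preadditive.mono_of_isZero_kernel _ (hk.of_iso (PreservesKernel.iso (EtCoh.stalk ξ) a).symm)
  haveI : Epi ((EtCoh.stalk ξ).map a) :=
    Preadditive.epi_of_isZero_cokernel _ (hq.of_iso (PreservesCokernel.iso (EtCoh.stalk ξ) a).symm)
  exact (ConcreteCategory.isIso_iff_bijective _).1 (isIso_of_mono_of_epi _)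

/-- Invariance of bijectivity of pullback under isomorphisms of sheaves. -/
theorem bijective_Hpull_of_iso {X Y : Scheme.{u}} (g : Y ⟶ X) {A B : EtCoh.Ab X} (e : A ≅ B) (q : ℕ)
    (h : Function.Bijective (EtCore.Hpull g A q)) : Function.Bijective (EtCore.Hpull g B q) := by
  have h1 : Function.Bijective (Sheaf.H.map e.hom q) :=
    ConcreteCategory.bijective_of_isIso ((EtCoh.HF X q).map e.hom)
  have h2 : Function.Bijective (Sheaf.H.map ((EtCoh.pull g).map e.hom) q) :=
    ConcreteCategory.bijective_of_isIso ((EtCoh.HF Y q).map ((EtCoh.pull g).map e.hom))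
  refine (Function.Bijective.of_comp_iff _ h1).1 ?_
  have hfun : ⇑(EtCore.Hpull g B q) ∘ ⇑(Sheaf.H.map e.hom q) =
      ⇑(Sheaf.H.map ((EtCoh.pull g).map e.hom) q) ∘ ⇑(EtCore.Hpull g A q) :=
    funext fun x => CompBCLib.Hpull_map g e.hom x
  exact hfun ▸ h2.comp h

/-- Compatibility of ring maps from compatibility of morphisms of strict localizations. -/
theorem comp_eq_of_specOf {X S : Scheme.{u}} (f : X ⟶ S) (x : X) (RS R : Type u) [CommRing RS] [CommRing R]
    [IsLocalRing RS] [IsLocalRing R] [Algebra (S.presheaf.stalk (f x)) RS]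
    [IsLocalHom (algebraMap (S.presheaf.stalk (f x)) RS)]
    [Algebra (X.presheaf.stalk x) R] [IsLocalHom (algebraMap (X.presheaf.stalk x) R)] (ψ : RS →+* R)
    (h : Spec.map (CommRingCat.ofHom ψ) ≫ Hens2.specOf S (f x) RS = Hens2.specOf X x R ≫ f) :
    ψ.comp (algebraMap (S.presheaf.stalk (f x)) RS) = (algebraMap (X.presheaf.stalk x) R).comp (f.stalkMap x).hom := by
  rw [Hens2.specOf, Hens2.specOf, Category.assoc, ← Scheme.SpecMap_stalkMap_fromSpecStalk f, ← Category.assoc,
    ← Category.assoc, ← Spec.map_comp, ← Spec.map_comp, cancel_mono] at h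
  exact congr($(Spec.map_injective h).hom)

variable {X S : Scheme.{u}} (f : X ⟶ S) (F : EtCoh.Ab X)

/-- Local acyclicity at a point over the closed point of a strict localization of the base. -/
theorem bijective_Hpull_fibre_of_isLARel (hla : SGA4h.IsLARel f F) {X' : Scheme.{u}} (p : X' ⟶ X) [WeaklyEtale p]
    (x' : X') (RS : Type u) [CommRing RS] [IsLocalRing RS] [Algebra (S.presheaf.stalk (f (p x'))) RS]
    [IsLocalHom (algebraMap (S.presheaf.stalk (f (p x'))) RS)]
    [Hensel.IsStrictHenselization (S.presheaf.stalk (f (p x'))) RS]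
    (f' : X' ⟶ Spec (CommRingCat.of RS)) (w : p ≫ f = f' ≫ Hens2.specOf S (f (p x')) RS) (hx : f' x' = closedPoint RS)
    (Ω : Type u) [Field Ω] [IsSepClosed Ω] (τ : RS →+* Ω) (Xt : Scheme.{u}) (h : Xt ⟶ X')
    (ft : Xt ⟶ Spec (CommRingCat.of Ω)) (ct : IsPullback h ft f' (Spec.map (CommRingCat.ofHom τ)))
    (R : Type u) [CommRing R] [IsLocalRing R] [Algebra (X'.presheaf.stalk x') R]
    [IsLocalHom (algebraMap (X'.presheaf.stalk x') R)] [Hensel.IsStrictHenselization (X'.presheaf.stalk x') R] (q : ℕ) :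
    Function.Bijective (EtCore.Hpull (pullback.snd h (Hens2.specOf X' x' R))
      ((EtCoh.pull (Hens2.specOf X' x' R)).obj ((EtCoh.pull p).obj F)) q) := by
  obtain ⟨hloc, hX⟩ := (S1467.result p).1 inferInstance x' R
  letI : Algebra (X.presheaf.stalk (p x')) R :=
    ((algebraMap (X'.presheaf.stalk x') R).comp (p.stalkMap x').hom).toAlgebra
  haveI := hloc
  haveI := hX
  let ε := Hens2.specOf X' x' R
  let ψ := Spec.preimage (ε ≫ f')
  have hψ : Spec.map ψ = ε ≫ f' := Spec.map_preimage _
  have hε : ε (closedPoint R) = x' := by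
    show (X'.fromSpecStalk x') (PrimeSpectrum.comap (algebraMap (X'.presheaf.stalk x') R) (closedPoint R)) = x'
    rw [IsLocalRing.comap_closedPoint (algebraMap (X'.presheaf.stalk x') R)]
    exact Scheme.fromSpecStalk_closedPoint
  letI : Algebra RS R := ψ.hom.toAlgebra
  haveI : IsLocalHom (algebraMap RS R) := by
    have hc : PrimeSpectrum.comap ψ.hom (closedPoint R) = closedPoint RS := by
      refine Eq.trans ?_ hx
      refine (congr($hψ (closedPoint R))).trans ?_
      show f' (ε (closedPoint R)) = f' x'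
      rw [hε]
    refine ⟨fun r hr => ?_⟩
    by_contra hn
    have hr' : r ∈ (closedPoint RS).asIdeal := hn
    rw [← hc] at hr'
    exact hr' hr
  have hspec : Hens2.specOf X (p x') R = ε ≫ p := by
    show Spec.map (CommRingCat.ofHom ((algebraMap (X'.presheaf.stalk x') R).comp (p.stalkMap x').hom)) ≫
      X.fromSpecStalk (p x') = (Spec.map _ ≫ X'.fromSpecStalk x') ≫ p
    rw [Category.assoc, ← Scheme.SpecMap_stalkMap_fromSpecStalk, ← Category.assoc, ← Spec.map_comp]
    rfl
  have hc := comp_eq_of_specOf f (p x') RS R ψ.hom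
    ((congrArg (· ≫ Hens2.specOf S (f (p x')) RS) hψ).trans ((Category.assoc ε f' _).trans
      ((congrArg (ε ≫ ·) w.symm).trans ((Category.assoc ε p f).symm.trans (congrArg (· ≫ f) hspec.symm)))))
  letI : Algebra RS Ω := τ.toAlgebra
  have h₁ := hla (p x') RS R hc Ω q
  haveI := EtLimLib.isIso_comparePull p ε (Hens2.specOf X (p x') R) hspec.symm F
  have h₂ := bijective_Hpull_of_iso _
    (asIso ((EtLimLib.comparePull p ε (Hens2.specOf X (p x') R) hspec.symm).app F)) q h₁
  let P := (((IsPullback.of_hasPullback h ε).flip).paste_vert ct)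
  let K : Spec (CommRingCat.of (R ⊗[RS] Ω)) ⟶ pullback h ε :=
    (pullbackSpecIso RS R Ω).inv ≫ (pullback.congrHom hψ rfl).hom ≫ P.isoPullback.inv
  have hK : K ≫ pullback.snd h ε = Spec.map (CommRingCat.ofHom (algebraMap R (R ⊗[RS] Ω))) := by
    simp only [K, Category.assoc, IsPullback.isoPullback_inv_fst]
    refine Eq.trans ?_ (pullbackSpecIso_inv_fst' RS R Ω)
    refine congrArg ((pullbackSpecIso RS R Ω).inv ≫ ·) ?_
    exact (pullback.lift_fst _ _ _).trans (Category.comp_id _)
  exact (Function.Bijective.of_comp_iff' (AcycCompLib.bijective_Hpull_of_isIso K _ q) _).1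
    ((AcycCompLib.bijective_Hpull_comp_iff (pullback.snd h ε) K _ hK _ q).1 h₂)

/-- The inverse image to the closed fibre of the unit along a geometric fibre. -/
theorem isIso_pull_unit_of_isLARel (hla : SGA4h.IsLARel f F) (s : S) (RS : Type u) [CommRing RS] [IsLocalRing RS]
    [Algebra (S.presheaf.stalk s) RS] [IsLocalHom (algebraMap (S.presheaf.stalk s) RS)]
    [Hensel.IsStrictHenselization (S.presheaf.stalk s) RS] {X' : Scheme.{u}}
    (f' : X' ⟶ Spec (CommRingCat.of RS)) (p : X' ⟶ X) (cX : IsPullback p f' f (Hens2.specOf S s RS))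
    (Ω : Type u) [Field Ω] [IsSepClosed Ω] (τ : RS →+* Ω) {Xt : Scheme.{u}} (h : Xt ⟶ X')
    (ft : Xt ⟶ Spec (CommRingCat.of Ω)) (ct : IsPullback h ft f' (Spec.map (CommRingCat.ofHom τ)))
    {Xs : Scheme.{u}} (i : Xs ⟶ X') (fs : Xs ⟶ Spec (CommRingCat.of (ResidueField RS)))
    (cs : IsPullback i fs f' (Spec.map (CommRingCat.ofHom (residue RS)))) :
    IsIso ((EtCoh.pull i).map ((EtCoh.pullPushAdj h).unit.app ((EtCoh.pull p).obj F))) ∧
      ∀ q : ℕ, 0 < q →
        IsZero ((EtCoh.pull i).obj ((EtCoh.Rpush h q).obj ((EtCoh.pull h).obj ((EtCoh.pull p).obj F)))) := by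
  haveI := ProEtSLib.weaklyEtale_specOf S s RS
  haveI : WeaklyEtale p := MorphismProperty.of_isPullback cX.flip inferInstance
  haveI : IsAffineHom h := MorphismProperty.of_isPullback ct.flip inferInstance
  have key : ∀ z : Xs, ∃ (R : Type u) (_ : CommRing R) (_ : IsLocalRing R) (_ : Algebra (X'.presheaf.stalk (i z)) R)
      (_ : IsLocalHom (algebraMap (X'.presheaf.stalk (i z)) R))
      (_ : Hensel.IsStrictHenselization (X'.presheaf.stalk (i z)) R) (_ : IsSepClosed (ResidueField R)),
      ∀ q : ℕ, Function.Bijective (EtCore.Hpull (pullback.snd h (Hens2.specOf X' (i z) R))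
        ((EtCoh.pull (Hens2.specOf X' (i z) R)).obj ((EtCoh.pull p).obj F)) q) := by
    intro z
    have hz : f' (i z) = closedPoint RS := by
      refine (congr($(cs.w) z)).trans ?_
      show PrimeSpectrum.comap (residue RS) (fs z) = _
      rw [Subsingleton.elim (α := PrimeSpectrum (ResidueField RS)) (fs z) (closedPoint _)]
      exact IsLocalRing.comap_closedPoint (residue RS)
    have hs : f (p (i z)) = s := by
      refine (congr($(cX.w) (i z))).trans ?_
      show (Hens2.specOf S s RS) (f' (i z)) = s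
      rw [hz]
      show (S.fromSpecStalk s) (PrimeSpectrum.comap (algebraMap (S.presheaf.stalk s) RS) (closedPoint RS)) = s
      rw [IsLocalRing.comap_closedPoint (algebraMap (S.presheaf.stalk s) RS)]
      exact Scheme.fromSpecStalk_closedPoint
    obtain ⟨R, _, _, _, _, hR⟩ := Henselization.exists_strictHenselization (R := X'.presheaf.stalk (i z))
    haveI := hR
    haveI : IsSepClosed (ResidueField R) :=
      (Hensel.IsStrictHenselization.isSepClosure (R := X'.presheaf.stalk (i z)) (S := R)).sep_closed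
    subst hs
    exact ⟨R, inferInstance, inferInstance, inferInstance, inferInstance, hR, inferInstance, fun q =>
      bijective_Hpull_fibre_of_isLARel f F hla p (i z) RS f' cX.w hz Ω τ Xt h ft ct R q⟩
  refine ⟨FLCLib.isIso_of_stalk _ fun Ω' _ _ ζ => ?_, fun q hq => isZero_of_points _ fun z => ?_⟩
  · obtain ⟨R, _, _, _, _, _, _, hH⟩ := key (ζ default)
    refine (ConcreteCategory.isIso_iff_bijective _).2 ((bijective_stalk_pull_iff i ζ _).2 ?_)
    exact bijective_stalk_of_default_eq _ (bijective_stalk_unit_of_bijective h _ (i (ζ default)) R (hH 0))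
      (geomPt_default (i (ζ default)) R).symm
  · obtain ⟨R, _, _, _, _, _, _, hH⟩ := key z
    refine ⟨SeparableClosure (Xs.residueField z), inferInstance, inferInstance, EtPtsLib.geomPt z,
      EtPtsLib.geomPt_default z, ?_⟩
    refine (CdFieldLib.isZero_stalk_of_default_eq _
      (isZero_stalk_Rpush_of_bijective h _ (i z) R q hq (hH q)) ?_).of_iso
      ((EtPtsLib.pullStalkIso i (EtPtsLib.geomPt z) AddCommGrpCat.{u + 1}).app _)
    show i (EtPtsLib.geomPt z default) = _
    rw [EtPtsLib.geomPt_default z, geomPt_default (i z) R]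

end Groth.Agent.SmoothBCLib
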