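import Groth.Agent.AcycCompLib.Transpose

/-!
# Transposition of Ext groups when the higher derived functors have no cohomology

Variant of the low degree criterion: it is enough that the groups `Ext^p(c, R^q F)` vanish for `1 ≤ q ≤ n`.
-/

set_option autoImplicit false
set_option backward.isDefEq.respectTransparency false
set_option backward.isDefEq.respectTransparency.types false
set_option linter.style.haveILetI false
set_option linter.unusedSectionVars false

universe w w' v v' u u'

open CategoryTheory CategoryTheory.Limits CategoryTheory.Abelian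
open Groth.Agent.ExtAdj Groth.Agent.AcycCompLib

noncomputable section

namespace Groth.Agent.SmoothBCLib

variable {A : Type u} [Category.{v} A] [Abelian A] [EnoughInjectives A] [HasExt.{w} A]
  {B : Type u'} [Category.{v'} B] [Abelian B] [HasExt.{w'} B]
  {L : B ⥤ A} {R : A ⥤ B} (adj : L ⊣ R) [L.Additive] [R.Additive]
  [PreservesFiniteLimits L] [PreservesFiniteColimits L] (c : B)

/-- The higher derived functors of `R` at `F` have no cohomology up to degree `n`. -/
def VanUpTo (R : A ⥤ B) [R.Additive] (F : A) (n : ℕ) : Prop :=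
  ∀ q < n, ∀ p, Subsingleton (Ext c ((R.rightDerived (q + 1)).obj F) p)

/-- Isomorphic objects have isomorphic cohomology. -/
theorem subsingleton_ext_of_iso {M N : B} (e : M ≅ N) (p : ℕ) [Subsingleton (Ext c N p)] :
    Subsingleton (Ext c M p) := by
  refine subsingleton_of_forall_eq 0 fun x => ?_
  calc x = x.comp (Ext.mk₀ (e.hom ≫ e.inv)) (add_zero p) := by rw [e.hom_inv_id, Ext.comp_mk₀_id]
    _ = (x.comp (Ext.mk₀ e.hom) (add_zero p)).comp (Ext.mk₀ e.inv) (add_zero p) := by
      rw [Ext.comp_assoc_of_second_deg_zero, Ext.mk₀_comp_mk₀]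
    _ = 0 := by rw [Subsingleton.elim (x.comp (Ext.mk₀ e.hom) (add_zero p)) 0, Ext.zero_comp]

/-- A monomorphism whose cokernel has no cohomology induces bijections on cohomology. -/
theorem bijective_comp_mono {T M : B} (i : T ⟶ M) [Mono i] (h : ∀ p, Subsingleton (Ext c (cokernel i) p)) (p : ℕ) :
    Function.Bijective fun e : Ext c T p => e.comp (Ext.mk₀ i) (add_zero p) := by
  let S := ShortComplex.mk i (cokernel.π i) (cokernel.condition i)
  have hS : S.ShortExact :=
    { exact := ShortComplex.exact_of_g_is_cokernel _ (cokernelIsCokernel i) }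
  haveI := h p
  refine ⟨fun a b hab => ?_, fun y => ?_⟩
  · rw [← sub_eq_zero]
    have h0 : (a - b).comp (Ext.mk₀ S.f) (add_zero p) = 0 := by
      rw [sub_eq_add_neg, Ext.add_comp, Ext.neg_comp, ← sub_eq_add_neg, sub_eq_zero]
      exact hab
    rcases p with _ | p
    · obtain ⟨g, rfl⟩ := (Ext.mk₀_bijective _ _).2 a
      obtain ⟨g', rfl⟩ := (Ext.mk₀_bijective _ _).2 b
      simp only [Ext.mk₀_comp_mk₀] at hab
      rw [(cancel_mono i).1 ((Ext.mk₀_bijective _ _).1 hab), sub_self]
    · haveI := h p
      obtain ⟨u, hu⟩ := Ext.covariant_sequence_exact₁ c hS (a - b) h0 rfl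
      rw [← hu, Subsingleton.elim u 0, Ext.zero_comp]
  · obtain ⟨x, hx⟩ := Ext.covariant_sequence_exact₂ c hS y (Subsingleton.elim _ _)
    exact ⟨x, hx⟩

section Seq

variable {S : ShortComplex A} (hS : S.ShortExact) [Injective S.X₂]

include hS

theorem nonempty_iso_quotient (q : ℕ) :
    Nonempty ((R.rightDerived (q + 1)).obj S.X₃ ≅ (R.rightDerived (q + 1 + 1)).obj S.X₁) := by
  obtain ⟨Δ⟩ := RDerLib.nonempty_derivedLES R
  haveI : Mono (Δ.δ S hS (q + 1) (q + 1 + 1) rfl) :=
    (Δ.exact₃ S hS (q + 1) (q + 1 + 1) rfl).mono_g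
      ((R.isZero_rightDerived_obj_injective_succ q S.X₂).eq_of_src _ _)
  haveI : Epi (Δ.δ S hS (q + 1) (q + 1 + 1) rfl) :=
    (Δ.exact₁ S hS (q + 1) (q + 1 + 1) rfl).epi_f
      ((R.isZero_rightDerived_obj_injective_succ (q + 1) S.X₂).eq_of_tgt _ _)
  haveI := isIso_of_mono_of_epi (Δ.δ S hS (q + 1) (q + 1 + 1) rfl)
  exact ⟨asIso (Δ.δ S hS (q + 1) (q + 1 + 1) rfl)⟩

include adj in
theorem nonempty_iso_cokernel :
    Nonempty (cokernel (R.map S.g) ≅ (R.rightDerived 1).obj S.X₁) := by
  haveI : PreservesFiniteLimits R := adj.rightAdjoint_preservesLimits.{0, 0}.preservesFiniteLimits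
  obtain ⟨Δ⟩ := RDerLib.nonempty_derivedLES R
  let δ := R.rightDerivedZeroIsoSelf.inv.app S.X₃ ≫ Δ.δ S hS 0 1 rfl
  have w : R.map S.g ≫ δ = 0 := by
    rw [← Category.assoc, R.rightDerivedZeroIsoSelf.inv.naturality, Category.assoc, Δ.comp_δ, comp_zero]
  have hex : (ShortComplex.mk (R.map S.g) δ w).Exact :=
    (ShortComplex.exact_iff_of_iso (ShortComplex.isoMk (R.rightDerivedZeroIsoSelf.app S.X₂)
      (R.rightDerivedZeroIsoSelf.app S.X₃) (Iso.refl _) (R.rightDerivedZeroIsoSelf.hom.naturality S.g).symm
      (by simp [δ]) : ShortComplex.mk _ _ (Δ.comp_δ S hS 0 1 rfl) ≅ ShortComplex.mk (R.map S.g) δ w)).1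
      (Δ.exact₃ S hS 0 1 rfl)
  haveI : Epi (Δ.δ S hS 0 1 rfl) :=
    (Δ.exact₁ S hS 0 1 rfl).epi_f ((R.isZero_rightDerived_obj_injective_succ 0 S.X₂).eq_of_tgt _ _)
  haveI : Epi δ := inferInstance
  exact ⟨(cokernelIsCokernel (R.map S.g)).coconePointUniqueUpToIso hex.gIsCokernel⟩

end Seq

include adj in
/-- Transposition is bijective in degrees `≤ n` and injective in degree `n + 1` when the derived functors have no
cohomology up to degree `n`. -/
theorem transpose_upTo_van : ∀ (p n : ℕ) (F : A), VanUpTo c R F n →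
    (p ≤ n → Function.Bijective (transpose adj c F p)) ∧ (p ≤ n + 1 → Function.Injective (transpose adj c F p)) := by
  intro p
  induction p with
  | zero => exact fun n F _ => ⟨fun _ => transpose_bijective_zero adj c F, fun _ => (transpose_bijective_zero adj c F).1⟩
  | succ p ih =>
    intro n F hF
    haveI : PreservesFiniteLimits R := adj.rightAdjoint_preservesLimits.{0, 0}.preservesFiniteLimits
    let S : ShortComplex A := ShortComplex.mk (Injective.ι F) (cokernel.π (Injective.ι F)) (cokernel.condition _)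
    have hS : S.ShortExact :=
      { exact := S.exact_of_g_is_cokernel (cokernelIsCokernel _) }
    haveI : Injective S.X₂ := inferInstanceAs (Injective (Injective.under F))
    rcases n with _ | m
    · refine ⟨fun h => absurd h (Nat.not_succ_le_zero p), fun h => ?_⟩
      obtain rfl : p = 0 := by omega
      exact injective_transpose_one adj c hS
    · have hT := shortExact_coker adj hS
      let i := cokernel.desc (R.map S.f) (R.map S.g) (by rw [← R.map_comp, S.zero, R.map_zero])
      haveI : Mono i := mono_cokerDesc adj hS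
      have hi : cokernel.π (R.map S.f) ≫ i = R.map S.g := cokernel.π_desc _ _ _
      have hbi : ∀ r, Function.Bijective fun e : Ext c (cokernel (R.map S.f)) r => e.comp (Ext.mk₀ i) (add_zero r) := by
        obtain ⟨e₁⟩ := nonempty_iso_cokernel adj hS
        have e₂ : cokernel i ≅ cokernel (R.map S.g) :=
          (cokernelEpiComp (cokernel.π (R.map S.f)) i).symm ≪≫ cokernelIsoOfEq hi
        refine bijective_comp_mono c i fun r => ?_
        haveI := hF 0 m.succ_pos r
        exact subsingleton_ext_of_iso c (e₂ ≪≫ e₁) r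
      have hQ : VanUpTo c R S.X₃ m := fun q hq r => by
        obtain ⟨e⟩ := nonempty_iso_quotient (R := R) hS q
        haveI := hF (q + 1) (Nat.succ_lt_succ hq) r
        exact subsingleton_ext_of_iso c e r
      have hI : Function.Bijective (transpose adj c S.X₂ p) :=
        ((AcycCompLib.transpose_upTo adj c p p S.X₂ fun q _ => R.isZero_rightDerived_obj_injective_succ q S.X₂).1 le_rfl)
      have hδ : ∀ e : Ext c (cokernel (R.map S.f)) p, transpose adj c F (p + 1) (e.comp hT.extClass rfl) =
          (transpose adj c S.X₃ p (e.comp (Ext.mk₀ i) (add_zero p))).comp hS.extClass rfl :=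
        fun e => transpose_δ adj c hS hT i hi e
      have hinj : Function.Injective (transpose adj c S.X₃ p) → Function.Injective (transpose adj c F (p + 1)) := by
        intro hX a b hab
        obtain ⟨e, he⟩ := exists_δ_preimage adj c hS hT (a - b)
        have h0 : (transpose adj c S.X₃ p (e.comp (Ext.mk₀ i) (add_zero p))).comp hS.extClass rfl = 0 := by
          rw [← hδ, he, transpose_sub, hab, sub_self]
        obtain ⟨u, hu⟩ := Ext.covariant_sequence_exact₃ (L.obj c) hS _ rfl h0
        obtain ⟨v, rfl⟩ := hI.2 u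
        have h1 : e.comp (Ext.mk₀ i) (add_zero p) =
            (v.comp (Ext.mk₀ (cokernel.π (R.map S.f))) (add_zero p)).comp (Ext.mk₀ i) (add_zero p) := by
          rw [Ext.comp_assoc_of_second_deg_zero v, Ext.mk₀_comp_mk₀, hi]
          exact hX (hu.symm.trans (transpose_mk₀ adj c S.g p v).symm)
        rw [← sub_eq_zero, ← he, (hbi p).1 h1, Ext.comp_assoc_of_second_deg_zero]
        exact (congrArg (fun x => v.comp x rfl) hT.comp_extClass).trans (Ext.comp_zero _ _ _ _ _)
      refine ⟨fun hp => ⟨hinj ((ih m S.X₃ hQ).2 (by omega)), fun y => ?_⟩,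
        fun hp => hinj ((ih m S.X₃ hQ).2 (by omega))⟩
      obtain ⟨x, hx⟩ := Ext.covariant_sequence_exact₁ (L.obj c) hS y (Ext.eq_zero_of_injective _) rfl
      obtain ⟨e, rfl⟩ := ((ih m S.X₃ hQ).1 (by omega)).2 x
      obtain ⟨e', rfl⟩ := (hbi p).2 e
      exact ⟨e'.comp hT.extClass rfl, (hδ e').trans hx⟩

end Groth.Agent.SmoothBCLib
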