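import Groth.Agent.SmoothBCLib.RowsGeneric
import Groth.Agent.SmoothBCLib.TransposeWeak
import Groth.Agent.PBCLib.Rows
import Groth.Agent.PBCLib.Final
import Groth.Agent.EtTraceLib.SepExt
import Groth.Prelude.Def_EtAcyc

/-!
# Geometric fibres of proper locally acyclic morphisms over a strictly henselian base
-/

set_option autoImplicit false
set_option linter.style.haveILetI false
set_option backward.isDefEq.respectTransparency false
set_option backward.isDefEq.respectTransparency.types false
set_option maxHeartbeats 2000000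
set_option synthInstance.maxHeartbeats 400000

universe u

open CategoryTheory CategoryTheory.Limits AlgebraicGeometry Opposite IsLocalRing

noncomputable section

namespace Groth.Agent.SmoothBCLib

attribute [local instance] Groth.Agent.S0101.result

/-- A strict localization of a strictly henselian spectrum at its closed point is an isomorphism. -/
theorem isIso_specOf_closedPoint (R : Type u) [CommRing R] [HenselianLocalRing R] [IsSepClosed (ResidueField R)]
    (y : Spec (CommRingCat.of R)) (hy : y = closedPoint R) (RY : Type u) [CommRing RY] [IsLocalRing RY]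
    [Algebra ((Spec (CommRingCat.of R)).presheaf.stalk y) RY]
    [IsLocalHom (algebraMap ((Spec (CommRingCat.of R)).presheaf.stalk y) RY)]
    [Hensel.IsStrictHenselization ((Spec (CommRingCat.of R)).presheaf.stalk y) RY] :
    IsIso (Hens2.specOf (Spec (CommRingCat.of R)) y RY) := by
  let τ := Hens2.specOf (Spec (CommRingCat.of R)) y RY
  haveI : WeaklyEtale τ := ProEtSLib.weaklyEtale_specOf _ y RY
  let φ := Spec.preimage τ
  have hφ : Spec.map φ = τ := Spec.map_preimage _
  letI : Algebra R RY := φ.hom.toAlgebra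
  haveI : WeaklyEtale (Spec.map (CommRingCat.ofHom (algebraMap R RY))) := by
    show WeaklyEtale (Spec.map φ)
    rw [hφ]; infer_instance
  haveI := WLocalLib.weaklyEtale_of_specMap (R := R) (S := RY)
  haveI : IsLocalHom (algebraMap R RY) := by
    have hc : PrimeSpectrum.comap φ.hom (closedPoint RY) = closedPoint R := by
      refine (congr($hφ (closedPoint RY))).trans (Eq.trans ?_ hy)
      show ((Spec (CommRingCat.of R)).fromSpecStalk y) (PrimeSpectrum.comap (algebraMap _ RY) (closedPoint RY)) = y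
      rw [IsLocalRing.comap_closedPoint (algebraMap _ RY)]
      exact Scheme.fromSpecStalk_closedPoint
    refine ⟨fun r hr => ?_⟩
    by_contra hn
    have hr' : r ∈ (closedPoint R).asIdeal := hn
    rw [← hc] at hr'
    exact hr' hr
  haveI : IsIso φ := (ConcreteCategory.isIso_iff_bijective _).2 (S0427.result (A := R) (B := RY))
  show IsIso τ
  rw [← hφ]
  infer_instance

/-- Cohomology of a locally constant torsion sheaf and the geometric fibres of a proper locally acyclic morphism. -/
theorem bijective_Hpull_properFibre (R : Type u) [CommRing R] (hR : EtCoh.IsStrictlyHenselianLocalRing R)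
    {X : Scheme.{u}} (f : X ⟶ Spec (CommRingCat.of R)) [IsProper f] {L : Set ℕ} {n : ℕ}
    (hf : EtAcyc.IsLocAcyclicN f L n) (F : EtCoh.Ab X) (hF : EtAcyc.IsLTorsion L F)
    (hlc : EtRest.IsLocallyConstant F) (y₁ : Spec (CommRingCat.of R)) (Ω : Type u) [Field Ω] [IsSepClosed Ω]
    [Algebra ((Spec (CommRingCat.of R)).residueField y₁) Ω]
    [Algebra.IsAlgebraic ((Spec (CommRingCat.of R)).residueField y₁) Ω] :
    (∀ q : ℕ, q ≤ n →
      Function.Bijective (EtCore.Hpull (pullback.fst f (EtAcyc.geomPt (Spec (CommRingCat.of R)) y₁ Ω)) F q)) ∧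
    Function.Injective (EtCore.Hpull (pullback.fst f (EtAcyc.geomPt (Spec (CommRingCat.of R)) y₁ Ω)) F (n + 1)) := by
  obtain ⟨hH, hS⟩ := hR
  haveI := hH
  haveI : IsSepClosed (ResidueField R) := hS
  let ξ₁ := EtAcyc.geomPt (Spec (CommRingCat.of R)) y₁ Ω
  let h := pullback.fst f ξ₁
  haveI : IsAffineHom ξ₁ := inferInstance
  haveI : IsAffineHom h := MorphismProperty.pullback_fst _ _ inferInstance
  let i := pullback.fst f (Spec.map (CommRingCat.ofHom (residue R)))
  have key : ∀ (K : Type u) [Field K] [IsSepClosed K] (ξ : Spec (CommRingCat.of K) ⟶ X), f (ξ default) = closedPoint R →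
      Function.Bijective ((EtCoh.stalk ξ).map ((EtCoh.pullPushAdj h).unit.app F)) ∧
      ∀ q : ℕ, 1 ≤ q → q ≤ n → IsZero ((EtCoh.stalk ξ).obj ((EtCoh.Rpush h q).obj ((EtCoh.pull h).obj F))) := by
    intro K _ _ ξ hx
    let x := ξ default
    obtain ⟨Rx, _, _, _, _, hRx⟩ := Henselization.exists_strictHenselization (R := X.presheaf.stalk x)
    obtain ⟨RY, _, _, _, _, hRY⟩ :=
      Henselization.exists_strictHenselization (R := (Spec (CommRingCat.of R)).presheaf.stalk (f x))
    haveI := hRx
    haveI := hRY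
    haveI : IsSepClosed (ResidueField Rx) :=
      (Hensel.IsStrictHenselization.isSepClosure (R := X.presheaf.stalk x) (S := Rx)).sep_closed
    obtain ⟨ψ, hl, hψ, hspec⟩ := exists_strictLoc_hom f x RY Rx
    haveI := hl
    let τ := Hens2.specOf (Spec (CommRingCat.of R)) (f x) RY
    haveI := isIso_specOf_closedPoint R (f x) hx RY
    let ζ := ξ₁ ≫ inv τ
    have P : IsPullback ζ (𝟙 _) τ ξ₁ := IsPullback.of_vert_isIso ⟨by simp [ζ]⟩
    obtain ⟨z, _, _, hz⟩ := exists_geomPt_of_algebraic (K := Ω) ζ τ (P.w.trans (Category.id_comp _))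
    let ε := Hens2.specOf X x Rx
    have P₁ : IsPullback (pullback.fst (Spec.map (CommRingCat.ofHom ψ)) ζ)
        (pullback.snd (Spec.map (CommRingCat.ofHom ψ)) ζ ≫ 𝟙 _) (Spec.map (CommRingCat.ofHom ψ) ≫ τ) ξ₁ :=
      (IsPullback.of_hasPullback _ ζ).paste_vert P
    rw [show Spec.map (CommRingCat.ofHom ψ) ≫ τ = ε ≫ f from hspec.symm] at P₁
    have P₂ : IsPullback (pullback.snd h ε) (pullback.fst h ε ≫ pullback.snd f ξ₁) (ε ≫ f) ξ₁ :=
      (IsPullback.of_hasPullback h ε).flip.paste_vert (IsPullback.of_hasPullback f ξ₁)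
    have hb := bijective_Hpull_locFibre hf F hlc hF x RY Rx ψ hψ z Ω h
      (P₂.isoIsPullback _ _ P₁ ≪≫ pullback.congrHom rfl hz.symm)
      ((Category.assoc _ _ _).trans ((congrArg (_ ≫ ·) ((pullback.lift_fst _ _ _).trans (Category.comp_id _))).trans
        (IsPullback.isoIsPullback_hom_fst _ _ P₂ P₁)))
    exact stalks_of_bijective_Hpull h F x Rx hb.1 ξ rfl
  have hclosed : ∀ (K : Type u) [Field K] [IsSepClosed K]
      (ζ : Spec (CommRingCat.of K) ⟶ pullback f (Spec.map (CommRingCat.ofHom (residue R)))),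
      f ((ζ ≫ i) default) = closedPoint R := fun K _ _ ζ => by
    refine (congr($(pullback.condition (f := f) (g := Spec.map (CommRingCat.ofHom (residue R)))) (ζ default))).trans ?_
    show PrimeSpectrum.comap (residue R)
      (pullback.snd f (Spec.map (CommRingCat.ofHom (residue R))) (ζ default)) = _
    rw [Subsingleton.elim (α := PrimeSpectrum (ResidueField R)) (pullback.snd f _ (ζ default)) (closedPoint _)]
    exact IsLocalRing.comap_closedPoint (residue R)
  have hFt : EtCoh.IsTorsion F := RpushTorsLib.isTorsion_of_isLTorsion hF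
  have hGt : EtCoh.IsTorsion ((EtCoh.pull h).obj F) :=
    RpushTorsLib.isTorsion_of_isLTorsion (AcycCompLib.isLTorsion_pull h hF)
  have hcl : ∀ (G : EtCoh.Ab X), EtCoh.IsTorsion G → ∀ p, Function.Bijective (EtCore.Hpull i G p) := fun G hG p =>
    PBCLib.bijective_Hpull_closedFibre (fun {X S} g _ => PBCLib.bcAll_of_proper g) R f G hG p
  have hvan : ∀ q < n, ∀ p, Subsingleton (EtCoh.H X ((EtCoh.Rpush h (q + 1)).obj ((EtCoh.pull h).obj F)) p) := by
    intro q hq p
    let G := (EtCoh.Rpush h (q + 1)).obj ((EtCoh.pull h).obj F)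
    have hz : IsZero ((EtCoh.pull i).obj G) := (EtPtsLib.isZero_iff_ab _).2 fun K _ _ ζ =>
      ((key K (ζ ≫ i) (hclosed K ζ)).2 (q + 1) q.succ_pos hq).of_iso
        ((EtPtsLib.pullStalkIso i ζ AddCommGrpCat.{u + 1}).app G)
    haveI := PBCLib.HF_additive (pullback f (Spec.map (CommRingCat.ofHom (residue R)))) p
    haveI := (PBCLib.subsingleton_H_iff _ p).2 ((EtCoh.HF _ p).map_isZero hz)
    exact (hcl G (RpushTorsLib.isTorsion_of_isLTorsion
      (RpushTorsLib.isLTorsion_Rpush h _ (RpushTorsLib.isLTorsion_univ hGt) (q + 1))) p).1.subsingleton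
  have hu : ∀ p, Function.Bijective (Sheaf.H.map ((EtCoh.pullPushAdj h).unit.app F) p) := by
    intro p
    let u := (EtCoh.pullPushAdj h).unit.app F
    haveI : IsIso ((EtCoh.pull i).map u) := FLCLib.isIso_of_stalk _ fun K _ _ ζ =>
      (ConcreteCategory.isIso_iff_bijective _).2 ((bijective_stalk_pull_iff i ζ u).2 (key K (ζ ≫ i) (hclosed K ζ)).1)
    have e : ⇑(EtCore.Hpull i ((EtCoh.push h).obj ((EtCoh.pull h).obj F)) p) ∘ ⇑(Sheaf.H.map u p) =
        ⇑(Sheaf.H.map ((EtCoh.pull i).map u) p) ∘ ⇑(EtCore.Hpull i F p) := funext fun x => CompBCLib.Hpull_map i u x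
    refine (Function.Bijective.of_comp_iff' (hcl _ (EtTraceLib.isTorsion_push h hGt) p) _).1 ?_
    rw [e]
    exact (ConcreteCategory.bijective_of_isIso ((EtCoh.HF _ p).map ((EtCoh.pull i).map u))).comp (hcl F hFt p)
  haveI : (EtCoh.push h).Additive := (EtCoh.pullPushAdj h).right_adjoint_additive
  haveI : (EtCoh.pull h).Additive := (EtCoh.pullPushAdj h).left_adjoint_additive
  haveI : PreservesColimitsOfSize.{0, 0} (EtCoh.pull h) := (EtCoh.pullPushAdj h).leftAdjoint_preservesColimits
  haveI : PreservesFiniteColimits (EtCoh.pull h) := PreservesColimitsOfSize.preservesFiniteColimits _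
  have ht : ∀ p, (p ≤ n → Function.Bijective (EtCore.Hpull h F p)) ∧
      (p ≤ n + 1 → Function.Injective (EtCore.Hpull h F p)) := fun p => by
    have e : ⇑(EtCore.Hpull h F p) = ⇑(EtLim.HofPush h ((EtCoh.pull h).obj F) p) ∘
        ⇑(Sheaf.H.map ((EtCoh.pullPushAdj h).unit.app F) p) :=
      funext fun x => AcycCompLib.Hpull_eq_HofPush_unit h p F x
    have h' := transpose_upTo_van (EtCoh.pullPushAdj h) (EtCoh.const X ℤ) p n ((EtCoh.pull h).obj F) hvan
    rw [e, AcycCompLib.HofPush_eq]
    exact ⟨fun hp => ((AcycCompLib.bijective_fromPull h _ p).comp (h'.1 hp)).comp (hu p),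
      fun hp => ((AcycCompLib.bijective_fromPull h _ p).1.comp (h'.2 hp)).comp (hu p).1⟩
  exact ⟨fun q hq => (ht q).1 hq, (ht (n + 1)).2 le_rfl⟩

end Groth.Agent.SmoothBCLib
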