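import Groth.Agent.SmoothBCLib.AcycFibre
import Groth.Agent.PBCLib.Embed
import Groth.Agent.PBCLib.LocalSections
import Groth.Agent.FLCLib.Basic
import Groth.Agent.CohColim.EtQC
import Groth.Prelude.Def_EtRestW

/-!
# Locally constant torsion sheaves on varieties of vanishing cycles

A locally constant sheaf on a strictly henselian spectrum is constant; its inverse image on a connected scheme has
the same global sections, and no higher cohomology if the constant cyclic sheaves of the relevant orders have none.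
-/

set_option autoImplicit false
set_option linter.style.haveILetI false
set_option backward.isDefEq.respectTransparency false
set_option backward.isDefEq.respectTransparency.types false
set_option maxHeartbeats 2000000
set_option synthInstance.maxHeartbeats 400000

universe u

open CategoryTheory CategoryTheory.Limits AlgebraicGeometry Opposite IsLocalRing

noncomputable section

namespace Groth.Agent.SmoothBCLib

open EtPtsLib FLCLib

variable {X : Scheme.{u}}

/-- On a connected étale scheme a constant structure gives all sections. -/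
theorem isConstOn_bijective {F : EtCoh.Ab X} {B : X.Etale} {M : AddCommGrpCat.{u + 1}}
    {θ : M ⟶ F.obj.obj (op B)} (h : IsConstOn F B θ) [hconn : ConnectedSpace B.left] : Function.Bijective θ := by
  obtain ⟨b₀⟩ := hconn.toNonempty
  have pick : ∀ b : B.left, ∃ l : (Scheme.pointSmallEtale (EtPtsLib.geomPt (B.hom b))).fiber.obj B,
      liftHom (EtPtsLib.geomPt (B.hom b)) l default = b := fun b => by
    obtain ⟨l, hl⟩ := Scheme.pointSmallEtaleFiberObjToPreimage_surjective
      (EtPtsLib.geomPt (B.hom b)) (EtPtsLib.geomPt_default _) B ⟨b, rfl⟩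
    exact ⟨l, congrArg Subtype.val hl⟩
  refine ⟨fun a c hac => ?_, fun s => ?_⟩
  · obtain ⟨l, -⟩ := pick b₀
    exact (h _ _ l).1 (congrArg (germ _ F l) hac)
  let A : M → Set B.left := fun c => agree F.obj s (θ c)
  have hcov : ∀ b : B.left, ∃ c : M, b ∈ A c ∧ ∀ d : M, b ∈ A d → d = c := fun b => by
    obtain ⟨l, hb⟩ := pick b
    obtain ⟨c, hc⟩ := (h _ _ l).2 (germ _ F l s)
    refine ⟨c, hb ▸ (germ_eq_iff_mem_agree _ F.obj l s _).1 hc.symm, fun d hd => ?_⟩
    refine (h _ _ l).1 (Eq.trans ?_ hc.symm)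
    exact ((germ_eq_iff_mem_agree _ F.obj l s _).2 (hb.symm ▸ hd)).symm
  choose c hc huniq using hcov
  have hclop : IsClopen (A (c b₀)) := by
    refine ⟨isOpen_compl_iff.1 (isOpen_iff_forall_mem_open.2 fun b hb => ?_), isOpen_agree _ _ _⟩
    refine ⟨A (c b), fun y hy hy' => hb ?_, isOpen_agree _ _ _, hc b⟩
    exact (huniq y _ hy).trans (huniq y _ hy').symm ▸ hc b
  refine ⟨c b₀, (sect_ext F B s _ fun Ω _ _ ξ l => ?_).symm⟩
  refine (germ_eq_iff_mem_agree ξ F.obj l s _).2 ?_
  exact (hclop.eq_univ ⟨b₀, hc b₀⟩).ge trivial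

/-- A sheaf constant over the final object is a constant sheaf. -/
theorem nonempty_iso_C_of_isConstOn (F : EtCoh.Ab X) {M : AddCommGrpCat.{u + 1}}
    {θ : M ⟶ F.obj.obj (op (EtCoh.top X))} (h : IsConstOn F (EtCoh.top X) θ) :
    Nonempty ((constantSheaf X.smallEtaleTopology AddCommGrpCat.{u + 1}).obj M ≅ F) := by
  let T := EtCoh.top X
  let P : X.Etaleᵒᵖ ⥤ AddCommGrpCat.{u + 1} := (Functor.const _).obj M
  let ψ : P ⟶ F.obj :=
    { app := fun V => θ ≫ F.obj.map ((EtCore.topIsTerminal X).from V.unop).op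
      naturality := fun V W g => by
        change 𝟙 M ≫ _ = _
        rw [Category.id_comp, Category.assoc, ← Functor.map_comp]
        congr 2
        exact Quiver.Hom.unop_inj ((EtCore.topIsTerminal X).hom_ext _ _) }
  let adj := sheafificationAdjunction X.smallEtaleTopology AddCommGrpCat.{u + 1}
  let φ : (presheafToSheaf _ AddCommGrpCat.{u + 1}).obj P ⟶ F := (adj.homEquiv P F).symm ψ
  have fac : CategoryTheory.toSheafify _ P ≫ φ.hom = ψ := by
    have h := (adj.homEquiv P F).apply_symm_apply ψ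
    rwa [Adjunction.homEquiv_unit] at h
  haveI : IsIso φ := isIso_of_stalk φ fun Ω _ _ ξ => by
    let l : (Scheme.pointSmallEtale ξ).fiber.obj T := Over.homMk ξ (Category.comp_id _)
    have hc := germ_cst_bijective ξ M l
    have hcomp : ∀ c : M, (EtCoh.stalk ξ).map φ (germ ξ _ l (cst M T c)) = germ ξ F l (θ c) := fun c => by
      rw [germ_app]
      congr 1
      refine (congr($(congrArg (fun t : P ⟶ F.obj => t.app (op T)) fac) c)).trans ?_
      show F.obj.map ((EtCore.topIsTerminal X).from T).op (θ c) = θ c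
      rw [(EtCore.topIsTerminal X).hom_ext ((EtCore.topIsTerminal X).from T) (𝟙 T), op_id,
        CategoryTheory.Functor.map_id]
      exact ConcreteCategory.id_apply _
    refine (ConcreteCategory.isIso_iff_bijective _).2 ⟨fun a b hab => ?_, fun b => ?_⟩
    · obtain ⟨a, rfl⟩ := hc.2 a
      obtain ⟨b, rfl⟩ := hc.2 b
      dsimp only at hab ⊢
      rw [show a = b from (h Ω ξ l).1 ((hcomp a).symm.trans (hab.trans (hcomp b)))]
    · obtain ⟨c, hc'⟩ := (h Ω ξ l).2 b
      exact ⟨_, (hcomp c).trans hc'⟩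
  exact ⟨asIso φ⟩

/-- Locally constant sheaves on strictly henselian spectra are constant. -/
theorem exists_isConstOn_top (R : Type u) [CommRing R] [HenselianLocalRing R] [IsSepClosed (ResidueField R)]
    {F : EtCoh.Ab (Spec (CommRingCat.of R))} (h : LocConst (fun _ => True) F) :
    ∃ (M : AddCommGrpCat.{u + 1}) (θ : M ⟶ F.obj.obj (op (EtCoh.top (Spec (CommRingCat.of R))))),
      IsConstOn F (EtCoh.top (Spec (CommRingCat.of R))) θ := by
  obtain ⟨U, M, θ, ⟨y, hy⟩, -, hθ⟩ := h (closedPoint R)
  haveI : Etale U.hom := U.prop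
  obtain ⟨a, ha, -⟩ := Groth.Agent.Hensel.exists_section_of_etale U.hom y hy
  exact ⟨M, _, hθ.map (MorphismProperty.Over.homMk a ha : EtCoh.top (Spec (CommRingCat.of R)) ⟶ U)⟩

section Torsion

open scoped DirectSum

variable {C₀ : Scheme.{u}} {k : Type u} [Field k]
  (hC : ∀ d : ℕ, (d : k) ≠ 0 → ∀ q : ℕ, 0 < q → Subsingleton (EtCoh.H C₀ (EtCoh.const C₀ (ZMod d)) q))

include hC in
/-- Finite constant sheaves of orders invertible in `k` are acyclic if the cyclic ones are. -/
theorem isZero_HF_finite (M : AddCommGrpCat.{u + 1}) [Finite M]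
    (hM : ∀ m : M, ∃ n : ℕ, (n : k) ≠ 0 ∧ n • m = 0) (q : ℕ) (hq : 0 < q) :
    IsZero ((EtCoh.HF C₀ q).obj ((constantSheaf C₀.smallEtaleTopology AddCommGrpCat.{u + 1}).obj M)) := by
  classical
  obtain ⟨M', _, _, ⟨e⟩⟩ := exists_small M
  obtain ⟨ι, _, n, hn, ⟨eM⟩⟩ := AddCommGroup.equiv_directSum_zmod_of_finite' M'
  let Φ := constantSheaf C₀.smallEtaleTopology AddCommGrpCat.{u + 1} ⋙ EtCoh.HF C₀ q
  haveI := PBCLib.HF_additive C₀ q
  haveI : (constantSheaf C₀.smallEtaleTopology AddCommGrpCat.{u + 1}).Additive := by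
    unfold constantSheaf; infer_instance
  refine IsZero.of_iso ?_ (Φ.mapIso e).symm
  let E : ULift.{u + 1} M' ≃+ DirectSum ι fun i => ZMod (n i) := AddEquiv.ulift.trans eM
  let p : ∀ i : ι, AddCommGrpCat.of (ULift.{u + 1} M') ⟶ AddCommGrpCat.of (ULift.{u + 1} (ZMod (n i))) := fun i =>
    AddCommGrpCat.ofHom (AddEquiv.ulift.symm.toAddMonoidHom.comp
      ((DFinsupp.evalAddMonoidHom i).comp E.toAddMonoidHom))
  let s : ∀ i : ι, AddCommGrpCat.of (ULift.{u + 1} (ZMod (n i))) ⟶ AddCommGrpCat.of (ULift.{u + 1} M') := fun i =>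
    AddCommGrpCat.ofHom (E.symm.toAddMonoidHom.comp
      ((DirectSum.of (fun i => ZMod (n i)) i).comp AddEquiv.ulift.toAddMonoidHom))
  have hk : ∀ i, (n i : k) ≠ 0 := fun i hi => by
    let a := e.hom (E.symm (DirectSum.of (fun i => ZMod (n i)) i 1))
    obtain ⟨m, hm0, hm⟩ := hM a
    have h1 : m • E.symm (DirectSum.of (fun i => ZMod (n i)) i 1) = 0 := by
      apply ((ConcreteCategory.bijective_of_isIso e.hom).1 : Function.Injective e.hom.hom)
      rw [map_nsmul, map_zero]
      exact hm
    have h2 : m • (1 : ZMod (n i)) = 0 := by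
      rw [← map_nsmul, ← map_nsmul, EmbeddingLike.map_eq_zero_iff] at h1
      exact DirectSum.of_injective i (h1.trans (map_zero _).symm)
    rw [nsmul_one, ZMod.natCast_eq_zero_iff] at h2
    obtain ⟨r, rfl⟩ := h2
    exact hm0 (by rw [Nat.cast_mul, hi, zero_mul])
  refine PBCLib.isZero_of_decomp Φ p s ?_ fun i => (PBCLib.subsingleton_H_iff _ q).1 (hC (n i) (hk i) q hq)
  ext x : 2
  rw [show (∑ i, p i ≫ s i).hom = ∑ i, (p i ≫ s i).hom from map_sum AddCommGrpCat.homAddEquiv _ _,
    AddMonoidHom.finsetSum_apply]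
  apply E.injective
  rw [map_sum]
  refine (DirectSum.sum_univ_of (E x)).symm.trans (Finset.sum_congr rfl fun i _ => ?_)
  simp [p, s]
  rfl

variable (M : AddCommGrpCat.{u + 1})

/-- The finitely generated subgroups. -/
def spanDiag : Finset M ⥤ AddCommGrpCat.{u + 1} where
  obj s := AddCommGrpCat.of (AddSubgroup.closure (s : Set M))
  map {s t} f := AddCommGrpCat.ofHom
    (AddSubgroup.inclusion (AddSubgroup.closure_mono (Finset.coe_subset.2 (leOfHom f))))

/-- A group is the union of its finitely generated subgroups. -/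
def spanCocone : Cocone (spanDiag M) where
  pt := M
  ι := { app := fun s => AddCommGrpCat.ofHom (AddSubgroup.closure (s : Set M)).subtype
         naturality := fun _ _ _ => rfl }

/-- The union of the finitely generated subgroups is a colimit. -/
theorem nonempty_isColimit_spanCocone : Nonempty (IsColimit (spanCocone M)) := by
  classical
  have key : ∀ (c : Cocone (spanDiag M)) {s : Finset M} (x : M) (hx : x ∈ AddSubgroup.closure (s : Set M)),
      c.ι.app s (⟨x, hx⟩ : AddSubgroup.closure (s : Set M)) =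
        c.ι.app {x} (⟨x, AddSubgroup.subset_closure (by simp)⟩ : AddSubgroup.closure (({x} : Finset M) : Set M)) := by
    intro c s x hx
    have h1 := congr($(c.w (homOfLE (show s ≤ s ∪ {x} from Finset.subset_union_left)))
      (⟨x, hx⟩ : AddSubgroup.closure (s : Set M)))
    have h2 := congr($(c.w (homOfLE (show ({x} : Finset M) ≤ s ∪ {x} from Finset.subset_union_right)))
      (⟨x, AddSubgroup.subset_closure (by simp)⟩ : AddSubgroup.closure (({x} : Finset M) : Set M)))
    exact h1.symm.trans h2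
  refine ⟨{
    desc := fun c => AddCommGrpCat.ofHom (AddMonoidHom.mk' (fun x =>
      c.ι.app {x} (⟨x, AddSubgroup.subset_closure (by simp)⟩ : AddSubgroup.closure (({x} : Finset M) : Set M)))
      fun x y => ?_)
    fac := fun c s => ?_
    uniq := fun c m hm => ?_ }⟩
  · let t : Finset M := {x, y}
    have hx : x ∈ AddSubgroup.closure (t : Set M) := AddSubgroup.subset_closure (by simp [t])
    have hy : y ∈ AddSubgroup.closure (t : Set M) := AddSubgroup.subset_closure (by simp [t])
    rw [← key c x hx, ← key c y hy, ← key c (x + y) (add_mem hx hy)]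
    exact map_add (c.ι.app t).hom ⟨x, hx⟩ ⟨y, hy⟩
  · ext ⟨x, hx⟩
    exact (key c x hx).symm
  · ext x
    exact congr($(hm {x}) (⟨x, AddSubgroup.subset_closure (by simp)⟩ : AddSubgroup.closure (({x} : Finset M) : Set M)))

include hC in
/-- Torsion constant sheaves of orders invertible in `k` are acyclic if the cyclic ones are. -/
theorem isZero_HF_torsion [CompactSpace C₀] [QuasiSeparatedSpace C₀]
    (hM : ∀ m : M, ∃ n : ℕ, 0 < n ∧ (n : k) ≠ 0 ∧ n • m = 0) (q : ℕ) (hq : 0 < q) :
    IsZero ((EtCoh.HF C₀ q).obj ((constantSheaf C₀.smallEtaleTopology AddCommGrpCat.{u + 1}).obj M)) := by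
  classical
  obtain ⟨hc⟩ := nonempty_isColimit_spanCocone M
  haveI : IsFiltered (Finset M) := by infer_instance
  haveI := CohColim.preserves_HF C₀ q (Finset M)
  haveI : PreservesColimitsOfSize.{u + 1, u + 1} (constantSheaf C₀.smallEtaleTopology AddCommGrpCat.{u + 1}) :=
    (EtCore.constAdj C₀).leftAdjoint_preservesColimits
  let Φ := constantSheaf C₀.smallEtaleTopology AddCommGrpCat.{u + 1} ⋙ EtCoh.HF C₀ q
  have h := isColimitOfPreserves Φ hc
  rw [IsZero.iff_id_eq_zero]
  refine h.hom_ext fun s => ?_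
  haveI : AddGroup.FG (AddSubgroup.closure (s : Set M)) :=
    (AddGroup.fg_iff_addSubgroup_fg _).2 ⟨s, rfl⟩
  haveI : Finite (AddSubgroup.closure (s : Set M)) := AddCommGroup.finite_of_fg_torsion _ fun m =>
    let ⟨n, hn, _, hnm⟩ := hM m
    isOfFinAddOrder_iff_nsmul_eq_zero.2 ⟨n, hn, Subtype.ext hnm⟩
  haveI : Finite ((spanDiag M).obj s) := ‹Finite (AddSubgroup.closure (s : Set M))›
  exact (isZero_HF_finite hC ((spanDiag M).obj s) (fun m =>
    let ⟨n, _, hn, hnm⟩ := hM (m : AddSubgroup.closure (s : Set M)).1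
    ⟨n, hn, Subtype.ext hnm⟩) q hq).eq_of_src _ _

end Torsion

/-- The spectrum of a local ring is connected. -/
theorem connectedSpace_spec_local (R : Type u) [CommRing R] [IsLocalRing R] :
    ConnectedSpace ↥(Spec (CommRingCat.of R)) := by
  rw [connectedSpace_iff_clopen]
  refine ⟨⟨closedPoint R⟩, fun s hs => ?_⟩
  by_cases h : closedPoint R ∈ s
  · exact Or.inr (Set.eq_univ_of_forall fun p => (IsLocalRing.specializes_closedPoint p).mem_open hs.2 h)
  · refine Or.inl (Set.eq_empty_of_forall_notMem fun p hp => ?_)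
    exact (IsLocalRing.specializes_closedPoint p).mem_open hs.1.isOpen_compl h hp

/-- Inverse image of a constant sheaf from a strictly henselian spectrum to a connected scheme, in degree zero. -/
theorem bijective_Hpull_zero_isConstOn (R : Type u) [CommRing R] [IsLocalRing R]
    {V : Scheme.{u}} [ConnectedSpace V] (t : V ⟶ Spec (CommRingCat.of R))
    [PreservesFiniteLimits (EtCoh.pull t)] (F : EtCoh.Ab (Spec (CommRingCat.of R))) {M : AddCommGrpCat.{u + 1}}
    {θ : M ⟶ F.obj.obj (op (EtCoh.top (Spec (CommRingCat.of R))))}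
    (hθ : IsConstOn F (EtCoh.top (Spec (CommRingCat.of R))) θ) :
    Function.Bijective (EtCore.Hpull t F 0) := by
  let Y := Spec (CommRingCat.of R)
  haveI : IsIso (pullback.snd (EtCoh.top Y).hom t) := inferInstanceAs (IsIso (pullback.snd (𝟙 Y) t))
  haveI : ConnectedSpace ((EtCoh.bc t).obj (EtCoh.top Y)).left :=
    (asIso (pullback.snd (EtCoh.top Y).hom t)).inv.homeomorph.surjective.connectedSpace
      (asIso (pullback.snd (EtCoh.top Y).hom t)).inv.continuous
  haveI : ConnectedSpace (EtCoh.top Y).left := connectedSpace_spec_local R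
  have hp := hθ.pull t
  have hu : Function.Bijective (((EtCoh.pullPushAdj t).unit.app F).hom.app (op (EtCoh.top Y))) := by
    refine (Function.Bijective.of_comp_iff _ (isConstOn_bijective hθ)).1 ?_
    exact isConstOn_bijective hp
  have hs : Function.Bijective
      (StrictLocLib.restrSec (W := EtCoh.top Y) t (Category.comp_id t) F) := by
    haveI : IsIso (StrictLocLib.secMor (W := EtCoh.top Y) t (Category.comp_id t)) := by
      rw [show StrictLocLib.secMor (W := EtCoh.top Y) t (Category.comp_id t) = (EtCore.bcTopIso t).inv from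
        (EtCore.bcTopIsTerminal t).hom_ext _ _]
      infer_instance
    exact (ConcreteCategory.bijective_of_isIso (((EtCoh.pull t).obj F).obj.map
      (StrictLocLib.secMor (W := EtCoh.top Y) t (Category.comp_id t)).op)).comp hu
  have e : ⇑(Sheaf.H.equiv₀ ((EtCoh.pull t).obj F) (EtCore.topIsTerminal V)) ∘ ⇑(EtCore.Hpull t F 0) =
      ⇑(StrictLocLib.restrSec (W := EtCoh.top Y) t (Category.comp_id t) F) ∘
        ⇑(Sheaf.H.equiv₀ F (EtCore.topIsTerminal Y)) := funext fun x => PBCLib.equiv₀_Hpull t F x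
  exact (Function.Bijective.of_comp_iff'
    (Sheaf.H.equiv₀ ((EtCoh.pull t).obj F) (EtCore.topIsTerminal V)).bijective _).1
    (e ▸ hs.comp (AddEquiv.bijective _))

/-- Inverse image of a torsion locally constant sheaf from a strictly henselian spectrum to a connected
quasi-compact quasi-separated acyclic scheme. -/
theorem bijective_Hpull_locConst (R : Type u) [CommRing R] [HenselianLocalRing R] [IsSepClosed (ResidueField R)]
    {V : Scheme.{u}} [CompactSpace V] [QuasiSeparatedSpace V] [ConnectedSpace V] (t : V ⟶ Spec (CommRingCat.of R))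
    [PreservesFiniteLimits (EtCoh.pull t)] {k : Type u} [Field k]
    (hC : ∀ d : ℕ, (d : k) ≠ 0 → ∀ q : ℕ, 0 < q → Subsingleton (EtCoh.H V (EtCoh.const V (ZMod d)) q))
    (F : EtCoh.Ab (Spec (CommRingCat.of R))) (hF : LocConst (fun _ => True) F)
    (htor : ∀ s : (EtCoh.stalk (Spec.map (CommRingCat.ofHom (residue R)))).obj F,
      ∃ n : ℕ, 0 < n ∧ (n : k) ≠ 0 ∧ n • s = 0) (q : ℕ) :
    Function.Bijective (EtCore.Hpull t F q) := by
  let Y := Spec (CommRingCat.of R)
  obtain ⟨M, θ, hθ⟩ := exists_isConstOn_top R hF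
  have hp := hθ.pull t
  rcases q with _ | q
  · exact bijective_Hpull_zero_isConstOn R t F hθ
  · obtain ⟨eC⟩ := nonempty_iso_C_of_isConstOn _ (hp.map (EtCore.bcTopIso t).inv)
    haveI := EtVanish.subsingleton_H_strictlyHenselian R F q
    have hM : ∀ m : M, ∃ n : ℕ, 0 < n ∧ (n : k) ≠ 0 ∧ n • m = 0 := fun m => by
      let ξ : Spec (CommRingCat.of (ResidueField R)) ⟶ Y := Spec.map (CommRingCat.ofHom (residue R))
      let l : (Scheme.pointSmallEtale ξ).fiber.obj (EtCoh.top Y) := Over.homMk ξ (Category.comp_id _)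
      obtain ⟨n, hn, hn0, hns⟩ := htor (germ ξ F l (θ m))
      refine ⟨n, hn, hn0, (hθ _ ξ l).1 ?_⟩
      have hl : ∀ z : M, germ ξ F l (θ z) =
          (θ ≫ (Scheme.pointSmallEtale ξ).toPresheafFiber (EtCoh.top Y) l F.obj).hom z := fun z => rfl
      show germ ξ F l (θ (n • m)) = germ ξ F l (θ 0)
      rw [hl, hl, map_nsmul, map_zero, ← hl]
      exact hns
    haveI := (PBCLib.subsingleton_H_iff _ (q + 1)).2 ((isZero_HF_torsion hC M hM (q + 1) q.succ_pos).of_iso
      ((EtCoh.HF V (q + 1)).mapIso eC).symm)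
    exact ⟨fun _ _ _ => Subsingleton.elim _ _, fun b => ⟨0, Subsingleton.elim _ _⟩⟩

end Groth.Agent.SmoothBCLib
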