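import Groth.Agent.SmoothBCLib.RowsField
import Groth.Agent.SmoothBCLib.AffineTest
import Groth.Agent.PBCLib.Rows

/-!
# Invariance of cohomology under universal base change morphisms
-/

set_option autoImplicit false
set_option linter.style.haveILetI false
set_option backward.isDefEq.respectTransparency false
set_option backward.isDefEq.respectTransparency.types false
set_option maxHeartbeats 1000000

universe u

open CategoryTheory CategoryTheory.Limits AlgebraicGeometry Opposite

noncomputable section

namespace Groth.Agent.SmoothBCLib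

attribute [local instance] Groth.Agent.S0101.result

/-- The comparison condition propagates along quasi-compact quasi-separated base changes. -/
theorem compN_of_bcInv_qcqs {S S' X X' : Scheme.{u}} [CompactSpace S] [QuasiSeparatedSpace S] [CompactSpace S']
    [QuasiSeparatedSpace S'] [CompactSpace X] [QuasiSeparatedSpace X] {v : S' ⟶ S} {L : Set ℕ} (hbc : BCInv v L)
    (n : ℕ) (hv : EtAcyc.CompN v L n) (f : X ⟶ S) (f' : X' ⟶ S') (g' : X' ⟶ X) (h : IsPullback g' f' f v) :
    EtAcyc.CompN g' L n := by
  haveI : QuasiCompact f := QuasiCompact.of_comp f (terminal.from S)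
  haveI : QuasiSeparated f := QuasiSeparated.of_comp f (terminal.from S)
  refine Groth.Agent.S8537.result v f g' f' h L n hv fun Fb hFb => ?_
  have H := hbc f f' g' h Fb hFb
  exact ⟨fun i _ => H i, haveI := H (n + 1); inferInstance⟩

/-- The comparison condition propagates along all base changes. -/
theorem compN_of_bcInv {S S' X X' : Scheme.{u}} [CompactSpace S] [QuasiSeparatedSpace S] [CompactSpace S']
    [QuasiSeparatedSpace S'] {v : S' ⟶ S} {L : Set ℕ} (hbc : BCInv v L) (n : ℕ) (hv : EtAcyc.CompN v L n)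
    (f : X ⟶ S) (f' : X' ⟶ S') (g' : X' ⟶ X) (h : IsPullback g' f' f v) : EtAcyc.CompN g' L n := by
  intro F hF _
  refine bijective_Hpull_of_affine g' F n fun W hW _ q hq => ?_
  haveI := hW
  haveI : IsAffine ((𝟭 Scheme.{u}).obj W.left) := hW
  have sq : IsPullback (pullback.fst W.hom g') (pullback.snd W.hom g' ≫ f') (W.hom ≫ f) v :=
    (IsPullback.of_hasPullback W.hom g').paste_vert h
  exact (compN_of_bcInv_qcqs hbc n hv (W.hom ≫ f) _ _ sq _ (AcycCompLib.isLTorsion_pull W.hom hF)).1 q hq

/-- A universal base change morphism with the comparison condition is acyclic. -/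
theorem isAcyclicN_of_bcInv {S S' : Scheme.{u}} [CompactSpace S] [QuasiSeparatedSpace S] [CompactSpace S']
    [QuasiSeparatedSpace S'] {v : S' ⟶ S} {L : Set ℕ} (hbc : BCInv v L) (n : ℕ) (hv : EtAcyc.CompN v L n) :
    EtAcyc.IsAcyclicN v L n :=
  fun V => compN_of_bcInv hbc n hv V.hom (pullback.snd V.hom v) _ (IsPullback.of_hasPullback V.hom v)

/-- Separably closed points. -/
theorem compN_sepClosed_point {k K : Type u} [Field k] [IsSepClosed k] [Field K] [IsSepClosed K]
    (v : Spec (CommRingCat.of K) ⟶ Spec (CommRingCat.of k)) (L : Set ℕ) (n : ℕ) : EtAcyc.CompN v L n :=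
  fun F _ _ => ⟨fun q _ => PBCLib.bijective_Hpull_sepClosed_point v F q,
    (PBCLib.bijective_Hpull_sepClosed_point v F (n + 1)).1⟩

theorem primesInvertibleOn_spec_field (k : Type u) [Field k] :
    EtAcyc.primesInvertibleOn (Spec (CommRingCat.of k)) = {ℓ | ℓ.Prime ∧ ℓ ≠ ringChar k} := by
  ext ℓ
  refine and_congr_right fun hℓ => ?_
  rw [← invOn_iff, InvOn, ← isUnit_map_iff (Scheme.ΓSpecIso (CommRingCat.of k)).commRingCatIsoToRingEquiv,
    map_natCast]
  rw [isUnit_iff_ne_zero, ne_eq, ne_eq, ringChar.spec k ℓ]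
  refine not_congr ⟨fun h => ?_, fun h => h ▸ dvd_rfl⟩
  rcases CharP.char_is_prime_or_zero k (ringChar k) with hp | hp
  · exact ((Nat.prime_dvd_prime_iff_eq hp hℓ).1 h).symm
  · rw [hp] at h
    exact absurd (Nat.eq_zero_of_zero_dvd h) hℓ.ne_zero

variable (hkey : HenLineKey.{u})

include hkey

/-- **Invariance of cohomology under extensions of separably closed fields.** -/
theorem compN_sepClosed_ext {k K : Type u} [Field k] [IsSepClosed k] [Field K] [IsSepClosed K] (i : k →+* K)
    {X : Scheme.{u}} (a : X ⟶ Spec (CommRingCat.of k)) (n : ℕ) :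
    EtAcyc.CompN (pullback.fst a (Spec.map (CommRingCat.ofHom i)))
      (EtAcyc.primesInvertibleOn (Spec (CommRingCat.of k))) n :=
  compN_of_bcInv (bcInv_fieldExt hkey i (𝟙 _) (Spec.map (CommRingCat.ofHom i)) (𝟙 _) (IsPullback.of_vert_isIso ⟨by simp⟩))
    n (compN_sepClosed_point _ _ n) a (pullback.snd a _) _ (IsPullback.of_hasPullback a _)

theorem bijective_Hpull_sepClosed_ext {k K : Type u} [Field k] [IsSepClosed k] [Field K] [IsSepClosed K] (i : k →+* K)
    {X : Scheme.{u}} (a : X ⟶ Spec (CommRingCat.of k)) (F : EtCoh.Ab X)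
    (hF : EtAcyc.IsLTorsion (EtAcyc.primesInvertibleOn (Spec (CommRingCat.of k))) F)
    [PreservesFiniteLimits (EtCoh.pull (pullback.fst a (Spec.map (CommRingCat.ofHom i))))] (q : ℕ) :
    Function.Bijective (EtCore.Hpull (pullback.fst a (Spec.map (CommRingCat.ofHom i))) F q) :=
  (compN_sepClosed_ext hkey i a q F hF).1 q le_rfl

omit hkey

end Groth.Agent.SmoothBCLib
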