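import Groth.Agent.SmoothBCLib.PtAcyclic
import Groth.Agent.CohColim.EtQC
import Groth.Agent.PBCLib.Embed
import Groth.Agent.CdFieldLib.PushVanish
import Mathlib.CategoryTheory.Limits.Types.Filtered
import Mathlib.Algebra.Category.Grp.FilteredColimits

/-!
# Acyclicity of sheaves killed by `n` at geometric points from that of `ℤ/d`
-/

set_option autoImplicit false
set_option linter.style.haveILetI false
set_option backward.isDefEq.respectTransparency false
set_option backward.isDefEq.respectTransparency.types false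
set_option maxHeartbeats 1000000
set_option synthInstance.maxHeartbeats 400000

universe u

open CategoryTheory CategoryTheory.Limits AlgebraicGeometry Opposite

noncomputable section

namespace Groth.Agent.SmoothBCLib

/-- `ℤ/d` has no cohomology in degree `q`, for every positive divisor `d` of `n`. -/
def ZModVanish (C : Scheme.{u}) (n q : ℕ) : Prop :=
  ∀ d : ℕ, d ∣ n → 0 < d → Subsingleton (EtCoh.H C (EtCoh.const C (ZMod d)) q)

theorem isZero_H_const_finite {C : Scheme.{u}} {n q : ℕ} (hC : ZModVanish C n q) (M : AddCommGrpCat.{u + 1})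
    [Finite M] (hM : ∀ m : M, n • m = 0) :
    IsZero ((EtCoh.HF C q).obj ((constantSheaf C.smallEtaleTopology AddCommGrpCat.{u + 1}).obj M)) := by
  classical
  obtain ⟨ι, _, k, hk, ⟨E⟩⟩ := AddCommGroup.equiv_directSum_zmod_of_finite' M
  let Φ := constantSheaf C.smallEtaleTopology AddCommGrpCat.{u + 1} ⋙ EtCoh.HF C q
  haveI := PBCLib.HF_additive C q
  haveI : (constantSheaf C.smallEtaleTopology AddCommGrpCat.{u + 1}).Additive := by
    unfold constantSheaf; infer_instance
  have hdvd : ∀ i, k i ∣ n := fun i => by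
    have h := hM (E.symm (DirectSum.of (fun i => ZMod (k i)) i 1))
    rw [← map_nsmul, ← map_nsmul, EmbeddingLike.map_eq_zero_iff, ← map_zero (DirectSum.of (fun i => ZMod (k i)) i)] at h
    exact (ZMod.natCast_eq_zero_iff n (k i)).1 (by simpa using DirectSum.of_injective i h)
  let p : ∀ i : ι, M ⟶ AddCommGrpCat.of (ULift.{u + 1} (ZMod (k i))) := fun i =>
    AddCommGrpCat.ofHom (AddEquiv.ulift.symm.toAddMonoidHom.comp
      ((DFinsupp.evalAddMonoidHom i).comp E.toAddMonoidHom))
  let s : ∀ i : ι, AddCommGrpCat.of (ULift.{u + 1} (ZMod (k i))) ⟶ M := fun i =>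
    AddCommGrpCat.ofHom (E.symm.toAddMonoidHom.comp
      ((DirectSum.of (fun i => ZMod (k i)) i).comp AddEquiv.ulift.toAddMonoidHom))
  refine PBCLib.isZero_of_decomp Φ p s ?_ fun i =>
    (PBCLib.subsingleton_H_iff _ q).1 (hC (k i) (hdvd i) (Nat.zero_lt_of_lt (hk i)))
  ext x : 2
  rw [show (∑ i, p i ≫ s i).hom = ∑ i, (p i ≫ s i).hom from map_sum AddCommGrpCat.homAddEquiv _ _,
    AddMonoidHom.finsetSum_apply]
  apply E.injective
  rw [map_sum]
  refine (DirectSum.sum_univ_of (E x)).symm.trans (Finset.sum_congr rfl fun i _ => ?_)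
  simp [p, s]
  rfl

section Colim

variable (M : AddCommGrpCat.{u + 1})

/-- The finitely generated subgroups. -/
abbrev FGSub : Type (u + 1) := {H : AddSubgroup M // H.FG}

instance : Nonempty (FGSub M) := ⟨⟨⊥, AddSubgroup.fg_iff_addSubmonoid_fg _ |>.2 AddSubmonoid.FG.bot⟩⟩

instance : IsDirectedOrder (FGSub M) :=
  ⟨fun a b => ⟨⟨a.1 ⊔ b.1, a.2.sup b.2⟩, (le_sup_left : a.1 ≤ a.1 ⊔ b.1), (le_sup_right : b.1 ≤ a.1 ⊔ b.1)⟩⟩

/-- The diagram of the finitely generated subgroups. -/
abbrev fgDiag : FGSub M ⥤ AddCommGrpCat.{u + 1} where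
  obj H := AddCommGrpCat.of H.1
  map {H H'} h := AddCommGrpCat.ofHom (AddSubgroup.inclusion (leOfHom h))

/-- Its cocone. -/
abbrev fgCocone : Cocone (fgDiag M) where
  pt := M
  ι := { app := fun H => AddCommGrpCat.ofHom H.1.subtype }

theorem nonempty_isColimit_fgCocone : Nonempty (IsColimit (fgCocone M)) := by
  haveI : PreservesColimit (fgDiag M) (forget AddCommGrpCat.{u + 1}) := inferInstance
  haveI : ReflectsColimit (fgDiag M) (forget AddCommGrpCat.{u + 1}) := reflectsColimit_of_reflectsIsomorphisms _ _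
  refine ⟨isColimitOfReflects (forget AddCommGrpCat.{u + 1}) ?_⟩
  refine Types.FilteredColimit.isColimitOf' _ _ (fun x => ?_) fun H x y e => ⟨H, 𝟙 H, ?_⟩
  · refine ⟨⟨AddSubgroup.closure {x}, ⟨{x}, by simp⟩⟩, ⟨x, AddSubgroup.subset_closure rfl⟩, rfl⟩
  · exact congrArg _ (Subtype.ext e)

end Colim

/-- Vanishing for all constant sheaves killed by `n`. -/
theorem subsingleton_H_const_killed {C : Scheme.{u}} [CompactSpace C] [QuasiSeparatedSpace C] {n q : ℕ}
    (hn : 0 < n) (hC : ZModVanish C n q) (M : AddCommGrpCat.{u + 1}) (hM : ∀ m : M, n • m = 0) :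
    Subsingleton (EtCoh.H C ((constantSheaf C.smallEtaleTopology AddCommGrpCat.{u + 1}).obj M) q) := by
  haveI := CohColim.preserves_HF C q (FGSub M)
  haveI : (constantSheaf C.smallEtaleTopology AddCommGrpCat.{u + 1}).IsLeftAdjoint := (EtCore.constAdj C).isLeftAdjoint
  haveI : PreservesColimitsOfShape (FGSub M) (constantSheaf C.smallEtaleTopology AddCommGrpCat.{u + 1}) :=
    inferInstance
  let Φ := constantSheaf C.smallEtaleTopology AddCommGrpCat.{u + 1} ⋙ EtCoh.HF C q
  have hc := isColimitOfPreserves Φ (nonempty_isColimit_fgCocone M).some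
  rw [PBCLib.subsingleton_H_iff]
  refine IsZero.of_full_of_faithful_of_isZero (𝟭 AddCommGrpCat.{u + 1}) _ ?_
  refine (IsColimit.isZero_pt hc ?_)
  refine Functor.isZero _ fun H => ?_
  haveI : AddGroup.FG H.1 := (AddGroup.fg_iff_addSubgroup_fg H.1).2 H.2
  haveI : Finite H.1 := AddCommGroup.finite_of_fg_isAddTorsion _ fun m =>
    isOfFinAddOrder_iff_nsmul_eq_zero.2 ⟨n, hn, Subtype.ext (hM m.1)⟩
  exact isZero_H_const_finite hC _ fun m => Subtype.ext (hM m.1)

/-- The cohomology on the fibre of a strict localization from that of `ℤ/d`. -/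
theorem subsingleton_H_pull_of_zmod {S' S : Scheme.{u}} {g : S' ⟶ S} {n : ℕ} (hn : 0 < n) {K : Type u} [Field K]
    [IsAlgClosed K] {ξ : Spec (CommRingCat.of K) ⟶ S} [QuasiCompact ξ] [QuasiSeparated ξ] {P : Scheme.{u}}
    {a : P ⟶ S'} {b : P ⟶ Spec (CommRingCat.of K)} (hP : IsPullback a b g ξ) (q : ℕ)
    (s : S') (R : Type u) [CommRing R] [IsLocalRing R] [Algebra (S'.presheaf.stalk s) R]
    (h : ZModVanish (pullback (Hens2.specOf S' s R ≫ g) ξ) n q)
    (G : EtCoh.Ab (Spec (CommRingCat.of K))) (hG : EtCoh.KilledBy n G) :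
    Subsingleton (EtCoh.H (pullback a (Hens2.specOf S' s R))
      ((EtCoh.pull (pullback.fst a (Hens2.specOf S' s R))).obj ((EtCoh.pull b).obj G)) q) := by
  haveI : QuasiCompact a := MorphismProperty.of_isPullback hP.flip inferInstance
  haveI : QuasiSeparated a := MorphismProperty.of_isPullback hP.flip inferInstance
  let u := Hens2.specOf S' s R
  rw [← subsingleton_H_pull_pull b (pullback.fst a u) _ rfl]
  have sq : IsPullback (pullback.snd a u) (pullback.fst a u ≫ b) (u ≫ g) ξ :=
    (IsPullback.of_hasPullback a u).flip.paste_vert hP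
  refine subsingleton_H_pull_iso (pullback.snd (u ≫ g) ξ) sq.isoPullback.hom _ sq.isoPullback_hom_snd G q ?_
  let C := pullback (u ≫ g) ξ
  haveI : CompactSpace ↥C := QuasiCompact.compactSpace_of_compactSpace (pullback.fst (u ≫ g) ξ)
  haveI : QuasiSeparatedSpace ↥C := quasiSeparatedSpace_of_quasiSeparated (pullback.fst (u ≫ g) ξ)
  obtain ⟨e⟩ := PBCLib.nonempty_iso_const G
  let M := G.obj.obj (op (EtCoh.top (Spec (CommRingCat.of K))))
  haveI := subsingleton_H_const_killed hn h M fun m => hG _ m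
  exact CdFieldLib.subsingleton_H_of_iso'
    ((EtCoh.pull _).mapIso e.symm ≪≫ (EtCore.pullConstIso (pullback.snd (u ≫ g) ξ)).app M) q this

/-- Acyclicity of sheaves killed by `n` at geometric points from that of `ℤ/d` on the fibres of the strict
localizations. -/
theorem isZero_Rpush_pull_of_zmod {S' S : Scheme.{u}} {g : S' ⟶ S} {n : ℕ} (hn : 0 < n) {K : Type u} [Field K]
    [IsAlgClosed K] {ξ : Spec (CommRingCat.of K) ⟶ S} [QuasiCompact ξ] [QuasiSeparated ξ] {P : Scheme.{u}}
    {a : P ⟶ S'} {b : P ⟶ Spec (CommRingCat.of K)} (hP : IsPullback a b g ξ) (q : ℕ)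
    (h : ∀ (s : S') (R : Type u) [CommRing R] [IsLocalRing R] [Algebra (S'.presheaf.stalk s) R]
      [IsLocalHom (algebraMap (S'.presheaf.stalk s) R)] [Hensel.IsStrictHenselization (S'.presheaf.stalk s) R]
      [IsSepClosed (IsLocalRing.ResidueField R)], ZModVanish (pullback (Hens2.specOf S' s R ≫ g) ξ) n q)
    (G : EtCoh.Ab (Spec (CommRingCat.of K))) (hG : EtCoh.KilledBy n G) :
    IsZero ((EtCoh.Rpush a q).obj ((EtCoh.pull b).obj G)) := by
  haveI : QuasiCompact a := MorphismProperty.of_isPullback hP.flip inferInstance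
  haveI : QuasiSeparated a := MorphismProperty.of_isPullback hP.flip inferInstance
  exact isZero_Rpush_of_strictLoc a _ _ fun s R _ _ _ _ _ _ =>
    subsingleton_H_pull_of_zmod hn hP q s R (h s R) G hG

end Groth.Agent.SmoothBCLib
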