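import Groth.Agent.SmoothBCLib.TorsL
import Groth.Agent.PBCLib.TorsComplex

/-!
# The `L`-torsion part of a complex of injective sheaves
-/

set_option autoImplicit false
set_option linter.style.haveILetI false
set_option backward.isDefEq.respectTransparency false
set_option backward.isDefEq.respectTransparency.types false
set_option maxHeartbeats 1000000

universe u

open CategoryTheory CategoryTheory.Limits AlgebraicGeometry Opposite

attribute [local instance] HasDerivedCategory.standard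

noncomputable section

namespace Groth.Agent.SmoothBCLib

attribute [local instance] Groth.Agent.S0101.result

variable {X : Scheme.{u}} {L : Set ℕ}

/-- Torsion is inherited by the middle term of an exact sequence. -/
theorem isLTorsion_of_exact (S : ShortComplex (EtCoh.Ab X)) (hS : S.Exact) (h₁ : EtAcyc.IsLTorsion L S.X₁)
    (h₃ : EtAcyc.IsLTorsion L S.X₃) : EtAcyc.IsLTorsion L S.X₂ := by
  refine (S8525.result L _).2 fun Ω _ _ ξ b => ?_
  obtain ⟨n, hn, hb⟩ := (S8525.result L _).1 h₃ Ω ξ ((EtCoh.stalk ξ).map S.g b)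
  obtain ⟨y, hy⟩ := (ShortComplex.ab_exact_iff _).1 ((EtPtsLib.exact_iff_ab S).1 hS Ω ξ) (n • b)
    ((map_nsmul _ n b).trans hb)
  obtain ⟨m, hm, hy0⟩ := (S8525.result L _).1 h₁ Ω ξ y
  refine ⟨m * n, primesIn_mul hm hn, ?_⟩
  rw [mul_nsmul', ← hy]
  exact ((map_nsmul _ m y).symm.trans (congrArg _ hy0)).trans (map_zero _)

variable (L) (I : EtCoh.Ab X)

/-- The sum of the kernels of the multiplications. -/
def torsDesc : (∐ fun m : {m : ℕ // EtAcyc.PrimesIn L m} => kernel (m.1 • 𝟙 I : I ⟶ I)) ⟶ I :=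
  Sigma.desc fun m => kernel.ι (m.1 • 𝟙 I : I ⟶ I)

/-- The torsion part of a sheaf. -/
def torsPart : EtCoh.Ab X := kernel (cokernel.π (torsDesc L I))

/-- The inclusion of the torsion part. -/
def torsι : torsPart L I ⟶ I := kernel.ι (cokernel.π (torsDesc L I))

instance : Mono (torsι L I) := inferInstanceAs (Mono (kernel.ι _))

theorem exists_torsι_eq {Ω : Type u} [Field Ω] [IsSepClosed Ω] (ξ : Spec (CommRingCat.of Ω) ⟶ X)
    (y : (EtCoh.stalk ξ).obj I) (hy : ∃ m, EtAcyc.PrimesIn L m ∧ m • y = 0) : ∃ z, (EtCoh.stalk ξ).map (torsι L I) z = y := by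
  obtain ⟨m, hm, hy⟩ := hy
  obtain ⟨w, hw⟩ := (ShortComplex.ab_exact_iff _).1 ((EtPtsLib.exact_iff_ab
    (ShortComplex.mk _ _ (kernel.condition (m • 𝟙 I : I ⟶ I)))).1
    (ShortComplex.exact_of_f_is_kernel _ (kernelIsKernel _)) Ω ξ) y ((PBCLib.stalk_nsmul_id I m ξ y).trans hy)
  have h0 : kernel.ι (m • 𝟙 I : I ⟶ I) ≫ cokernel.π (torsDesc L I) = 0 := by
    rw [show kernel.ι (m • 𝟙 I : I ⟶ I) = Sigma.ι _ (⟨m, hm⟩ : {m : ℕ // EtAcyc.PrimesIn L m}) ≫ torsDesc L I from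
      (Sigma.ι_desc (fun j : {m : ℕ // EtAcyc.PrimesIn L m} => kernel.ι (j.1 • 𝟙 I : I ⟶ I)) ⟨m, hm⟩).symm, Category.assoc, cokernel.condition,
      comp_zero]
  refine ⟨(EtCoh.stalk ξ).map (kernel.lift _ _ h0) w, ?_⟩
  refine (PBCLib.stalk_comp_apply _ _ ξ w).symm.trans ?_
  rw [torsι, kernel.lift_ι]
  exact hw

theorem injective_stalk_torsι {Ω : Type u} [Field Ω] [IsSepClosed Ω] (ξ : Spec (CommRingCat.of Ω) ⟶ X) :
    Function.Injective ((EtCoh.stalk ξ).map (torsι L I)) := (EtPtsLib.mono_iff_ab (torsι L I)).1 inferInstance Ω ξ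

theorem lTors_torsι {Ω : Type u} [Field Ω] [IsSepClosed Ω] (ξ : Spec (CommRingCat.of Ω) ⟶ X)
    (z : (EtCoh.stalk ξ).obj (torsPart L I)) : ∃ m, EtAcyc.PrimesIn L m ∧ m • (EtCoh.stalk ξ).map (torsι L I) z = 0 := by
  obtain ⟨w, hw⟩ := (ShortComplex.ab_exact_iff _).1 ((EtPtsLib.exact_iff_ab
    (ShortComplex.mk (torsDesc L I) _ (cokernel.condition (torsDesc L I)))).1
      (ShortComplex.exact_cokernel (torsDesc L I)) Ω ξ)
    ((EtCoh.stalk ξ).map (torsι L I) z)
    (((PBCLib.stalk_comp_apply (torsι L I) _ ξ z).symm.trans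
      (congrArg (fun k => (EtCoh.stalk ξ).map k z) (kernel.condition _))).trans (PBCLib.stalk_map_zero ξ z))
  rw [← hw]
  let G := (EtCoh.stalk ξ).obj I
  let q : G ⟶ AddCommGrpCat.of (↑G ⧸ lTorsionSubgroup L ↑G) := AddCommGrpCat.ofHom (QuotientAddGroup.mk' _)
  have h0 : (EtCoh.stalk ξ).map (torsDesc L I) ≫ q = 0 := by
    refine (isColimitOfPreserves (EtCoh.stalk ξ) (colimit.isColimit
      (Discrete.functor fun m : {m : ℕ // EtAcyc.PrimesIn L m} => kernel (m.1 • 𝟙 I : I ⟶ I)))).hom_ext fun ⟨m⟩ => ?_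
    refine AddCommGrpCat.hom_ext (AddMonoidHom.ext fun x => ?_)
    show q ((EtCoh.stalk ξ).map (torsDesc L I) ((EtCoh.stalk ξ).map (Sigma.ι _ m) x)) = 0
    rw [← PBCLib.stalk_comp_apply, torsDesc, Sigma.ι_desc]
    refine (QuotientAddGroup.eq_zero_iff _).2 ⟨m.1, m.2, ?_⟩
    rw [← PBCLib.stalk_nsmul_id, ← PBCLib.stalk_comp_apply, kernel.condition, PBCLib.stalk_map_zero]
  exact (QuotientAddGroup.eq_zero_iff _).1 (ConcreteCategory.congr_hom h0 w)

theorem isLTorsion_torsPart : EtAcyc.IsLTorsion L (torsPart L I) := by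
  refine (S8525.result L _).2 fun Ω _ _ ξ z => ?_
  obtain ⟨n, hn, hn0⟩ := lTors_torsι L I ξ z
  exact ⟨n, hn, injective_stalk_torsι L I ξ (by rw [map_nsmul, hn0, map_zero])⟩

variable {I}

theorem torsι_comp_π_eq_zero {J : EtCoh.Ab X} (a : I ⟶ J) :
    (torsι L I ≫ a) ≫ cokernel.π (torsDesc L J) = 0 := by
  refine PBCLib.eq_zero_of_stalk _ fun Ω _ _ ξ z => ?_
  rw [PBCLib.stalk_comp_apply, PBCLib.stalk_comp_apply]
  obtain ⟨n, hn, hn0⟩ := lTors_torsι L I ξ z
  obtain ⟨y, hy⟩ := exists_torsι_eq L J ξ _ ⟨n, hn, (map_nsmul _ n _).symm.trans ((congrArg ((EtCoh.stalk ξ).map a) hn0).trans (map_zero _))⟩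
  rw [← hy, ← PBCLib.stalk_comp_apply, torsι, kernel.condition, PBCLib.stalk_map_zero]

/-- The torsion part of a morphism. -/
def torsMap {J : EtCoh.Ab X} (a : I ⟶ J) : torsPart L I ⟶ torsPart L J :=
  kernel.lift _ (torsι L I ≫ a) (torsι_comp_π_eq_zero L a)

theorem torsMap_ι {J : EtCoh.Ab X} (a : I ⟶ J) : torsMap L a ≫ torsι L J = torsι L I ≫ a := kernel.lift_ι _ _ _

/-- The kernels of the multiplications on the torsion part of an injective sheaf. -/
theorem exists_seq_torsPart [Injective I] {n : ℕ} (hn : EtAcyc.PrimesIn L n) :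
    ∃ (i : kernel (n • 𝟙 I : I ⟶ I) ⟶ torsPart L I) (w : i ≫ (n • 𝟙 (torsPart L I)) = 0),
      (ShortComplex.mk i (n • 𝟙 (torsPart L I)) w).ShortExact := by
  obtain ⟨m, hm, rfl⟩ : ∃ m, EtAcyc.PrimesIn L m ∧ m = n := ⟨n, hn, rfl⟩
  have h0 : kernel.ι (m • 𝟙 I : I ⟶ I) ≫ cokernel.π (torsDesc L I) = 0 := by
    rw [show kernel.ι (m • 𝟙 I : I ⟶ I) = Sigma.ι _ (⟨m, hm⟩ : {m : ℕ // EtAcyc.PrimesIn L m}) ≫ torsDesc L I from
      (Sigma.ι_desc (fun j : {m : ℕ // EtAcyc.PrimesIn L m} => kernel.ι (j.1 • 𝟙 I : I ⟶ I)) ⟨m, hm⟩).symm, Category.assoc, cokernel.condition,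
      comp_zero]
  let i : kernel (m • 𝟙 I : I ⟶ I) ⟶ torsPart L I := kernel.lift _ _ h0
  have hi : i ≫ torsι L I = kernel.ι (m • 𝟙 I : I ⟶ I) := kernel.lift_ι _ _ _
  have hw : i ≫ (m • 𝟙 (torsPart L I)) = 0 := by
    rw [← cancel_mono (torsι L I), zero_comp, Category.assoc, Preadditive.nsmul_comp, Category.id_comp,
      ← Category.comp_id (torsι L I), ← Preadditive.comp_nsmul, ← Category.assoc, hi, kernel.condition]
  haveI : Mono i := mono_of_mono_fac hi
  refine ⟨i, hw, ?_⟩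
  haveI : Epi (m • 𝟙 (torsPart L I)) := (EtPtsLib.epi_iff_ab _).2 fun Ω _ _ ξ z => by
    obtain ⟨x, hx⟩ := (EtPtsLib.epi_iff_ab (m • 𝟙 I : I ⟶ I)).1 (PBCLib.epi_nsmul_injective I hn.1) Ω ξ
      ((EtCoh.stalk ξ).map (torsι L I) z)
    rw [PBCLib.stalk_nsmul_id] at hx
    obtain ⟨k, hk, hk0⟩ := lTors_torsι L I ξ z
    obtain ⟨z', hz'⟩ := exists_torsι_eq L I ξ x ⟨k * m,
      primesIn_mul hk hn, by rw [mul_nsmul', hx]; exact hk0⟩
    refine ⟨z', injective_stalk_torsι L I ξ ?_⟩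
    rw [PBCLib.stalk_nsmul_id, map_nsmul, hz', hx]
  refine { exact := ?_ }
  refine ShortComplex.exact_of_f_is_kernel _ (KernelFork.IsLimit.ofι' i hw fun {W} k hk => ?_)
  have hk' : (k ≫ torsι L I) ≫ (m • 𝟙 I : I ⟶ I) = 0 := by
    rw [Preadditive.comp_nsmul, Category.comp_id, ← Preadditive.nsmul_comp, ← Category.comp_id k,
      ← Preadditive.comp_nsmul, hk, zero_comp]
  refine ⟨kernel.lift _ (k ≫ torsι L I) hk', ?_⟩
  rw [← cancel_mono (torsι L I), Category.assoc, hi, kernel.lift_ι]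

/-- Multiplications are bijective on the quotient of an injective sheaf by its torsion part. -/
theorem isIso_nsmul_cokernel [Injective I] {n : ℕ} (hn : EtAcyc.PrimesIn L n) : IsIso (n • 𝟙 (cokernel (torsι L I))) := by
  haveI := PBCLib.epi_nsmul_injective I hn.1
  haveI : Epi (n • 𝟙 (cokernel (torsι L I))) := by
    haveI : Epi (cokernel.π (torsι L I) ≫ (n • 𝟙 (cokernel (torsι L I)))) := by
      rw [Preadditive.comp_nsmul, Category.comp_id, ← Category.id_comp (cokernel.π (torsι L I)),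
        ← Preadditive.nsmul_comp]
      exact epi_comp _ _
    exact epi_of_epi (cokernel.π (torsι L I)) _
  haveI : Mono (n • 𝟙 (cokernel (torsι L I))) := (EtPtsLib.mono_iff_ab _).2 fun Ω _ _ ξ => by
    refine (injective_iff_map_eq_zero _).2 fun a ha => ?_
    obtain ⟨y, rfl⟩ := (EtPtsLib.epi_iff_ab (cokernel.π (torsι L I))).1 inferInstance Ω ξ a
    rw [PBCLib.stalk_nsmul_id, ← map_nsmul] at ha
    obtain ⟨z, hz⟩ := (ShortComplex.ab_exact_iff _).1 ((EtPtsLib.exact_iff_ab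
      (ShortComplex.mk (torsι L I) _ (cokernel.condition (torsι L I)))).1 (ShortComplex.exact_cokernel (torsι L I)) Ω ξ)
      (n • y) ha
    obtain ⟨k, hk, hk0⟩ := lTors_torsι L I ξ z
    obtain ⟨z', rfl⟩ := exists_torsι_eq L I ξ y ⟨k * n, primesIn_mul hk hn, by
      rw [mul_nsmul', ← hz]; exact hk0⟩
    rw [← PBCLib.stalk_comp_apply, cokernel.condition, PBCLib.stalk_map_zero]
  exact isIso_of_mono_of_epi _

/-- The torsion part of a complex. -/
def torsComplex (C : CochainComplex (EtCoh.Ab X) ℤ) : CochainComplex (EtCoh.Ab X) ℤ where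
  X i := torsPart L (C.X i)
  d i j := torsMap L (C.d i j)
  shape i j h := by rw [← cancel_mono (torsι L (C.X j)), torsMap_ι L, C.shape i j h, comp_zero, zero_comp]
  d_comp_d' i j k _ _ := by
    rw [← cancel_mono (torsι L (C.X k)), Category.assoc, torsMap_ι L, ← Category.assoc, torsMap_ι L, Category.assoc,
      C.d_comp_d, comp_zero, zero_comp]

/-- The inclusion of the torsion part of a complex. -/
def torsComplexι (C : CochainComplex (EtCoh.Ab X) ℤ) : torsComplex L C ⟶ C where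
  f i := torsι L (C.X i)
  comm' i j _ := (torsMap_ι L (C.d i j)).symm

/-- A complex of injectives with torsion cohomology is quasi-isomorphic to its torsion part. -/
theorem quasiIso_torsComplexι (C : CochainComplex (EtCoh.Ab X) ℤ) [∀ i, Injective (C.X i)]
    (hC : ∀ i, EtAcyc.IsLTorsion L (C.homology i)) : QuasiIso (torsComplexι L C) := by
  let ι := torsComplexι L C
  haveI : ∀ i, Mono (ι.f i) := fun i => inferInstanceAs (Mono (torsι L (C.X i)))
  haveI : Mono ι := HomologicalComplex.mono_of_mono_f ι inferInstance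
  let S : ShortComplex (CochainComplex (EtCoh.Ab X) ℤ) := ShortComplex.mk ι (cokernel.π ι) (cokernel.condition ι)
  have hS : S.ShortExact := { exact := ShortComplex.exact_cokernel ι }
  have hT : ∀ i, EtAcyc.IsLTorsion L ((torsComplex L C).homology i) := fun i =>
    CdFieldLib.isLTorsion_of_epi ((torsComplex L C).homologyπ i)
      (CdFieldLib.isLTorsion_of_mono ((torsComplex L C).iCycles i) (isLTorsion_torsPart L (C.X i)))
  have hQX : ∀ (n : ℕ), EtAcyc.PrimesIn L n → ∀ i, IsIso (n • 𝟙 (S.X₃.X i)) := fun n hn i => by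
    let e : cokernel (torsι L (C.X i)) ≅ S.X₃.X i :=
      ((PreservesCokernel.iso (HomologicalComplex.eval (EtCoh.Ab X) (ComplexShape.up ℤ) i) ι)).symm
    haveI := isIso_nsmul_cokernel L (I := C.X i) hn
    have : n • 𝟙 (S.X₃.X i) = e.inv ≫ (n • 𝟙 (cokernel (torsι L (C.X i)))) ≫ e.hom := by
      simp [Preadditive.comp_nsmul, Preadditive.nsmul_comp]
    rw [this]
    infer_instance
  have hQ : ∀ i, IsZero (S.X₃.homology i) := fun i => by
    refine isZero_of_lTorsion_of_mono_nsmul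
      (isLTorsion_of_exact _ (hS.homology_exact₃ i (i + 1) rfl) (hC i) (hT (i + 1))) fun n hn => ?_
    haveI : ∀ j, IsIso ((n • 𝟙 S.X₃ : S.X₃ ⟶ S.X₃).f j) := fun j => by
      rw [show (n • 𝟙 S.X₃ : S.X₃ ⟶ S.X₃).f j = n • 𝟙 (S.X₃.X j) by simp]
      exact hQX n hn j
    haveI : IsIso (n • 𝟙 S.X₃ : S.X₃ ⟶ S.X₃) := HomologicalComplex.Hom.isIso_of_components _
    have e : HomologicalComplex.homologyMap (n • 𝟙 S.X₃ : S.X₃ ⟶ S.X₃) i = n • 𝟙 (S.X₃.homology i) := by
      show (HomologicalComplex.homologyFunctor (EtCoh.Ab X) (ComplexShape.up ℤ) i).map _ = _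
      rw [Functor.map_nsmul, CategoryTheory.Functor.map_id]
      rfl
    rw [← e]
    infer_instance
  refine ⟨fun i => ?_⟩
  rw [quasiIsoAt_iff_isIso_homologyMap]
  haveI : Mono (HomologicalComplex.homologyMap ι i) :=
    (hS.homology_exact₁ (i - 1) i (by simp)).mono_g ((hQ (i - 1)).eq_of_src _ _)
  haveI : Epi (HomologicalComplex.homologyMap ι i) :=
    (hS.homology_exact₂ i).epi_f ((hQ i).eq_of_tgt _ _)
  exact isIso_of_mono_of_epi _


end Groth.Agent.SmoothBCLib
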