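import Groth.Agent.SmoothBCLib.TorsLComplex
import Groth.Agent.SmoothBCLib.Smooth
import Groth.Prelude.Def_PBC

/-!
# Smooth base change for `L`-torsion sheaves, given acyclicity of the henselized line
-/

set_option autoImplicit false
set_option linter.style.haveILetI false
set_option backward.isDefEq.respectTransparency false
set_option backward.isDefEq.respectTransparency.types false
set_option maxHeartbeats 1000000

universe u

open CategoryTheory CategoryTheory.Limits AlgebraicGeometry Opposite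

attribute [local instance] HasDerivedCategory.standard

noncomputable section

namespace Groth.Agent.SmoothBCLib

attribute [local instance] Groth.Agent.S0101.result

/-- A natural number is invertible on `S` iff it is nonzero in all residue fields. -/
theorem invOn_iff {S : Scheme.{u}} {m : ℕ} : InvOn m S ↔ ∀ x : S, (m : S.residueField x) ≠ 0 := by
  constructor
  · intro h x
    have := h.map ((S.presheaf.germ ⊤ x trivial) ≫ S.residue x).hom
    rw [map_natCast] at this
    exact this.ne_zero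
  · intro h
    refine S.toLocallyRingedSpace.toRingedSpace.isUnit_of_isUnit_germ ⊤ _ fun x _ => ?_
    refine IsLocalRing.notMem_maximalIdeal.1 fun hm => h x ?_
    have := (IsLocalRing.residue_eq_zero_iff _).2 hm
    rwa [map_natCast, map_natCast] at this

/-- Integers with prime factors invertible on `S` are invertible on `S`. -/
theorem invOn_of_primesIn {S : Scheme.{u}} {m : ℕ} (hm : EtAcyc.PrimesIn (EtAcyc.primesInvertibleOn S) m) :
    InvOn m S := by
  induction m using Nat.strong_induction_on with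
  | _ m ih =>
    rcases eq_or_ne m 1 with rfl | h1
    · simp [InvOn]
    · obtain ⟨p, hp, k, rfl⟩ := Nat.exists_prime_and_dvd h1
      have hk : 0 < k := Nat.pos_of_mul_pos_left hm.1
      have h2 : InvOn k S := ih k (lt_mul_of_one_lt_left hk hp.one_lt) ⟨hk, fun q hq hd => hm.2 q hq (hd.mul_left p)⟩
      have h3 : InvOn p S := invOn_iff.2 (hm.2 p hp (dvd_mul_right p k)).2
      rw [InvOn, Nat.cast_mul]
      exact h3.mul h2

/-- Torsion invertible on the base is torsion for the primes invertible on the base. -/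
theorem isLTorsion_of_invertibleOn {S T : Scheme.{u}} (p : T ⟶ S) {F : EtCoh.Ab T}
    (hF : EtPBC.IsTorsionInvertibleOn S F) : EtAcyc.IsLTorsion (EtAcyc.primesInvertibleOn S) F := fun U s x => by
  obtain ⟨V, g, n, hv, hn, h0⟩ := hF U s x
  have hu := invOn_iff.1 hn
  refine ⟨V, g, n, hv, ⟨Nat.pos_of_ne_zero fun h => hu (p (U.hom x)) (by rw [h, Nat.cast_zero]), fun q hq hd => ⟨hq, fun y hy => hu y ?_⟩⟩, h0⟩
  obtain ⟨k, rfl⟩ := hd
  rw [Nat.cast_mul, hy, zero_mul]

/-- Base change isomorphisms in all degrees for `L`-torsion sheaves. -/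
def BCLTors {X S X' S' : Scheme.{u}} (f : X ⟶ S) (g : S' ⟶ S) (f' : X' ⟶ S') (g' : X' ⟶ X)
    (w : g' ≫ f = f' ≫ g) [PreservesFiniteLimits (EtCoh.pull g')] (L : Set ℕ) : Prop :=
  ∀ F : EtCoh.Ab X, EtAcyc.IsLTorsion L F → ∀ q : ℕ, IsIso (EtBC.bcQ f g f' g' w q F)

/-- **Smooth base change** for sheaves which are torsion for primes invertible on the base. -/
theorem bcLTors_smooth_of_key (hkey : HenLineKey.{u}) {X S X' S' : Scheme.{u}} (f : X ⟶ S) (g : S' ⟶ S)
    (f' : X' ⟶ S') (g' : X' ⟶ X) (h : IsPullback g' f' f g) [QuasiCompact f] [QuasiSeparated f] [Smooth g]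
    [PreservesFiniteLimits (EtCoh.pull g')] : BCLTors f g f' g' h.w (EtAcyc.primesInvertibleOn S) := fun F hF q =>
  haveI : QuasiCompact f' := MorphismProperty.of_isPullback h ‹_›
  haveI : QuasiSeparated f' := MorphismProperty.of_isPullback h ‹_›
  isIso_bcQ_lTorsion f g f' g' h.w (fun G => isIso_bcQ_zero f f' g' h G)
    (fun n hn K hK j => bcKilled_smooth_of_key hkey hn.1 g (invOn_of_primesIn hn) f f' g' h K hK j) q F hF

section Derived

variable {L : Set ℕ}

/-- **Smooth base change for bounded below complexes with `L`-torsion cohomology.** -/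
theorem isIso_bcMap_of_torsion {X S X' S' : Scheme.{u}} (f : X ⟶ S) (g : S' ⟶ S) (f' : X' ⟶ S') (g' : X' ⟶ X)
    (h : IsPullback g' f' f g) [QuasiCompact f] [QuasiSeparated f] [Smooth g] (hbc : BCLTors f g f' g' h.w L)
    [PreservesFiniteLimits (EtCoh.pull g)] [PreservesFiniteLimits (EtCoh.pull g')]
    [DCoh.HasRpushEt X f] [DCoh.HasRpushEt X' f'] [DCoh.HasRpushEt S' g]
    (adj : EtBC.pullD g ⊣ DCoh.RpushEt S' g) (E : DCoh.DEt X) (n : ℤ) [E.IsGE n]
    (hE : ∀ i : ℤ, EtAcyc.IsLTorsion L (DCoh.HDEt E i)) :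
    IsIso (EtBC.bcMap f g f' g' h.w adj E) := by
  obtain ⟨L₀, hL, ⟨eL⟩⟩ := DerivedCategory.exists_iso_Q_obj_of_isGE E n
  haveI := hL
  obtain ⟨C, i, hi, hJ, hCn⟩ := CochainComplex.Plus.modelCategoryQuillen.exists_quasiIso_injective L₀ n
  haveI := hi
  haveI := hCn
  haveI : ∀ j, Injective (C.X j) := hJ
  let eC : DerivedCategory.Q.obj C ≅ E := (asIso (DerivedCategory.Q.map i)).symm ≪≫ eL.symm
  have hC : ∀ j, EtAcyc.IsLTorsion L (C.homology j) := fun j =>
    CdFieldLib.isLTorsion_of_epi ((DerivedCategory.homologyFunctor _ j).map eC.inv ≫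
      (DerivedCategory.homologyFunctorFactors _ j).hom.app C) (hE j)
  let T := torsComplex L C
  haveI := quasiIso_torsComplexι L C hC
  haveI hTn : T.IsStrictlyGE n := (CochainComplex.isStrictlyGE_iff T n).2 fun j hj =>
    IsZero.of_mono (torsι L (C.X j)) (CochainComplex.isZero_of_isStrictlyGE C n j hj)
  haveI : CochainComplex.IsStrictlyGE (((EtCoh.pull g').mapHomologicalComplex (ComplexShape.up ℤ)).obj T) n :=
    (CochainComplex.isStrictlyGE_iff _ n).2 fun j hj =>
      (EtCoh.pull g').map_isZero (CochainComplex.isZero_of_isStrictlyGE T n j hj)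
  have hac : ∀ (j : ℤ) (p : ℕ), IsZero ((EtCoh.Rpush f (p + 1)).obj (T.X j)) := fun j p =>
    isZero_Rpush_of_divisible f (isLTorsion_torsPart L (C.X j)) (p + 1) fun m hm => by
      obtain ⟨k, hw, hS⟩ := exists_seq_torsPart L (I := C.X j) hm
      exact ⟨_, k, hw, hS, BCVertLib.isZero_Rpush_kernel_nsmul f (C.X j) hm.1 p⟩
  have hac' : ∀ (j : ℤ) (p : ℕ), IsZero ((EtCoh.Rpush f' (p + 1)).obj ((EtCoh.pull g').obj (T.X j))) := fun j p => by
    haveI : IsIso (EtBC.bcQ f g f' g' h.w (p + 1) (T.X j)) := hbc (T.X j) (isLTorsion_torsPart L (C.X j)) (p + 1)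
    haveI : (EtCoh.pull g).Additive := (EtCoh.pullPushAdj g).left_adjoint_additive
    exact ((EtCoh.pull g).map_isZero (hac j p)).of_iso (asIso (EtBC.bcQ f g f' g' h.w (p + 1) (T.X j))).symm
  let K := (HomotopyCategory.quotient _ (ComplexShape.up ℤ)).obj T
  let e : DerivedCategory.Qh.obj K ≅ E :=
    (DerivedCategory.quotientCompQhIso _).app T ≪≫ asIso (DerivedCategory.Q.map (torsComplexι L C)) ≪≫ eC
  obtain ⟨a', ha'⟩ := BCDLib.exists_adj f g f' g' h.w
  rw [BCDLib.isIso_bcMap_congr f g f' g' h.w adj a' e.symm]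
  haveI := PBCLib.isIso_unitR_of_acyclic f T n hac
  haveI := PBCLib.isIso_unitR_of_acyclic f' (((EtCoh.pull g').mapHomologicalComplex (ComplexShape.up ℤ)).obj T) n hac'
  let ψ := (NatTrans.mapHomologicalComplex (BCDLib.bc0N f g f' g' h.w) (ComplexShape.up ℤ)).app T
  haveI : ∀ j, IsIso (ψ.f j) := fun j => StrictLocLib.isIso_baseChange0_of_smooth f g f' g' h (T.X j)
  haveI : IsIso ψ := HomologicalComplex.Hom.isIso_of_components ψ
  haveI : IsIso (BCDLib.bc0H f g f' g' h.w K) :=
    inferInstanceAs (IsIso ((HomotopyCategory.quotient _ (ComplexShape.up ℤ)).map ψ))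
  haveI : IsIso ((BCDLib.unitR f').app ((BCDLib.pullH g').obj K)) :=
    inferInstanceAs (IsIso ((BCDLib.unitR f').app ((HomotopyCategory.quotient _ (ComplexShape.up ℤ)).obj
      (((EtCoh.pull g').mapHomologicalComplex (ComplexShape.up ℤ)).obj T))))
  haveI : IsIso (BCDLib.θ f g f' g' h.w K) := IsIso.comp_isIso
  rw [← isIso_comp_left_iff ((EtBC.pullD g).map ((BCDLib.unitR f).app K)), ha' K]
  infer_instance

/-- **Smooth base change for an `L`-torsion sheaf, derived form.** -/
theorem isIso_bcMap_single {X S X' S' : Scheme.{u}} (f : X ⟶ S) (g : S' ⟶ S) (f' : X' ⟶ S') (g' : X' ⟶ X)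
    (h : IsPullback g' f' f g) [QuasiCompact f] [QuasiSeparated f] [Smooth g] (hbc : BCLTors f g f' g' h.w L)
    [PreservesFiniteLimits (EtCoh.pull g)] [PreservesFiniteLimits (EtCoh.pull g')]
    [DCoh.HasRpushEt X f] [DCoh.HasRpushEt X' f'] [DCoh.HasRpushEt S' g]
    (adj : EtBC.pullD g ⊣ DCoh.RpushEt S' g) (F : EtCoh.Ab X) (hF : EtAcyc.IsLTorsion L F) :
    IsIso (EtBC.bcMap f g f' g' h.w adj (EtBC.single X F)) := by
  haveI : DerivedCategory.IsGE (EtBC.single X F) 0 :=
    inferInstanceAs (DerivedCategory.IsGE ((DerivedCategory.singleFunctor (EtCoh.Ab X) 0).obj F) 0)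
  refine isIso_bcMap_of_torsion f g f' g' h hbc adj _ 0 fun i => ?_
  rcases eq_or_ne i 0 with rfl | hi
  · exact CdFieldLib.isLTorsion_of_epi ((DerivedCategory.singleFunctorCompHomologyFunctorIso (EtCoh.Ab X) 0).inv.app F) hF
  · have hz : IsZero (DCoh.HDEt (EtBC.single X F) i) := by
      haveI : DerivedCategory.IsLE (EtBC.single X F) 0 :=
        inferInstanceAs (DerivedCategory.IsLE ((DerivedCategory.singleFunctor (EtCoh.Ab X) 0).obj F) 0)
      rcases lt_or_gt_of_ne hi with hi | hi
      · exact DerivedCategory.isZero_of_isGE _ 0 i hi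
      · exact DerivedCategory.isZero_of_isLE _ 0 i hi
    haveI : Mono (0 : DCoh.HDEt (EtBC.single X F) i ⟶ F) := ⟨fun a b _ => hz.eq_of_tgt a b⟩
    exact CdFieldLib.isLTorsion_of_mono (0 : DCoh.HDEt (EtBC.single X F) i ⟶ F) hF

end Derived

end Groth.Agent.SmoothBCLib
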