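import Groth.Agent.S12237
import Groth.Agent.S0427
import Groth.Agent.S7180
import Groth.Agent.ProEtLib2.IndEtaleWeakly
import Groth.Agent.ProEtSLib.GeomLift
import Groth.Agent.WLocalLib.WeakEtale
import Groth.Agent.WLocalLib.Strict
import Groth.Prelude.Def_Hens2
import Groth.Prelude.Def_Pi1

/-!
# The generic fibre of a strict localization of a normal integral scheme

If the function field of a normal integral scheme is separably closed, every strict localization meets the generic
point exactly once, without residue field extension.
-/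

set_option autoImplicit false
set_option linter.style.haveILetI false
set_option backward.isDefEq.respectTransparency false
set_option backward.isDefEq.respectTransparency.types false
set_option maxHeartbeats 2000000
set_option synthInstance.maxHeartbeats 400000

universe u

open CategoryTheory CategoryTheory.Limits AlgebraicGeometry IsLocalRing
open scoped TensorProduct

noncomputable section

namespace Groth.Agent.SmoothBCLib

/-- A domain weakly étale and local over a domain with separably closed fraction field keeps that field as its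
fibre over the zero ideal. -/
theorem bijective_includeLeft_of_weaklyEtale {O B K : Type u} [CommRing O] [IsLocalRing O] [IsDomain O]
    [CommRing B] [IsLocalRing B] [IsDomain B] [Algebra O B] [IsLocalHom (algebraMap O B)] [Algebra.WeaklyEtale O B]
    [Field K] [IsSepClosed K] [Algebra O K]
    (hinj : Function.Injective (algebraMap O K))
    (hfrac : ∀ c : K, ∃ a s : O, s ≠ 0 ∧ c * algebraMap O K s = algebraMap O K a) :
    Function.Bijective (algebraMap K (K ⊗[O] B)) := by
  haveI : Module.FaithfullyFlat O B := Module.FaithfullyFlat.of_flat_of_isLocalHom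
  have hB : Function.Injective (algebraMap O B) := FaithfulSMul.algebraMap_injective O B
  haveI : Nontrivial (K ⊗[O] B) := by
    let φ : O →+* FractionRing B := (algebraMap B (FractionRing B)).comp (algebraMap O B)
    have hφ : Function.Injective φ := (IsFractionRing.injective B (FractionRing B)).comp hB
    have hd : ∀ s : O, s ≠ 0 → IsUnit (φ s) := fun s hs =>
      isUnit_iff_ne_zero.2 fun h => hs (hφ (h.trans (map_zero φ).symm))
    haveI : IsLocalization (nonZeroDivisors O) K := by
      refine ⟨⟨fun s => isUnit_iff_ne_zero.2 fun h => nonZeroDivisors.coe_ne_zero s (hinj (h.trans (map_zero _).symm)),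
        fun c => ?_, fun h => ⟨1, by rw [hinj h]⟩⟩⟩
      obtain ⟨a, s, hs, h⟩ := hfrac c
      exact ⟨(a, ⟨s, mem_nonZeroDivisors_of_ne_zero hs⟩), h⟩
    let κ : K →+* FractionRing B := IsLocalization.lift (M := nonZeroDivisors O) (g := φ)
      fun s => hd s (nonZeroDivisors.coe_ne_zero s)
    let κ' : K →ₐ[O] FractionRing B := { κ with
      commutes' := fun a => (IsLocalization.lift_eq _ a).trans (IsScalarTower.algebraMap_apply O B (FractionRing B) a).symm }
    let β : B →ₐ[O] FractionRing B := IsScalarTower.toAlgHom O B (FractionRing B)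
    exact RingHom.domain_nontrivial (Algebra.TensorProduct.lift κ' β fun _ _ => Commute.all _ _).toRingHom
  have hden : ∀ z : K ⊗[O] B, ∃ (s : O) (b : B), s ≠ 0 ∧ z * algebraMap O (K ⊗[O] B) s = 1 ⊗ₜ b := by
    intro z
    induction z using TensorProduct.induction_on with
    | zero => exact ⟨1, 0, one_ne_zero, by simp⟩
    | tmul c b =>
      obtain ⟨a, s, hs, h⟩ := hfrac c
      refine ⟨s, a • b, hs, ?_⟩
      rw [Algebra.TensorProduct.algebraMap_apply, Algebra.TensorProduct.tmul_mul_tmul, mul_one, h,
        TensorProduct.tmul_smul, TensorProduct.smul_tmul', Algebra.algebraMap_eq_smul_one]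
    | add x y hx hy =>
      obtain ⟨s, b, hs, h⟩ := hx
      obtain ⟨t, c, ht, h'⟩ := hy
      refine ⟨s * t, t • b + s • c, mul_ne_zero hs ht, ?_⟩
      rw [TensorProduct.tmul_add, TensorProduct.tmul_smul, TensorProduct.tmul_smul, ← h, ← h', Algebra.smul_def,
        Algebra.smul_def, map_mul]
      ring
  have hprime : ∀ P : Ideal (K ⊗[O] B), P.IsPrime → P = ⊥ := fun P _ => by
    let q : PrimeSpectrum B := ⟨P.comap Algebra.TensorProduct.includeRight.toRingHom, Ideal.comap_isPrime _ P⟩
    have hO : ∀ r : O, algebraMap O B r ∈ q.asIdeal → r = 0 := fun r hr => by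
      by_contra hr0
      have hu : IsUnit (algebraMap O K r) := isUnit_iff_ne_zero.2 fun h => hr0 (hinj (h.trans (map_zero _).symm))
      refine (inferInstance : P.IsPrime).ne_top (Ideal.eq_top_of_isUnit_mem P hr ?_)
      show IsUnit (Algebra.TensorProduct.includeRight (R := O) (A := K) (algebraMap O B r))
      rw [AlgHom.commutes, IsScalarTower.algebraMap_apply O K (K ⊗[O] B)]
      exact hu.map _
    let q₀ : PrimeSpectrum B := ⟨⊥, Ideal.isPrime_bot⟩
    have heq : q₀.asIdeal.comap (algebraMap O B) = q.asIdeal.comap (algebraMap O B) := by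
      ext r
      simp only [Ideal.mem_comap]
      refine ⟨fun h => ?_, fun h => ?_⟩
      · rw [show algebraMap O B r = 0 from h]; exact zero_mem _
      · rw [hO r h, map_zero]; exact zero_mem _
    have hq : q₀ = q := WLocalLib.incomparable_of_weaklyEtale (A := O) q₀ q heq bot_le
    rw [eq_bot_iff]
    intro z hz
    obtain ⟨s, b, hs, h⟩ := hden z
    have hb : b ∈ q.asIdeal := by
      show Algebra.TensorProduct.includeRight (R := O) (A := K) b ∈ P
      rw [Algebra.TensorProduct.includeRight_apply, ← h]
      exact P.mul_mem_right _ hz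
    rw [← hq] at hb
    rw [show b = 0 from hb, TensorProduct.tmul_zero, IsScalarTower.algebraMap_apply O K (K ⊗[O] B)] at h
    have hu : IsUnit (algebraMap K (K ⊗[O] B) (algebraMap O K s)) :=
      (isUnit_iff_ne_zero.2 fun h0 => hs (hinj (h0.trans (map_zero _).symm))).map _
    exact (Submodule.mem_bot _).2 (hu.mul_left_eq_zero.1 h)
  haveI : IsLocalRing (K ⊗[O] B) := by
    obtain ⟨m, hm⟩ := Ideal.exists_maximal (K ⊗[O] B)
    exact IsLocalRing.of_unique_max_ideal
      ⟨m, hm, fun m' hm' => (hprime m' hm'.isPrime).trans (hprime m hm.isPrime).symm⟩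
  haveI : IsLocalHom (algebraMap K (K ⊗[O] B)) := ⟨fun c hc => isUnit_iff_ne_zero.2 fun h0 => by
    rw [h0, map_zero] at hc
    exact not_isUnit_zero hc⟩
  haveI : IsSepClosed (ResidueField K) := by
    let e : K ≃+* ResidueField K := RingEquiv.ofBijective (residue K)
      ⟨(residue K).injective, Ideal.Quotient.mk_surjective⟩
    exact WLocalLib.isSepClosed_of_ringEquiv e
  exact S0427.result

/-- The generic fibre of a strict localization of a normal integral scheme with separably closed function field is a
rational point. -/
theorem isIso_snd_generic {Y : Scheme.{u}} [IsIntegral Y] (hY : Pi1.IsNormalScheme Y)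
    [IsSepClosed (Y.residueField (genericPoint Y))] (y : Y) (RY : Type u) [CommRing RY] [IsLocalRing RY]
    [Algebra (Y.presheaf.stalk y) RY] [IsLocalHom (algebraMap (Y.presheaf.stalk y) RY)]
    [Hensel.IsStrictHenselization (Y.presheaf.stalk y) RY] :
    IsIso (pullback.snd (Hens2.specOf Y y RY) (Y.fromSpecResidueField (genericPoint Y))) := by
  haveI := ProEtSLib.weaklyEtale_specOf Y y RY
  haveI : IsDomain RY := by
    have h := (S7180.result (Hens2.specOf Y y RY) hY (closedPoint RY)).1
    haveI := h
    exact MulEquiv.isDomain _ (stalkClosedPointIso (CommRingCat.of RY)).commRingCatIsoToRingEquiv.symm.toMulEquiv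
  haveI := ProEtLib2.weaklyEtale_of_isIndEtale (S12237.result (Y.presheaf.stalk y) RY)
  let η := genericPoint Y
  let hy : η ⤳ y := (genericPoint_spec Y).specializes trivial
  let φ : Y.presheaf.stalk y ⟶ Y.residueField η := Y.presheaf.stalkSpecializes hy ≫ Y.residue η
  letI : Algebra (Y.presheaf.stalk y) (Y.residueField η) := φ.hom.toAlgebra
  have hres : Function.Bijective (Y.residue η) :=
    ⟨RingHom.injective (Y.residue η).hom (R := Y.functionField), Y.residue_surjective η⟩
  have hb := bijective_includeLeft_of_weaklyEtale (O := Y.presheaf.stalk y) (B := RY) (K := Y.residueField η)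
    (hres.1.comp (IsFractionRing.injective (Y.presheaf.stalk y) Y.functionField)) fun c => by
      obtain ⟨z, rfl⟩ := hres.2 c
      obtain ⟨⟨a, s⟩, h⟩ := IsLocalization.surj (nonZeroDivisors (Y.presheaf.stalk y)) (S := Y.functionField) z
      exact ⟨a, s, nonZeroDivisors.coe_ne_zero s, ((Y.residue η).hom.map_mul _ _).symm.trans (congrArg _ h)⟩
  have hξ : Spec.map (CommRingCat.ofHom (algebraMap (Y.presheaf.stalk y) (Y.residueField η))) ≫ Y.fromSpecStalk y =
      Y.fromSpecResidueField η := by
    show Spec.map (Y.presheaf.stalkSpecializes hy ≫ Y.residue η) ≫ _ = _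
    rw [Spec.map_comp, Category.assoc, Scheme.SpecMap_stalkSpecializes_fromSpecStalk]
    rfl
  let a := Spec.map (CommRingCat.ofHom (algebraMap (Y.presheaf.stalk y) (Y.residueField η)))
  let b := Spec.map (CommRingCat.ofHom (algebraMap (Y.presheaf.stalk y) RY))
  haveI : IsIso (pullback.fst a b) := by
    haveI : IsIso (Spec.map (CommRingCat.ofHom (algebraMap (Y.residueField η)
        ((Y.residueField η) ⊗[Y.presheaf.stalk y] RY)))) :=
      haveI : IsIso (CommRingCat.ofHom (algebraMap (Y.residueField η)
        ((Y.residueField η) ⊗[Y.presheaf.stalk y] RY))) := (ConcreteCategory.isIso_iff_bijective _).2 hb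
      inferInstance
    rw [show pullback.fst a b = (pullbackSpecIso _ _ RY).hom ≫ Spec.map (CommRingCat.ofHom (algebraMap (Y.residueField η)
        ((Y.residueField η) ⊗[Y.presheaf.stalk y] RY))) from by
      rw [← pullbackSpecIso_inv_fst', Iso.hom_inv_id_assoc]]
    infer_instance
  haveI : IsIso (pullback.fst (Y.fromSpecResidueField η) (Hens2.specOf Y y RY)) := by
    let P : IsPullback (pullback.fst a b) (pullback.snd a b) (a ≫ Y.fromSpecStalk y) (b ≫ Y.fromSpecStalk y) :=
      IsPullback.of_isLimit (pullbackIsPullbackOfCompMono a b (Y.fromSpecStalk y))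
    rw [hξ] at P
    rw [show pullback.fst (Y.fromSpecResidueField η) (Hens2.specOf Y y RY) = P.isoPullback.inv ≫ pullback.fst a b from
      P.isoPullback_inv_fst.symm]
    infer_instance
  rw [← pullbackSymmetry_hom_comp_fst]
  infer_instance

end Groth.Agent.SmoothBCLib
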