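import Groth.Agent.SmoothBCLib.LocAcycFibre
import Groth.Agent.SmoothBCLib.GenericFibre

/-!
# The generic fibre of a locally acyclic morphism to a normal scheme
-/

set_option autoImplicit false
set_option linter.style.haveILetI false
set_option backward.isDefEq.respectTransparency false
set_option backward.isDefEq.respectTransparency.types false
set_option maxHeartbeats 2000000
set_option synthInstance.maxHeartbeats 400000

universe u

open CategoryTheory CategoryTheory.Limits AlgebraicGeometry Opposite IsLocalRing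

noncomputable section

namespace Groth.Agent.SmoothBCLib

attribute [local instance] Groth.Agent.S0101.result

/-- A point algebraic over a point of the base, as a geometric point. -/
theorem exists_geomPt_of_algebraic {Z Y : Scheme.{u}} {y : Y} {K : Type u} [Field K] [Algebra (Y.residueField y) K]
    [Algebra.IsAlgebraic (Y.residueField y) K] (ζ : Spec (CommRingCat.of K) ⟶ Z) (τ : Z ⟶ Y)
    (hζ : ζ ≫ τ = EtAcyc.geomPt Y y K) :
    ∃ (z : Z) (_ : Algebra (Z.residueField z) K) (_ : Algebra.IsAlgebraic (Z.residueField z) K),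
      EtAcyc.geomPt Z z K = ζ := by
  let E := Scheme.SpecToEquivOfField K Z
  obtain ⟨⟨z, φ⟩, rfl⟩ : ∃ p, E.symm p = ζ := ⟨E ζ, E.symm_apply_apply ζ⟩
  letI al : Algebra (Z.residueField z) K := φ.hom.toAlgebra
  refine ⟨z, al, ?_, rfl⟩
  have h1 : Spec.map (τ.residueFieldMap z ≫ φ) ≫ Y.fromSpecResidueField (τ z) =
      Spec.map (CommRingCat.ofHom (algebraMap (Y.residueField y) K)) ≫ Y.fromSpecResidueField y := by
    refine Eq.trans ?_ hζ
    rw [Spec.map_comp, Category.assoc, Scheme.Hom.SpecMap_residueFieldMap_fromSpecResidueField]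
    exact (Category.assoc _ _ _).symm
  have h2 := (Scheme.SpecToEquivOfField K Y).symm.injective
    (a₁ := ⟨τ z, τ.residueFieldMap z ≫ φ⟩) (a₂ := ⟨y, CommRingCat.ofHom (algebraMap (Y.residueField y) K)⟩) h1
  have hi : (τ.residueFieldMap z ≫ φ).hom.IsIntegral := by
    have := congrArg (fun p : Σ x : Y, Y.residueField x ⟶ CommRingCat.of K => p.2.hom.IsIntegral) h2
    exact cast this.symm fun c => (Algebra.IsAlgebraic.isAlgebraic (R := Y.residueField y) c).isIntegral
  haveI : Algebra.IsIntegral (Z.residueField z) K :=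
    ⟨RingHom.IsIntegral.tower_top (τ.residueFieldMap z).hom φ.hom hi⟩
  infer_instance

/-- Cohomology of a locally constant torsion sheaf and the generic fibre. -/
theorem bijective_Hpull_generic {X Y : Scheme.{u}} [IsIntegral Y] (hY : Pi1.IsNormalScheme Y)
    [IsSepClosed (Y.residueField (genericPoint Y))] (f : X ⟶ Y) {L : Set ℕ} {n : ℕ}
    (hf : EtAcyc.IsLocAcyclicN f L n) (F : EtCoh.Ab X) (hF : EtAcyc.IsLTorsion L F)
    (hlc : EtRest.IsLocallyConstant F) :
    (∀ q : ℕ, q ≤ n →
      Function.Bijective (EtCore.Hpull (pullback.fst f (Y.fromSpecResidueField (genericPoint Y))) F q)) ∧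
    Function.Injective (EtCore.Hpull (pullback.fst f (Y.fromSpecResidueField (genericPoint Y))) F (n + 1)) := by
  let ξη := Y.fromSpecResidueField (genericPoint Y)
  let g := pullback.fst f ξη
  haveI : QuasiCompact ξη := ⟨fun U _ _ => (Set.toFinite _).isCompact⟩
  haveI : QuasiSeparated ξη := inferInstance
  haveI : QuasiCompact g := inferInstance
  haveI : QuasiSeparated g := inferInstance
  have key : ∀ (Ω : Type u) [Field Ω] [IsSepClosed Ω] (ξ : Spec (CommRingCat.of Ω) ⟶ X),
      Function.Bijective ((EtCoh.stalk ξ).map ((EtCoh.pullPushAdj g).unit.app F)) ∧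
      ∀ q : ℕ, 1 ≤ q → q ≤ n → IsZero ((EtCoh.stalk ξ).obj ((EtCoh.Rpush g q).obj ((EtCoh.pull g).obj F))) := by
    intro Ω _ _ ξ
    let x := ξ default
    obtain ⟨R, _, _, _, _, hR⟩ := Henselization.exists_strictHenselization (R := X.presheaf.stalk x)
    obtain ⟨RY, _, _, _, _, hRY⟩ := Henselization.exists_strictHenselization (R := Y.presheaf.stalk (f x))
    haveI := hR
    haveI := hRY
    haveI : IsSepClosed (ResidueField R) :=
      (Hensel.IsStrictHenselization.isSepClosure (R := X.presheaf.stalk x) (S := R)).sep_closed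
    obtain ⟨ψ, hl, hψ, hspec⟩ := exists_strictLoc_hom f x RY R
    haveI := hl
    let τ := Hens2.specOf Y (f x) RY
    haveI := isIso_snd_generic hY (f x) RY
    let ζ := inv (pullback.snd τ ξη) ≫ pullback.fst τ ξη
    have P : IsPullback ζ (𝟙 _) τ ξη :=
      (IsPullback.of_hasPullback τ ξη).of_iso (asIso (pullback.snd τ ξη)) (Iso.refl _) (Iso.refl _) (Iso.refl _)
        (by simp [ζ]) (by simp) (by simp) (by simp)
    obtain ⟨z, _, _, hz⟩ := exists_geomPt_of_algebraic (K := Y.residueField (genericPoint Y)) ζ τ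
      ((P.w.trans (Category.id_comp _)).trans (by
        show _ = Spec.map (𝟙 (Y.residueField (genericPoint Y))) ≫ _
        rw [Spec.map_id, Category.id_comp]))
    let ε := Hens2.specOf X x R
    have P₁ : IsPullback (pullback.fst (Spec.map (CommRingCat.ofHom ψ)) ζ)
        (pullback.snd (Spec.map (CommRingCat.ofHom ψ)) ζ ≫ 𝟙 _) (Spec.map (CommRingCat.ofHom ψ) ≫ τ) ξη :=
      (IsPullback.of_hasPullback _ ζ).paste_vert P
    rw [show Spec.map (CommRingCat.ofHom ψ) ≫ τ = ε ≫ f from hspec.symm] at P₁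
    have P₂ : IsPullback (pullback.snd g ε) (pullback.fst g ε ≫ pullback.snd f ξη) (ε ≫ f) ξη :=
      (IsPullback.of_hasPullback g ε).flip.paste_vert (IsPullback.of_hasPullback f ξη)
    have hb := bijective_Hpull_locFibre hf F hlc hF x RY R ψ hψ z (Y.residueField (genericPoint Y)) g
      (P₂.isoIsPullback _ _ P₁ ≪≫ pullback.congrHom rfl hz.symm)
      ((Category.assoc _ _ _).trans ((congrArg (_ ≫ ·) ((pullback.lift_fst _ _ _).trans (Category.comp_id _))).trans
        (IsPullback.isoIsPullback_hom_fst _ _ P₂ P₁)))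
    exact stalks_of_bijective_Hpull g F x R hb.1 ξ rfl
  have hu : IsIso ((EtCoh.pullPushAdj g).unit.app F) :=
    FLCLib.isIso_of_stalk _ fun Ω _ _ ξ => (ConcreteCategory.isIso_iff_bijective _).2 (key Ω ξ).1
  have hR : ∀ q, 1 ≤ q → q ≤ n → IsZero ((EtCoh.Rpush g q).obj ((EtCoh.pull g).obj F)) := fun q hq hqn =>
    (EtPtsLib.isZero_iff_ab _).2 fun Ω _ _ ξ => (key Ω ξ).2 q hq hqn
  exact ⟨fun q hq => (AcycCompLib.bijective_Hpull_of_unit g q F n hu hR).1 hq,
    (AcycCompLib.bijective_Hpull_of_unit g (n + 1) F n hu hR).2 le_rfl⟩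

end Groth.Agent.SmoothBCLib
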