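import Groth.Agent.AICCover.Ring
import Groth.Agent.EtSplitLib.Closed
import Groth.Agent.ZarEtLib.Basic

/-!
# Schemes all of whose local rings are algebraically closed fields

Every point of such a scheme is closed and its étale maps split Zariski locally.  Every quasi-compact
quasi-separated scheme receives a surjection from an affine one.
-/

set_option autoImplicit false
set_option linter.style.haveILetI false
set_option backward.isDefEq.respectTransparency false
set_option backward.isDefEq.respectTransparency.types false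

universe u

open CategoryTheory CategoryTheory.Limits AlgebraicGeometry Opposite TopologicalSpace

noncomputable section

namespace Groth.Agent.SmoothBCLib

/-- All local rings are algebraically closed fields. -/
structure AlgFields (T : Scheme.{u}) : Prop where
  monicRoot : ∀ t : T, AICCover.MonicRoot (T.presheaf.stalk t)
  isField : ∀ t : T, IsField (T.presheaf.stalk t)

namespace AlgFields

variable {T : Scheme.{u}} (hT : AlgFields T)

include hT in
theorem isAlgClosed_residueField (t : T) : IsAlgClosed (T.residueField t) := by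
  refine AICCover.MonicRoot.isAlgClosed fun p hp hd => ?_
  have hs : Function.Surjective (IsLocalRing.residue (T.presheaf.stalk t)) := Ideal.Quotient.mk_surjective
  obtain ⟨q, hq, -, hqm⟩ := Polynomial.lifts_and_natDegree_eq_and_monic
    ((Polynomial.lifts_iff_coeff_lifts p).2 fun n => hs _) hp
  obtain ⟨r, hr⟩ := hT.monicRoot t q hqm (by
    have := Polynomial.natDegree_map_le (f := IsLocalRing.residue (T.presheaf.stalk t)) (p := q)
    rw [hq] at this
    exact lt_of_lt_of_le hd this)
  exact ⟨IsLocalRing.residue _ r, hq ▸ hr.map⟩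

include hT in
theorem isStrictlyHenselian_stalk (t : T) : EtCoh.IsStrictlyHenselianLocalRing (T.presheaf.stalk t) := by
  refine ⟨EtSplitLib.henselianLocalRing_of_isNilpotent fun a ha => ?_, ?_⟩
  · rw [(IsLocalRing.isField_iff_maximalIdeal_eq.1 (hT.isField t))] at ha
    rw [Submodule.mem_bot] at ha
    subst ha
    exact IsNilpotent.zero
  · haveI : IsAlgClosed (IsLocalRing.ResidueField (T.presheaf.stalk t)) := hT.isAlgClosed_residueField t
    infer_instance

include hT in
theorem isClosed_singleton (t : T) : IsClosed ({t} : Set T) := by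
  refine isClosed_of_closure_subset fun s hs => ?_
  have hsp : t ⤳ s := specializes_iff_mem_closure.2 hs
  have h : t ∈ Set.range (T.fromSpecStalk s) := by
    rw [Scheme.range_fromSpecStalk]
    exact hsp
  obtain ⟨q, rfl⟩ := h
  have hq : q = IsLocalRing.closedPoint (T.presheaf.stalk s) := by
    apply PrimeSpectrum.ext
    letI := (hT.isField s).toField
    exact (Ideal.eq_bot_of_prime q.asIdeal).trans (IsLocalRing.isField_iff_maximalIdeal_eq.1 (hT.isField s)).symm
  rw [hq, Scheme.fromSpecStalk_closedPoint]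
  rfl

include hT in
theorem of_openImmersion {V : Scheme.{u}} (j : V ⟶ T) [IsOpenImmersion j] : AlgFields V := by
  refine ⟨fun v p hp hd => ?_, fun v => ?_⟩
  · let e := (asIso (j.stalkMap v)).commRingCatIsoToRingEquiv
    obtain ⟨r, hr⟩ := hT.monicRoot (j v) (p.map e.symm.toRingHom) (hp.map _)
      (by rwa [hp.natDegree_map])
    refine ⟨e r, ?_⟩
    have := hr.map (f := e.toRingHom)
    rwa [Polynomial.map_map, show e.toRingHom.comp e.symm.toRingHom = RingHom.id _ from
      RingHom.ext fun x => e.apply_symm_apply x, Polynomial.map_id] at this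
  · exact MulEquiv.isField (hT.isField (j v)) (asIso (j.stalkMap v)).commRingCatIsoToRingEquiv.symm.toMulEquiv

include hT in
/-- Schemes étale over one with this property have it. -/
theorem of_etale {V : Scheme.{u}} (f : V ⟶ T) [Etale f] : AlgFields V := by
  refine ⟨fun v => ?_, fun v => ?_⟩
  all_goals
    obtain ⟨O, hO, s, hs, hsv⟩ := ZarEtLib.exists_local_section hT.isStrictlyHenselian_stalk f v
    haveI : Etale (s ≫ f) := hs ▸ inferInstance
    haveI : Etale s := Etale.of_comp s f
    haveI : Mono s := mono_of_mono_fac hs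
    haveI : IsOpenImmersion s := IsOpenImmersion.of_flat_of_mono s
    rw [← hsv]
    let e := (asIso (s.stalkMap ⟨f v, hO⟩)).commRingCatIsoToRingEquiv
  · intro p hp hd
    obtain ⟨r, hr⟩ := (hT.of_openImmersion O.ι).monicRoot ⟨f v, hO⟩ (p.map e.toRingHom) (hp.map _)
      (by rwa [hp.natDegree_map])
    refine ⟨e.symm r, ?_⟩
    have := hr.map (f := e.symm.toRingHom)
    rwa [Polynomial.map_map, show e.symm.toRingHom.comp e.toRingHom = RingHom.id _ from
      RingHom.ext fun x => e.symm_apply_apply x, Polynomial.map_id] at this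
  · exact MulEquiv.isField ((hT.of_openImmersion O.ι).isField ⟨f v, hO⟩) e.toMulEquiv

theorem of_cover {ι : Type*} {V : ι → Scheme.{u}} (T : Scheme.{u}) (j : ∀ i, V i ⟶ T)
    [∀ i, IsOpenImmersion (j i)] (hcov : ∀ t : T, ∃ i v, (j i) v = t) (h : ∀ i, AlgFields (V i)) :
    AlgFields T := by
  refine ⟨fun t p hp hd => ?_, fun t => ?_⟩
  all_goals obtain ⟨i, v, rfl⟩ := hcov t
  · let e := (asIso ((j i).stalkMap v)).commRingCatIsoToRingEquiv
    obtain ⟨r, hr⟩ := (h i).monicRoot v (p.map e.toRingHom) (hp.map _)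
      (by rwa [hp.natDegree_map])
    refine ⟨e.symm r, ?_⟩
    have := hr.map (f := e.symm.toRingHom)
    rwa [Polynomial.map_map, show e.symm.toRingHom.comp e.toRingHom = RingHom.id _ from
      RingHom.ext fun x => e.symm_apply_apply x, Polynomial.map_id] at this
  · exact MulEquiv.isField ((h i).isField v) (asIso ((j i).stalkMap v)).commRingCatIsoToRingEquiv.toMulEquiv

end AlgFields

section Pi

variable {ι : Type u} (K : ι → Type u) [∀ i, Field (K i)]

theorem exists_mul_mul_eq (a : ∀ i, K i) : ∃ b, a * (a * b) = a :=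
  ⟨fun i => (a i)⁻¹, funext fun i => by
    by_cases h : a i = 0
    · simp [h]
    · simp [h]⟩

theorem surjective_localization (p : Ideal (∀ i, K i)) [p.IsPrime] :
    Function.Surjective (algebraMap (∀ i, K i) (Localization.AtPrime p)) := by
  intro z
  obtain ⟨a, ⟨s, hs⟩, rfl⟩ := IsLocalization.exists_mk'_eq p.primeCompl z
  obtain ⟨b, hb⟩ := exists_mul_mul_eq K s
  refine ⟨a * b, (IsLocalization.eq_mk'_iff_mul_eq (M := p.primeCompl)).2 ?_⟩
  rw [← map_mul]
  refine (IsLocalization.eq_iff_exists p.primeCompl _).2 ⟨⟨s, hs⟩, ?_⟩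
  show s * (a * b * s) = s * a
  linear_combination a * hb

theorem isField_localization (p : Ideal (∀ i, K i)) [p.IsPrime] : IsField (Localization.AtPrime p) := by
  rw [IsLocalRing.isField_iff_maximalIdeal_eq, eq_bot_iff]
  intro z hz
  obtain ⟨a, rfl⟩ := surjective_localization K p z
  rw [IsLocalization.AtPrime.to_map_mem_maximal_iff _ p] at hz
  obtain ⟨b, hb⟩ := exists_mul_mul_eq K a
  have hn : 1 - a * b ∈ p.primeCompl := fun h => by
    refine ‹p.IsPrime›.ne_top ((Ideal.eq_top_iff_one p).2 ?_)
    simpa using p.add_mem h (p.mul_mem_right b hz)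
  rw [Submodule.mem_bot]
  refine (IsLocalization.map_eq_zero_iff p.primeCompl _ _).2 ⟨⟨_, hn⟩, ?_⟩
  show (1 - a * b) * a = 0
  linear_combination -hb

theorem monicRoot_pi [∀ i, IsAlgClosed (K i)] : AICCover.MonicRoot (∀ i, K i) := fun p hp hd => by
  have h : ∀ i, ∃ r, (p.map (Pi.evalRingHom K i)).IsRoot r := fun i =>
    IsAlgClosed.exists_root _ (Polynomial.degree_ne_of_natDegree_ne
      (by rw [hp.natDegree_map]; exact hd.ne'))
  choose r hr using h
  exact ⟨r, funext fun i => by
    have := hr i
    rw [Polynomial.IsRoot, Polynomial.eval_map] at this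
    rw [Pi.zero_apply, ← this]
    exact Polynomial.hom_eval₂ p (RingHom.id _) (Pi.evalRingHom K i) r⟩

theorem algFields_spec_pi [∀ i, IsAlgClosed (K i)] : AlgFields (Spec (CommRingCat.of (∀ i, K i))) := by
  refine ⟨fun t p hp hd => ?_, fun t => ?_⟩
  · haveI := t.asIdeal
    let e := (StructureSheaf.stalkIso (∀ i, K i) t).symm.toRingEquiv
    obtain ⟨r, hr⟩ := (AICCover.MonicRoot.of_isLocalization t.asIdeal.primeCompl (monicRoot_pi K))
      (p.map e.toRingHom) (hp.map _) (by rwa [hp.natDegree_map])
    refine ⟨e.symm r, ?_⟩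
    have := hr.map (f := e.symm.toRingHom)
    rwa [Polynomial.map_map, show e.symm.toRingHom.comp e.toRingHom = RingHom.id _ from
      RingHom.ext fun x => e.symm_apply_apply x, Polynomial.map_id] at this
  · exact MulEquiv.isField (isField_localization K t.asIdeal)
      (StructureSheaf.stalkIso (∀ i, K i) t).symm.toRingEquiv.toMulEquiv

end Pi

/-- A quasi-compact quasi-separated scheme receives a surjection from an affine scheme all of whose local rings
are algebraically closed fields. -/
theorem exists_algFields_cover (X : Scheme.{u}) [CompactSpace X] :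
    ∃ (T : Scheme.{u}) (p : T ⟶ X), AlgFields T ∧ Surjective p ∧ IsAffine T := by
  let 𝒰 := X.affineCover.finiteSubcover
  let I := Σ i : 𝒰.I₀, ↥(𝒰.X i)
  let K : ∀ i : 𝒰.I₀, ↥(𝒰.X i) → Type u := fun i x => AlgebraicClosure ((𝒰.X i).residueField x)
  let P : 𝒰.I₀ → Scheme.{u} := fun i => Spec (CommRingCat.of (∀ x, K i x))
  haveI : ∀ i, IsAffine (𝒰.X i) := fun i => inferInstanceAs (IsAffine (X.affineCover.X _))
  let m : ∀ i, Γ(𝒰.X i, ⊤) ⟶ CommRingCat.of (∀ x, K i x) := fun i =>
    CommRingCat.ofHom (RingHom.pi fun x =>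
      (algebraMap ((𝒰.X i).residueField x) (K i x)).comp ((𝒰.X i).evaluation ⊤ x trivial).hom)
  let q : ∀ i, P i ⟶ 𝒰.X i := fun i => Spec.map (m i) ≫ (𝒰.X i).isoSpec.inv
  haveI : Finite 𝒰.I₀ := inferInstance
  refine ⟨∐ P, Sigma.desc fun i => q i ≫ 𝒰.f i, AlgFields.of_cover _ (fun i => Sigma.ι P i)
    (fun t => (sigmaOpenCover P).exists_eq t) (fun i => algFields_spec_pi (K i)), ⟨fun x => ?_⟩, inferInstance⟩
  obtain ⟨i, y, hy⟩ := 𝒰.exists_eq x
  let e : Spec (CommRingCat.of (K i y)) ⟶ P i := Spec.map (CommRingCat.ofHom (Pi.evalRingHom (K i) y))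
  refine ⟨(Sigma.ι P i) (e default), ?_⟩
  rw [← Scheme.Hom.comp_apply, Sigma.ι_desc, Scheme.Hom.comp_apply]
  have he : e ≫ q i = Spec.map (CommRingCat.ofHom (algebraMap ((𝒰.X i).residueField y) (K i y))) ≫
      (𝒰.X i).fromSpecResidueField y := by
    rw [← cancel_mono (𝒰.X i).isoSpec.hom]
    simp only [q, e, Category.assoc, Category.comp_id, Scheme.fromSpecResidueField,
      Scheme.isoSpec_hom, Scheme.isoSpec_inv_toSpecΓ, Scheme.fromSpecStalk_toSpecΓ, Category.comp_id, ← Spec.map_comp]
    rfl
  rw [← Scheme.Hom.comp_apply e (q i), he, Scheme.Hom.comp_apply]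
  erw [Scheme.fromSpecResidueField_apply]
  rw [hy]

end Groth.Agent.SmoothBCLib
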