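import Groth.Agent.SmoothBCLib.ViaComp
import Groth.Agent.SmoothBCLib.Limit
import Groth.Agent.S0646

/-!
# The comparison on cohomology passes to limits
-/

set_option autoImplicit false
set_option linter.style.haveILetI false
set_option backward.isDefEq.respectTransparency false
set_option backward.isDefEq.respectTransparency.types false
set_option maxHeartbeats 2000000

universe u

open CategoryTheory CategoryTheory.Limits AlgebraicGeometry Opposite

noncomputable section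

namespace Groth.Agent.SmoothBCLib

attribute [local instance] Groth.Agent.S0101.result

variable {ι : Type u} [Preorder ι] [IsDirected ι (· ≤ ·)]

/-- The comparison on classes from the stages, abstractly. -/
theorem comp_limit_core {P D : ιᵒᵖ ⥤ Scheme.{u}} (pr : P ⟶ D) {Z' Z : Scheme.{u}} (v : ∀ i, Z' ⟶ P.obj (op i))
    (u : ∀ i, Z ⟶ D.obj (op i)) (prC : Z' ⟶ Z) (hw : ∀ i, v i ≫ pr.app (op i) = prC ≫ u i)
    (hu : ∀ ⦃i j : ι⦄ (h : i ≤ j), u j ≫ D.map (homOfLE h).op = u i)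
    (hv : ∀ ⦃i j : ι⦄ (h : i ≤ j), v j ≫ P.map (homOfLE h).op = v i)
    {L : Set ℕ} {n : ℕ} (h : ∀ i, EtAcyc.CompN (pr.app i) L n) (i₀ : ι) (F₀ : EtCoh.Ab (D.obj (op i₀)))
    (hF : EtAcyc.IsLTorsion L F₀)
    (hD1 : ∀ q (η : EtCoh.H Z ((EtCoh.pull (u i₀)).obj F₀) q), ∃ (j : ι) (hj : i₀ ≤ j) (ηj : _),
      EtCore.HpullVia (u j) (D.map (homOfLE hj).op) (u i₀) (hu hj) F₀ q ηj = η)
    (hP1 : ∀ q (ξ : EtCoh.H Z' ((EtCoh.pull (v i₀)).obj ((EtCoh.pull (pr.app (op i₀))).obj F₀)) q),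
      ∃ (j : ι) (hj : i₀ ≤ j) (ξj : _), EtCore.HpullVia (v j) (P.map (homOfLE hj).op) (v i₀) (hv hj)
        ((EtCoh.pull (pr.app (op i₀))).obj F₀) q ξj = ξ)
    (hP2 : ∀ q (j : ι) (hj : i₀ ≤ j) (ξj : EtCoh.H (P.obj (op j))
        ((EtCoh.pull (P.map (homOfLE hj).op)).obj ((EtCoh.pull (pr.app (op i₀))).obj F₀)) q),
      EtCore.HpullVia (v j) (P.map (homOfLE hj).op) (v i₀) (hv hj) ((EtCoh.pull (pr.app (op i₀))).obj F₀) q ξj = 0 →
        ∃ (k : ι) (hk : j ≤ k), EtCore.Hpull (P.map (homOfLE hk).op) _ q ξj = 0) :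
    (∀ q ≤ n, Function.Bijective (EtCore.Hpull prC ((EtCoh.pull (u i₀)).obj F₀) q)) ∧
      Function.Injective (EtCore.Hpull prC ((EtCoh.pull (u i₀)).obj F₀) (n + 1)) := by
  let u₀ := u i₀
  let pr₀ := pr.app (op i₀)
  let M := v i₀ ≫ pr₀
  have hM : prC ≫ u₀ = M := (hw i₀).symm
  have hsqP : ∀ {i j : ιᵒᵖ} (a : i ⟶ j), P.map a ≫ pr.app j = pr.app i ≫ D.map a := fun a => pr.naturality a
  have hres : ∀ q ≤ n + 1, ∀ (j : ι) (hj : i₀ ≤ j),
      (q ≤ n → Function.Bijective (EtCore.HpullVia (pr.app (op j)) (D.map (homOfLE hj).op)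
        (P.map (homOfLE hj).op ≫ pr₀) (hsqP _).symm F₀ q)) ∧
      Function.Injective (EtCore.HpullVia (pr.app (op j)) (D.map (homOfLE hj).op)
        (P.map (homOfLE hj).op ≫ pr₀) (hsqP _).symm F₀ q) := fun q hq j hj => by
    have H := h (op j) _ (AcycCompLib.isLTorsion_pull (D.map (homOfLE hj).op) hF)
    refine ⟨fun hq' => (bijective_via_iff _ _ _ _ _ _).1.2 (H.1 q hq'), (bijective_via_iff _ _ _ _ _ _).2.2 ?_⟩
    rcases Nat.lt_or_ge q (n + 1) with hq' | hq'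
    · exact (H.1 q (by omega)).1
    · obtain rfl : q = n + 1 := le_antisymm hq hq'
      exact H.2
  have hsurj : ∀ q ≤ n, Function.Surjective (EtCore.HpullVia prC u₀ M hM F₀ q) := fun q hq ξ => by
    obtain ⟨ξ', rfl⟩ := (bijective_rebase pr₀ (v i₀) M rfl F₀ q).2 ξ
    obtain ⟨j, hj, ξj, rfl⟩ := hP1 q ξ'
    obtain ⟨η, hη⟩ := ((hres q (hq.trans n.le_succ) j hj).1 hq).2
      (rebase pr₀ (P.map (homOfLE hj).op) _ rfl F₀ q ξj)
    exact ⟨EtCore.HpullVia (u j) (D.map (homOfLE hj).op) u₀ (hu hj) F₀ q η,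
      surj_step pr₀ (P.map (homOfLE hj).op) (D.map (homOfLE hj).op) (pr.app (op j)) (v j) _ rfl (hsqP _).symm
        (v i₀) (hv hj) (u j) prC (hw j) u₀ (hu hj) M rfl hM F₀ q hη⟩
  have hinj : ∀ q ≤ n + 1, Function.Injective (EtCore.HpullVia prC u₀ M hM F₀ q) := fun q hq => by
    refine (injective_iff_map_eq_zero _).2 fun η hη => ?_
    obtain ⟨j, hj, ηj, rfl⟩ := hD1 q η
    obtain ⟨ξj, hξ⟩ := (bijective_rebase pr₀ (P.map (homOfLE hj).op) _ rfl F₀ q).2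
      (EtCore.HpullVia (pr.app (op j)) (D.map (homOfLE hj).op) (P.map (homOfLE hj).op ≫ pr₀) (hsqP _).symm F₀ q ηj)
    obtain ⟨k, hk, hk0⟩ := hP2 q j hj ξj
      (h0_step pr₀ (P.map (homOfLE hj).op) (D.map (homOfLE hj).op) (pr.app (op j)) (v j) _ rfl (hsqP _).symm
        (v i₀) (hv hj) (u j) prC (hw j) u₀ (hu hj) M rfl hM F₀ q hξ hη)
    have hDw : D.map (homOfLE hk).op ≫ D.map (homOfLE hj).op = D.map (homOfLE (hj.trans hk)).op := by
      rw [← Functor.map_comp]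
      rfl
    exact via_eq_zero_of _ _ _ _ F₀ q
      (hk1_step pr₀ (P.map (homOfLE hj).op) (D.map (homOfLE hj).op) (D.map (homOfLE hk).op) (pr.app (op j)) (pr.app (op k))
        (P.map (homOfLE hk).op) _ rfl (hsqP _).symm (hsqP _) _ hDw _ (hsqP _).symm F₀ q
        (hres q hq k (hj.trans hk)).2 hξ hk0)
      (via_comp (D.map (homOfLE hj).op) (D.map (homOfLE hk).op) (u k) _ hDw
        (u j) (hu hk) u₀ (hu hj) (hu (hj.trans hk)) F₀ q ηj)
  exact ⟨fun q hq => (bijective_via_iff _ _ _ _ _ _).1.1 ⟨hinj q (hq.trans n.le_succ), hsurj q hq⟩,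
    (bijective_via_iff _ _ _ _ _ _).2.1 (hinj (n + 1) le_rfl)⟩

/-- The comparison passes to the limit of a system of morphisms, for sheaves coming from one stage. -/
theorem comp_limit_system {P D : ιᵒᵖ ⥤ Scheme.{u}} (pr : P ⟶ D) (C : Cone P) (c : Cone D) (prC : C.pt ⟶ c.pt)
    (hw : ∀ i, C.π.app i ≫ pr.app i = prC ≫ c.π.app i) (hC : IsLimit C) (hc : IsLimit c)
    (hPaff : ∀ ⦃i j : ιᵒᵖ⦄ (a : i ⟶ j), IsAffineHom (P.map a)) (haff : ∀ {i j : ιᵒᵖ} (a : i ⟶ j), IsAffineHom (D.map a))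
    (hPqc : ∀ i, CompactSpace (P.obj i)) (hPqs : ∀ i, QuasiSeparatedSpace (P.obj i))
    (hqc : ∀ i, CompactSpace (D.obj i)) (hqs : ∀ i, QuasiSeparatedSpace (D.obj i))
    {L : Set ℕ} {n : ℕ} (h : ∀ i, EtAcyc.CompN (pr.app i) L n) (i₀ : ι) (F₀ : EtCoh.Ab (D.obj (op i₀)))
    (hF : EtAcyc.IsLTorsion L F₀) :
    (∀ q ≤ n, Function.Bijective (EtCore.Hpull prC ((EtCoh.pull (c.π.app (op i₀))).obj F₀) q)) ∧
      Function.Injective (EtCore.Hpull prC ((EtCoh.pull (c.π.app (op i₀))).obj F₀) (n + 1)) :=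
  comp_limit_core pr (fun i => C.π.app (op i)) (fun i => c.π.app (op i)) prC (fun i => hw (op i))
    (fun _ _ h => c.w (homOfLE h).op) (fun _ _ h => C.w (homOfLE h).op) h i₀ F₀ hF
    (fun q => (S0646.result D (fun _ _ a => haff a) hqc hqs c hc i₀ F₀ q).1)
    (fun q => (S0646.result P hPaff hPqc hPqs C hC i₀ ((EtCoh.pull (pr.app (op i₀))).obj F₀) q).1)
    (fun q => (S0646.result P hPaff hPqc hPqs C hC i₀ ((EtCoh.pull (pr.app (op i₀))).obj F₀) q).2)


variable [Nonempty ι] (D : ιᵒᵖ ⥤ Scheme.{u}) {W S : Scheme.{u}}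
  (t : ∀ i, D.obj i ⟶ S) (ht : ∀ ⦃i j : ιᵒᵖ⦄ (a : i ⟶ j), D.map a ≫ t j = t i) (m : W ⟶ S)
  (c : Cone D) (τ : c.pt ⟶ S) (hτ : ∀ i, c.π.app i ≫ t i = τ)

include ht hτ in
/-- The comparison passes to the limit, for sheaves coming from one stage. -/
theorem comp_limit (hqc : ∀ i, CompactSpace (D.obj i)) (hqs : ∀ i, QuasiSeparatedSpace (D.obj i))
    (haff : ∀ {i j : ιᵒᵖ} (a : i ⟶ j), IsAffineHom (D.map a)) [QuasiCompact m] [QuasiSeparated m] (hc : IsLimit c)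
    {L : Set ℕ} {n : ℕ} (h : ∀ i, EtAcyc.CompN (pullback.snd m (t i)) L n) (i₀ : ι) (F₀ : EtCoh.Ab (D.obj (op i₀)))
    (hF : EtAcyc.IsLTorsion L F₀) :
    (∀ q ≤ n, Function.Bijective (EtCore.Hpull (pullback.snd m τ) ((EtCoh.pull (c.π.app (op i₀))).obj F₀) q)) ∧
      Function.Injective (EtCore.Hpull (pullback.snd m τ) ((EtCoh.pull (c.π.app (op i₀))).obj F₀) (n + 1)) := by
  haveI := hqc
  haveI := hqs
  let pr : pbDiag D t ht m ⟶ D := { app := fun i => pullback.snd m (t i) }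
  refine comp_limit_system pr (pbCone D t ht m c τ hτ) c (pullback.snd m τ) (fun i => pullback.lift_snd _ _ _)
    (isLimitPbCone D t ht m c τ hτ hc) hc (fun i j a => ?_) haff
    (fun i => QuasiCompact.compactSpace_of_compactSpace (pullback.snd m (t i)))
    (fun i => quasiSeparatedSpace_of_quasiSeparated (pullback.snd m (t i))) hqc hqs h i₀ F₀ hF
  refine MorphismProperty.of_isPullback (P := @IsAffineHom)
    (IsPullback.of_right (t := IsPullback.of_hasPullback m (t j)) (h₁₁ := (pbDiag D t ht m).map a)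
      (v₁₁ := pullback.snd m (t i)) (h₂₁ := D.map a) ?_ ?_).flip (haff a)
  · simp only [pbDiag_map, pullback.lift_fst, Category.comp_id, ht a]
    exact IsPullback.of_hasPullback m (t i)
  · simp

end Groth.Agent.SmoothBCLib
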