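import Groth.Agent.SmoothBCLib.IndSmoothBC

/-!
# Forms of smooth base change used by the milestones
-/

set_option autoImplicit false
set_option linter.style.haveILetI false
set_option backward.isDefEq.respectTransparency false
set_option backward.isDefEq.respectTransparency.types false
set_option maxHeartbeats 1000000

universe u

open CategoryTheory CategoryTheory.Limits AlgebraicGeometry Opposite

noncomputable section

namespace Groth.Agent.SmoothBCLib

attribute [local instance] Groth.Agent.S0101.result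

/-- Smooth base change, one degree at a time. -/
theorem smooth_base_change (hkey : HenLineKey.{u}) {X S Y T : Scheme.{u}} (f : X ⟶ S) [Smooth f] (g : T ⟶ S)
    [QuasiCompact g] [QuasiSeparated g] (h : Y ⟶ X) (e : Y ⟶ T) (hc : IsPullback e h g f) (F : EtCoh.Ab T)
    (hF : EtPBC.IsTorsionInvertibleOn S F) (q : ℕ) :
    Nonempty ((EtCoh.pull f).obj ((EtCoh.Rpush g q).obj F) ≅ (EtCoh.Rpush h q).obj ((EtCoh.pull e).obj F)) ∧
      IsIso (EtCoh.baseChange0 g f h e hc.w F) := by
  haveI : IsIso (EtBC.bcQ g f h e hc.w q F) :=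
    bcLTors_smooth_of_key hkey g f h e hc F (isLTorsion_of_invertibleOn g hF) q
  exact ⟨⟨asIso (EtBC.bcQ g f h e hc.w q F)⟩, StrictLocLib.isIso_baseChange0_of_smooth g f h e hc F⟩

/-- Base change along a limit of smooth schemes, one degree at a time. -/
theorem limit_smooth_base_change (hkey : HenLineKey.{u}) {ι : Type u} [Preorder ι] [IsDirected ι (· ≤ ·)]
    [Nonempty ι] {S : Scheme.{u}} (D : ιᵒᵖ ⥤ Over S) (hsm : ∀ i, Smooth (D.obj i).hom)
    (haff : ∀ ⦃a b : ιᵒᵖ⦄ (h : a ⟶ b), IsAffineHom (D.map h).left)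
    (c : Cone (D ⋙ Over.forget S)) (hc : IsLimit c) (g : c.pt ⟶ S) (hg : ∀ i, c.π.app i ≫ (D.obj i).hom = g)
    {X X' : Scheme.{u}} (f : X ⟶ S) [QuasiCompact f] [QuasiSeparated f] (f' : X' ⟶ c.pt) (g' : X' ⟶ X)
    (hsq : IsPullback g' f' f g) (F : EtCoh.Ab X) (hF : EtPBC.IsTorsionInvertibleOn S F) (q : ℕ) :
    Nonempty ((EtCoh.pull g).obj ((EtCoh.Rpush f q).obj F) ≅ (EtCoh.Rpush f' q).obj ((EtCoh.pull g').obj F)) ∧
      IsIso (EtCoh.baseChange0 f g f' g' hsq.w F) := by
  haveI : ∀ {a b : ιᵒᵖ} (h : a ⟶ b), IsAffineHom ((D ⋙ Over.forget S).map h) := fun h => haff h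
  have hloc : IndSmoothLoc g := indSmoothLoc_of_limit (D ⋙ Over.forget S) (fun i => (D.obj i).hom)
    (fun i j a => Over.w (D.map a)) hsm c hc g hg
  haveI : IsIso (EtBC.bcQ f g f' g' hsq.w q F) :=
    hloc.bcLTors hkey f f' g' hsq F (isLTorsion_of_invertibleOn f hF) q
  exact ⟨⟨asIso (EtBC.bcQ f g f' g' hsq.w q F)⟩, hloc.isIso_baseChange0 f f' g' hsq F⟩

end Groth.Agent.SmoothBCLib
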