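import Groth.Agent.SmoothBCLib.IndSmoothBC
import Groth.Agent.SmoothBCLib.UnivHomeoBC
import Groth.Agent.SmoothBCLib.RowsBC
import Groth.Agent.GeomIrred.ClopenDescend
import Groth.Prelude.Def_Smoothing
import Mathlib.RingTheory.Smooth.Field
import Mathlib.RingTheory.Smooth.Locus
import Mathlib.FieldTheory.PurelyInseparable.PerfectClosure

/-!
# Base change along extensions of the base field
-/

set_option autoImplicit false
set_option linter.style.haveILetI false
set_option backward.isDefEq.respectTransparency false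
set_option backward.isDefEq.respectTransparency.types false
set_option maxHeartbeats 2000000
set_option synthInstance.maxHeartbeats 400000

universe u

open CategoryTheory CategoryTheory.Limits AlgebraicGeometry Opposite

noncomputable section

namespace Groth.Agent.SmoothBCLib

section Perfect

variable {k F : Type u} [Field k] [PerfectField k] [Field F] [Algebra k F]

/-- Over a perfect field a finitely generated subalgebra of an extension lies in a smooth one. -/
theorem exists_le_smooth (D : Subalgebra k F) (hD : D.FG) :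
    ∃ A : Subalgebra k F, D ≤ A ∧ Algebra.Smooth k A := by
  haveI : Algebra.FiniteType k D := D.fg_iff_finiteType.1 hD
  haveI : Algebra.FinitePresentation k D := Algebra.FinitePresentation.of_finiteType.1 inferInstance
  haveI : Algebra.EssFiniteType D (FractionRing D) := Algebra.EssFiniteType.of_isLocalization _ (nonZeroDivisors D)
  haveI : Algebra.EssFiniteType k (FractionRing D) := Algebra.EssFiniteType.comp k D (FractionRing D)
  haveI : Algebra.FormallySmooth k (FractionRing D) := inferInstance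
  haveI : IsLocalization (⊥ : Ideal D).primeCompl (FractionRing D) := by
    rw [Ideal.primeCompl_bot]
    infer_instance
  have hsm : (⟨⊥, Ideal.isPrime_bot⟩ : PrimeSpectrum D) ∈ Algebra.smoothLocus k D :=
    Algebra.FormallySmooth.of_equiv
      ((IsLocalization.algEquiv (⊥ : Ideal D).primeCompl (FractionRing D) (Localization.AtPrime (⊥ : Ideal D))).restrictScalars k)
  obtain ⟨_, ⟨g, rfl⟩, hg, hsub⟩ :=
    PrimeSpectrum.isTopologicalBasis_basic_opens.exists_subset_of_mem_open hsm Algebra.isOpen_smoothLocus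
  have hg0 : g ≠ 0 := fun h => hg (show g ∈ (⊥ : Ideal D) from h)
  haveI : Algebra.Smooth k (Localization.Away g) := Algebra.basicOpen_subset_smoothLocus_iff_smooth.1 hsub
  have hgF : (g : F) ≠ 0 := fun h => hg0 (Subtype.ext h)
  let h : Localization.Away g →ₐ[k] F :=
    { toRingHom := IsLocalization.Away.lift g (g := D.val.toRingHom) (isUnit_iff_ne_zero.2 hgF)
      commutes' := fun c => by
        change IsLocalization.Away.lift g (g := D.val.toRingHom) (isUnit_iff_ne_zero.2 hgF) (algebraMap k _ c) = _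
        rw [IsScalarTower.algebraMap_apply k D (Localization.Away g), IsLocalization.Away.lift_eq]
        rfl }
  have hh : ∀ d : D, h (algebraMap D _ d) = (d : F) := fun d => IsLocalization.Away.lift_eq g (g := D.val.toRingHom) (isUnit_iff_ne_zero.2 hgF) d
  have hinj : Function.Injective h := by
    refine (injective_iff_map_eq_zero h).2 fun x hx => ?_
    obtain ⟨⟨d, s⟩, hs⟩ := IsLocalization.surj (Submonoid.powers g) x
    have h1 := congrArg h hs
    rw [map_mul, hx, zero_mul, hh] at h1
    have hd : d = 0 := Subtype.ext h1.symm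
    rw [hd, map_zero] at hs
    exact (IsLocalization.map_units (Localization.Away g) s).mul_left_eq_zero.1 hs
  exact ⟨h.range, fun x hx => ⟨algebraMap D _ ⟨x, hx⟩, hh ⟨x, hx⟩⟩,
    Algebra.Smooth.of_equiv (AlgEquiv.ofInjective h hinj)⟩

variable (k F)

/-- The smooth subalgebras. -/
abbrev SmoothSub : Type u := {A : Subalgebra k F // Algebra.Smooth k A}

instance : Nonempty (SmoothSub k F) :=
  let ⟨A, _, hA⟩ := exists_le_smooth (⊥ : Subalgebra k F) Subalgebra.fg_bot
  ⟨⟨A, hA⟩⟩

instance : IsDirectedOrder (SmoothSub k F) := ⟨fun a b => by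
  haveI := a.2
  haveI := b.2
  obtain ⟨A, hle, hA⟩ := exists_le_smooth (a.1 ⊔ b.1)
    ((a.1.fg_iff_finiteType.2 inferInstance).sup (b.1.fg_iff_finiteType.2 inferInstance))
  exact ⟨⟨A, hA⟩, show a.1 ≤ A from le_trans le_sup_left hle, show b.1 ≤ A from le_trans le_sup_right hle⟩⟩

/-- Extensions of perfect fields are ind-smooth. -/
theorem indSmooth_of_perfectField :
    MorphismProperty.ind.{u} smoothProp.{u} (CommRingCat.ofHom (algebraMap k F)) := by
  let E : SmoothSub k F ⥤ CommRingCat.{u} :=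
    { obj := fun A => CommRingCat.of A.1
      map := fun {A B} h => CommRingCat.ofHom (Subalgebra.inclusion (show A.1 ≤ B.1 from leOfHom h)).toRingHom }
  let c : Cocone E :=
    { pt := CommRingCat.of F
      ι := { app := fun A => CommRingCat.ofHom A.1.val.toRingHom } }
  have hc : IsColimit c := by
    haveI : ReflectsColimit E (forget CommRingCat.{u}) := reflectsColimit_of_reflectsIsomorphisms _ _
    refine isColimitOfReflects (forget CommRingCat.{u}) (Types.FilteredColimit.isColimitOf' _ _ (fun x => ?_)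
      fun A x y e => ⟨A, 𝟙 A, congrArg _ (Subtype.ext e)⟩)
    let x' : F := x
    obtain ⟨A, hle, hA⟩ := exists_le_smooth (Algebra.adjoin k ({x'} : Set F))
      ⟨{x'}, by simp⟩
    exact ⟨⟨A, hA⟩, ⟨x', hle (Algebra.self_mem_adjoin_singleton k x')⟩, rfl⟩
  exact ⟨SmoothSub k F, inferInstance, inferInstance, E,
    { app := fun A => CommRingCat.ofHom (algebraMap k A.1) }, c.ι, hc,
    fun A => ⟨RingHom.smooth_algebraMap.2 A.2, rfl⟩⟩

end Perfect

attribute [local instance] Groth.Agent.S0101.result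

/-- Base changes of ind-smooth ring maps have ind-smooth strict localizations. -/
theorem indSmoothLoc_baseChange {A B : CommRingCat.{u}} (φ : A ⟶ B)
    (hφ : MorphismProperty.ind.{u} smoothProp.{u} φ) {S S' : Scheme.{u}} (b : S ⟶ Spec A) (p : S' ⟶ S)
    (b' : S' ⟶ Spec B) (h : IsPullback p b' b (Spec.map φ)) : IndSmoothLoc p := by
  obtain ⟨J, _, _, E, tE, sE, hE, hst⟩ := hφ
  obtain ⟨α, _, _, _, F, _⟩ := IsFiltered.exists_directed.{u} J
  let cα : Cocone (F ⋙ E) := (Cocone.mk _ sE).whisker F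
  have hcα : IsColimit cα := (Functor.Final.isColimitWhiskerEquiv F _).symm hE
  let D : αᵒᵖ ⥤ Scheme.{u} := (F ⋙ E).op ⋙ Scheme.Spec
  let c : Cone D := Scheme.Spec.mapCone cα.op
  have hc : IsLimit c := isLimitOfPreserves Scheme.Spec hcα.op
  let t : ∀ i, D.obj i ⟶ Spec A := fun i => Spec.map (tE.app (F.obj i.unop))
  have ht : ∀ ⦃i k : αᵒᵖ⦄ (a : i ⟶ k), D.map a ≫ t k = t i := fun i k a => by
    show Spec.map (E.map (F.map a.unop)) ≫ Spec.map (tE.app (F.obj k.unop)) = _
    rw [← Spec.map_comp, ← tE.naturality (F.map a.unop)]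
    simp [t]
  have hτ : ∀ i, c.π.app i ≫ t i = Spec.map φ := fun i => by
    show Spec.map (sE.app (F.obj i.unop)) ≫ Spec.map (tE.app (F.obj i.unop)) = _
    rw [← Spec.map_comp, (hst _).2]
  haveI : ∀ i, IsAffine (D.obj i) := fun i => inferInstanceAs (IsAffine (Spec _))
  let P := pbDiag D t ht b
  haveI : ∀ {x y : αᵒᵖ} (m : x ⟶ y), IsAffineHom (P.map m) := fun {x y} m => by
    refine MorphismProperty.of_isPullback (P := @IsAffineHom)
      (IsPullback.of_right (t := IsPullback.of_hasPullback b (t y)) (h₁₁ := P.map m) (v₁₁ := pullback.snd b (t x))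
        (h₂₁ := D.map m) ?_ ?_).flip inferInstance
    · simp only [P, pbDiag_map, pullback.lift_fst, Category.comp_id, ht m]
      exact IsPullback.of_hasPullback b (t x)
    · simp [P]
  let C := pbCone D t ht b c (Spec.map φ) hτ
  refine indSmoothLoc_of_limit P (fun i => pullback.fst b (t i)) (fun i k a => by simp [P])
    (fun i => ?_) (C.extend h.isoPullback.hom) (IsLimit.extendIso _ (isLimitPbCone D t ht b c (Spec.map φ) hτ hc))
    p fun i => ?_
  · haveI : Smooth (t i) := HasRingHomProperty.Spec_iff.2 (hst _).1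
    exact MorphismProperty.pullback_fst _ _ inferInstance
  · show (h.isoPullback.hom ≫ C.π.app i) ≫ pullback.fst b (t i) = p
    simp [C]

/-- Universal base change for `L`-torsion sheaves along `g`. -/
def BCInv {S' S : Scheme.{u}} (g : S' ⟶ S) (L : Set ℕ) : Prop :=
  ∀ ⦃X X' : Scheme.{u}⦄ (f : X ⟶ S) [QuasiCompact f] [QuasiSeparated f] (f' : X' ⟶ S') (g' : X' ⟶ X)
    (h : IsPullback g' f' f g), BCLTors f g f' g' h.w L

theorem BCInv.comp {S'' S' S : Scheme.{u}} {g₁ : S'' ⟶ S'} {g₂ : S' ⟶ S} {L : Set ℕ} (h₁ : BCInv g₁ L)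
    (h₂ : BCInv g₂ L) : BCInv (g₁ ≫ g₂) L := by
  intro X X'' f _ _ f'' g'' h F hF q
  let f' := pullback.snd f g₂
  let g' := pullback.fst f g₂
  have sq : IsPullback g' f' f g₂ := IsPullback.of_hasPullback f g₂
  let k : X'' ⟶ pullback f g₂ := pullback.lift g'' (f'' ≫ g₁) (by rw [Category.assoc, h.w])
  have hk : k ≫ g' = g'' := pullback.lift_fst _ _ _
  have sq₁ : IsPullback k f'' f' g₁ :=
    IsPullback.of_right (h₁₁ := k) (hk.symm ▸ h) (pullback.lift_snd _ _ _) sq
  exact BCVertLib.isIso_bcQ_congr f rfl f'' hk _ h.w q F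
    (BCVertLib.isIso_bcQ_vcomp g₂ f f' g' sq.w g₁ f'' k sq₁.w (hk.symm ▸ h).w F q
      (h₂ f f' g' sq F hF q) (h₁ f' f'' k sq₁ _ (AcycCompLib.isLTorsion_pull g' hF) q))

theorem isIso_of_isIso_pull_surjective {X Y : Scheme.{u}} (g : X ⟶ Y) [Surjective g] {F G : EtCoh.Ab Y}
    (a : F ⟶ G) (h : IsIso ((EtCoh.pull g).map a)) : IsIso a := by
  haveI : ∀ H, Mono ((EtCoh.pullPushAdj g).unit.app H) := fun H => EtPtsLib.mono_unit_of_surjective g H
  haveI : (EtCoh.pull g).Faithful := (EtCoh.pullPushAdj g).faithful_L_of_mono_unit_app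
  haveI : Mono a := (EtCoh.pull g).mono_of_mono_map (inferInstance : Mono ((EtCoh.pull g).map a))
  haveI : Epi a := (EtCoh.pull g).epi_of_epi_map (inferInstance : Epi ((EtCoh.pull g).map a))
  exact isIso_of_mono_of_epi a

/-- Descent along surjective morphisms. -/
theorem BCInv.of_comp {S'' S' S : Scheme.{u}} {g₁ : S'' ⟶ S'} [Surjective g₁] {g₂ : S' ⟶ S} {L : Set ℕ}
    (h₁ : BCInv g₁ L) (h₁₂ : BCInv (g₁ ≫ g₂) L) : BCInv g₂ L := by
  intro X X' f _ _ f' g' h F hF q
  let k : pullback f' g₁ ⟶ X' := pullback.fst f' g₁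
  let f'' := pullback.snd f' g₁
  have sq₁ : IsPullback k f'' f' g₁ := IsPullback.of_hasPullback f' g₁
  haveI : QuasiCompact f' := MorphismProperty.of_isPullback h ‹_›
  haveI : QuasiSeparated f' := MorphismProperty.of_isPullback h ‹_›
  refine isIso_of_isIso_pull_surjective g₁ _ ?_
  exact BCVertLib.isIso_pull_bcQ_of_vcomp g₂ f f' g' h.w g₁ f'' k sq₁.w (sq₁.paste_horiz h).w F q
    (h₁₂ f f'' (k ≫ g') (sq₁.paste_horiz h) F hF q) (h₁ f' f'' k sq₁ _ (AcycCompLib.isLTorsion_pull g' hF) q)

/-- The primes invertible on a base are invertible above it. -/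
theorem primesInvertibleOn_le {S T : Scheme.{u}} (b : T ⟶ S) :
    EtAcyc.primesInvertibleOn S ⊆ EtAcyc.primesInvertibleOn T := fun _ hp =>
  ⟨hp.1, invOn_iff.1 ((invOn_iff.2 hp.2).of_hom b)⟩

theorem bcInv_indSmoothLoc (hkey : HenLineKey.{u}) {S' S : Scheme.{u}} {g : S' ⟶ S} (hg : IndSmoothLoc g)
    {L : Set ℕ} (hL : L ⊆ EtAcyc.primesInvertibleOn S) : BCInv g L := by
  intro X X' f _ _ f' g' h F hF q
  refine hg.bcLTors hkey f f' g' h F (fun U s x => ?_) q
  obtain ⟨V, k, m, hv, hm, h0⟩ := hF U s x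
  exact ⟨V, k, m, hv, ⟨hm.1, fun r hr hd => hL (hm.2 r hr hd)⟩, h0⟩

/-- Extensions to algebraically closed fields. -/
theorem bcInv_algClosed (hkey : HenLineKey.{u}) {K N : Type u} [Field K] [Field N] [IsAlgClosed N] (φ : K →+* N)
    {S S' : Scheme.{u}} (b : S ⟶ Spec (CommRingCat.of K)) (p : S' ⟶ S) (b' : S' ⟶ Spec (CommRingCat.of N))
    (hS : IsPullback p b' b (Spec.map (CommRingCat.ofHom φ))) (L : Set ℕ)
    (hL : L ⊆ EtAcyc.primesInvertibleOn S) : BCInv p L := by
  letI : Algebra K N := φ.toAlgebra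
  let K' := perfectClosure K N
  haveI : PerfectField N := inferInstance
  haveI : PerfectField K' := perfectClosure.perfectField K N
  let μ₁ : K →+* K' := algebraMap K K'
  let μ₂ : K' →+* N := algebraMap K' N
  have e : Spec.map (CommRingCat.ofHom φ) = Spec.map (CommRingCat.ofHom μ₂) ≫ Spec.map (CommRingCat.ofHom μ₁) := by
    rw [← Spec.map_comp]; rfl
  let p₁ := pullback.fst b (Spec.map (CommRingCat.ofHom μ₁))
  let b₁ := pullback.snd b (Spec.map (CommRingCat.ofHom μ₁))
  have sq₁ : IsPullback p₁ b₁ b (Spec.map (CommRingCat.ofHom μ₁)) := IsPullback.of_hasPullback _ _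
  rw [e] at hS
  let p₂ : S' ⟶ pullback b (Spec.map (CommRingCat.ofHom μ₁)) :=
    sq₁.lift p (b' ≫ Spec.map (CommRingCat.ofHom μ₂)) (by rw [hS.w, Category.assoc])
  have hp : p₂ ≫ p₁ = p := sq₁.lift_fst _ _ _
  have sq₂ : IsPullback p₂ b' b₁ (Spec.map (CommRingCat.ofHom μ₂)) :=
    IsPullback.of_right (h₁₁ := p₂) (hp.symm ▸ hS) (sq₁.lift_snd _ _ _) sq₁
  rw [← hp]
  refine BCInv.comp (bcInv_indSmoothLoc hkey (indSmoothLoc_baseChange (CommRingCat.ofHom μ₂)
    (indSmooth_of_perfectField K' N) b₁ p₂ b' sq₂) (hL.trans (primesInvertibleOn_le p₁))) ?_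
  haveI : IsIntegralHom (Spec.map (CommRingCat.ofHom μ₁)) :=
    IsIntegralHom.SpecMap_iff.2 (fun x => Algebra.IsIntegral.isIntegral (R := K) x)
  haveI : UniversallyInjective (Spec.map (CommRingCat.ofHom μ₁)) := GeomIrred.universallyInjective_specMap K K'
  haveI : Surjective (Spec.map (CommRingCat.ofHom μ₁)) := GeomIrred.surjective_specMap_field K K'
  haveI : IsIntegralHom p₁ := MorphismProperty.pullback_fst _ _ inferInstance
  haveI : UniversallyInjective p₁ := MorphismProperty.pullback_fst _ _ inferInstance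
  haveI : Surjective p₁ := MorphismProperty.pullback_fst _ _ inferInstance
  exact fun X X' f _ _ f' g' h F _ q => isIso_bcQ_univHomeo f p₁ f' g' h q F

/-- **Invariance under extensions of the base field.** -/
theorem bcInv_fieldExt (hkey : HenLineKey.{u}) {K M : Type u} [Field K] [Field M] (φ : K →+* M) {S S' : Scheme.{u}}
    (b : S ⟶ Spec (CommRingCat.of K)) (p : S' ⟶ S) (b' : S' ⟶ Spec (CommRingCat.of M))
    (hS : IsPullback p b' b (Spec.map (CommRingCat.ofHom φ))) :
    BCInv p (EtAcyc.primesInvertibleOn (Spec (CommRingCat.of K))) := by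
  let N := AlgebraicClosure M
  let ψ : M →+* N := algebraMap M N
  let q := pullback.fst b' (Spec.map (CommRingCat.ofHom ψ))
  have sq₁ := IsPullback.of_hasPullback b' (Spec.map (CommRingCat.ofHom ψ))
  -- the composite
  suffices h12 : BCInv (q ≫ p) (EtAcyc.primesInvertibleOn (Spec (CommRingCat.of K))) by
    haveI : Surjective q := MorphismProperty.pullback_fst _ _ (GeomIrred.surjective_specMap_field M N)
    refine BCInv.of_comp ?_ h12
    exact bcInv_algClosed hkey ψ b' q (pullback.snd _ _) sq₁ _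
      ((primesInvertibleOn_le b).trans (primesInvertibleOn_le p))
  exact bcInv_algClosed hkey (ψ.comp φ) b (q ≫ p) (pullback.snd _ _)
    (by rw [CommRingCat.ofHom_comp, Spec.map_comp]; exact sq₁.paste_horiz hS) _ (primesInvertibleOn_le b)

end Groth.Agent.SmoothBCLib
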