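import Groth.Agent.ProEtLib2.IndEtale
import Groth.Agent.ProEtLib2.LocColimit
import Groth.Agent.S12237
import Groth.Prelude.Def_Hens2
import Mathlib.RingTheory.Smooth.NoetherianDescent
import Mathlib.AlgebraicGeometry.AffineTransitionLimit

/-!
# Morphisms whose strict localizations are ind-smooth
-/

set_option autoImplicit false
set_option linter.style.haveILetI false
set_option backward.isDefEq.respectTransparency false
set_option backward.isDefEq.respectTransparency.types false
set_option maxHeartbeats 1000000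

universe u

open CategoryTheory CategoryTheory.Limits AlgebraicGeometry Opposite

noncomputable section

namespace Groth.Agent.SmoothBCLib

/-- Smooth morphisms of `CommRingCat`. -/
def smoothProp : MorphismProperty CommRingCat.{u} :=
  RingHom.toMorphismProperty RingHom.Smooth

theorem smoothProp_le : smoothProp.{u} ≤ MorphismProperty.isFinitelyPresentable.{u} CommRingCat.{u} := by
  intro R S f hf
  refine CommRingCat.isFinitelyPresentable_hom f ?_
  algebraize [f.hom]
  haveI : Algebra.Smooth R S := hf.toAlgebra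
  exact (inferInstance : Algebra.FinitePresentation R S)

instance : smoothProp.{u}.IsStableUnderComposition where
  comp_mem f g hf hg := RingHom.Smooth.comp (f := f.hom) (g := g.hom) hf hg

instance : smoothProp.{u}.IsStableUnderCobaseChange :=
  RingHom.isStableUnderCobaseChange_toMorphismProperty_iff.2
    RingHom.Smooth.isStableUnderBaseChange

instance : smoothProp.{u}.RespectsIso :=
  RingHom.toMorphismProperty_respectsIso_iff.1 RingHom.Smooth.propertyIsLocal.respectsIso

instance : MorphismProperty.PreIndSpreads.{u} smoothProp.{u} where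
  exists_isPushout {J} _ _ D c hc T f hf := by
    algebraize [f.hom]
    haveI : Algebra.Smooth c.pt T := hf.toAlgebra
    letI : Algebra (ULift.{u} ℤ) c.pt :=
      ((Int.castRingHom c.pt).comp ULift.ringEquiv.toRingHom).toAlgebra
    obtain ⟨A₀, B₀, _, _, hA₀, hB₀, ⟨e⟩⟩ :=
      Algebra.Smooth.exists_subalgebra_fg (R := ULift.{u} ℤ) (A := c.pt) (B := T)
    haveI : Algebra.FiniteType (ULift.{u} ℤ) A₀ := A₀.fg_iff_finiteType.1 hA₀
    haveI : IsNoetherianRing (ULift.{u} ℤ) :=
      isNoetherianRing_of_ringEquiv ℤ ULift.ringEquiv.symm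
    haveI : Algebra.FinitePresentation (ULift.{u} ℤ) A₀ :=
      Algebra.FinitePresentation.of_finiteType.1 inferInstance
    let α : (Functor.const J).obj (CommRingCat.of (ULift.{u} ℤ)) ⟶ D :=
      { app := fun j => CommRingCat.ofHom ((Int.castRingHom _).comp ULift.ringEquiv.toRingHom)
        naturality := fun i j g => CommRingCat.hom_ext (ProEtLib2.ringHom_ulift_int_ext _ _) }
    obtain ⟨j, g, -, hg⟩ := RingHom.EssFiniteType.exists_eq_comp_ι_app_of_isColimit
      (CommRingCat.of (ULift.{u} ℤ)) D α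
      (CommRingCat.ofHom (algebraMap (ULift.{u} ℤ) A₀)) c hc
      (RingHom.finitePresentation_algebraMap.2 inferInstance)
      (CommRingCat.ofHom A₀.val.toRingHom)
      (fun i => CommRingCat.hom_ext (ProEtLib2.ringHom_ulift_int_ext _ _))
    letI : Algebra A₀ (D.obj j) := g.hom.toAlgebra
    have hout : IsPushout (g ≫ c.ι.app j) (CommRingCat.ofHom (algebraMap A₀ B₀)) f
        (CommRingCat.ofHom (e.symm.toRingEquiv.toRingHom.comp
          Algebra.TensorProduct.includeRight.toRingHom)) := by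
      refine (CommRingCat.isPushout_tensorProduct A₀ c.pt B₀).of_iso (Iso.refl _) (Iso.refl _)
        (Iso.refl _) e.symm.toRingEquiv.toCommRingCatIso ?_ ?_ ?_ ?_
      · simp only [Iso.refl_hom, Category.id_comp, Category.comp_id]
        rw [← hg]
        rfl
      · simp
      · refine CommRingCat.hom_ext (RingHom.ext fun x => ?_)
        exact e.symm.commutes x
      · rfl
    have hin := CommRingCat.isPushout_tensorProduct A₀ (D.obj j) B₀
    change IsPushout g _ _ _ at hin
    let g' := hin.desc (c.ι.app j ≫ f) _ (by rw [← Category.assoc]; exact hout.w)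
    refine ⟨j, _, _, g', IsPushout.of_left ?_ (hin.inl_desc _ _ _).symm hin, ?_⟩
    · rw [show _ ≫ g' = _ from hin.inr_desc _ _ _]
      exact hout
    · exact RingHom.smooth_algebraMap.2 (inferInstance : Algebra.Smooth (D.obj j) _)

instance : (MorphismProperty.ind.{u} smoothProp.{u}).IsStableUnderComposition :=
  MorphismProperty.IsStableUnderComposition.ind_of_preIndSpreads smoothProp_le

theorem etaleProp_le_smoothProp : ProEtLib2.etaleProp.{u} ≤ smoothProp.{u} := fun A B f hf => by
  algebraize [f.hom]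
  haveI : Algebra.Etale A B := hf.toAlgebra
  exact RingHom.smooth_algebraMap.2 (inferInstance : Algebra.Smooth A B)

theorem indSmooth_of_indEtale {A B : CommRingCat.{u}} {f : A ⟶ B}
    (h : MorphismProperty.ind.{u} ProEtLib2.etaleProp.{u} f) : MorphismProperty.ind.{u} smoothProp.{u} f := by
  obtain ⟨J, _, _, D, t, s, hs, hst⟩ := h
  exact ⟨J, inferInstance, inferInstance, D, t, s, hs, fun j => ⟨etaleProp_le_smoothProp _ (hst j).1, (hst j).2⟩⟩

/-- Localizations are ind-smooth. -/
theorem indSmooth_localization {A : Type u} [CommRing A] (S : Submonoid A) (B : Type u) [CommRing B] [Algebra A B]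
    [IsLocalization S B] : MorphismProperty.ind.{u} smoothProp.{u} (CommRingCat.ofHom (algebraMap A B)) := by
  refine ⟨ProEtLib2.DvdIdx S, inferInstance, inferInstance, ProEtLib2.awayDiagram S,
    { app := fun s => CommRingCat.ofHom (algebraMap A (Localization.Away s.val))
      naturality := fun a b h => CommRingCat.hom_ext (RingHom.ext fun x =>
        (ProEtLib2.awayMap_algebraMap (leOfHom h) x).symm) },
    (ProEtLib2.awayCocone S B).ι, ProEtLib2.isColimitAwayCocone S B, fun s => ⟨?_, ?_⟩⟩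
  · exact RingHom.smooth_algebraMap.2 (inferInstance : Algebra.Smooth A (Localization.Away s.val))
  · exact CommRingCat.hom_ext (RingHom.ext fun x => ProEtLib2.toLoc_algebraMap S B s x)

/-- At every point, the strict localization of `S'` is ind-smooth over an affine open of `S`. -/
def IndSmoothLoc {S' S : Scheme.{u}} (g : S' ⟶ S) : Prop :=
  ∀ (s : S') (R : Type u) [CommRing R] [IsLocalRing R] [Algebra (S'.presheaf.stalk s) R]
    [IsLocalHom (algebraMap (S'.presheaf.stalk s) R)] [Hensel.IsStrictHenselization (S'.presheaf.stalk s) R],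
    ∃ (V : S.Opens) (_ : IsAffineOpen V) (hs : g s ∈ V), MorphismProperty.ind.{u} smoothProp.{u}
      (S.presheaf.germ V (g s) hs ≫ g.stalkMap s ≫ CommRingCat.ofHom (algebraMap (S'.presheaf.stalk s) R))

/-- The map from an affine open to the strict localization over it. -/
theorem specMap_germ_stalkMap {S' S : Scheme.{u}} (g : S' ⟶ S) (s : S') (R : Type u) [CommRing R]
    [Algebra (S'.presheaf.stalk s) R] {V : S.Opens} (hV : IsAffineOpen V) (hs : g s ∈ V) :
    Spec.map (S.presheaf.germ V (g s) hs ≫ g.stalkMap s ≫ CommRingCat.ofHom (algebraMap (S'.presheaf.stalk s) R)) ≫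
      hV.fromSpec = Hens2.specOf S' s R ≫ g := by
  rw [Spec.map_comp, Spec.map_comp, Category.assoc, Category.assoc]
  change _ ≫ _ ≫ hV.fromSpecStalk hs = _
  rw [hV.fromSpecStalk_eq_fromSpecStalk hs, Scheme.SpecMap_stalkMap_fromSpecStalk, Hens2.specOf, Category.assoc]

/-- A limit of smooth schemes has ind-smooth strict localizations. -/
theorem indSmoothLoc_of_limit {ι : Type u} [Preorder ι] [IsDirected ι (· ≤ ·)] [Nonempty ι] {S : Scheme.{u}}
    (D : ιᵒᵖ ⥤ Scheme.{u}) [∀ {a b : ιᵒᵖ} (h : a ⟶ b), IsAffineHom (D.map h)] (t : ∀ i, D.obj i ⟶ S)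
    (ht : ∀ ⦃i j : ιᵒᵖ⦄ (h : i ⟶ j), D.map h ≫ t j = t i) (hsm : ∀ i, Smooth (t i)) (c : Cone D) (hc : IsLimit c)
    (g : c.pt ⟶ S) (hg : ∀ i, c.π.app i ≫ t i = g) : IndSmoothLoc g := by
  intro s R _ _ hR₁ hR₂ hR₃
  obtain ⟨i₀⟩ : Nonempty ιᵒᵖ := inferInstance
  obtain ⟨_, ⟨V, hV, rfl⟩, hsV, -⟩ := S.isBasis_affineOpens.exists_subset_of_mem_open
    (Set.mem_univ (t i₀ (c.π.app i₀ s))) isOpen_univ
  obtain ⟨_, ⟨U₀, hU₀, rfl⟩, hsU, hUV⟩ := (D.obj i₀).isBasis_affineOpens.exists_subset_of_mem_open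
    (show c.π.app i₀ s ∈ (t i₀ ⁻¹ᵁ V : Set _) from hsV) (t i₀ ⁻¹ᵁ V).isOpen
  change S.Opens at V
  change (D.obj i₀).Opens at U₀
  let O := opensDiagram D i₀ U₀
  haveI : ∀ j, IsAffine (O.obj j) := fun j => (hU₀.preimage (D.map j.hom) : IsAffineOpen _)
  let cO := opensCone D c i₀ U₀
  have hcO : IsLimit cO := isLimitOpensCone D c hc i₀ U₀
  let U' : c.pt.Opens := c.π.app i₀ ⁻¹ᵁ U₀
  haveI := isAffineHom_π_app D c hc i₀
  have hU' : IsAffineOpen U' := hU₀.preimage (c.π.app i₀)
  have hle : ∀ j : Over i₀, D.map j.hom ⁻¹ᵁ U₀ ≤ t j.left ⁻¹ᵁ V := fun j => by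
    rw [← ht j.hom, Scheme.Hom.comp_preimage]
    exact fun x hx => hUV hx
  have hle' : U' ≤ g ⁻¹ᵁ V := by
    rw [← hg i₀, Scheme.Hom.comp_preimage]
    exact fun x hx => hUV hx
  let tU : ∀ j : Over i₀, O.obj j ⟶ V := fun j => (t j.left).resLE V (D.map j.hom ⁻¹ᵁ U₀) (hle j)
  haveI : ∀ j, Smooth (tU j) := fun j => by
    haveI := hsm j.left
    exact inferInstanceAs (Smooth ((t j.left).resLE V _ (hle j)))
  let gU : (U' : Scheme.{u}) ⟶ V := g.resLE V U' hle'
  have hgU : ∀ j, cO.π.app j ≫ tU j = gU := fun j => by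
    refine (cancel_mono V.ι).1 ?_
    simp [cO, tU, gU, hg]
    rfl
  haveI : IsAffine (V : Scheme.{u}) := hV
  obtain ⟨hΓ⟩ := nonempty_isColimit_Γ_mapCocone O cO hcO
  have hB : MorphismProperty.ind.{u} smoothProp.{u} gU.appTop := by
    refine ⟨(Over i₀)ᵒᵖ, inferInstance, inferInstance, O.op ⋙ Scheme.Γ,
      { app := fun j => (tU j.unop).appTop
        naturality := fun a b h => ?_ }, (Scheme.Γ.mapCocone cO.op).ι, hΓ, fun j => ⟨?_, ?_⟩⟩
    · show 𝟙 _ ≫ (tU b.unop).appTop = (tU a.unop).appTop ≫ (O.map h.unop).appTop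
      rw [Category.id_comp, ← Scheme.Hom.comp_appTop]
      congr 1
      refine (cancel_mono V.ι).1 ?_
      simp [O, tU, ht]
    · show smoothProp (tU j.unop).appTop
      exact (HasRingHomProperty.iff_of_isAffine (P := @Smooth) (f := tU j.unop)).1 inferInstance
    · show (tU j.unop).appTop ≫ (cO.π.app j.unop).appTop = gU.appTop
      rw [← Scheme.Hom.comp_appTop, hgU]
  have hA : MorphismProperty.ind.{u} smoothProp.{u} (g.appLE V U' hle') := by
    exact (MorphismProperty.arrow_mk_iso_iff _ (arrowResLEAppIso g V U' hle')).1 hB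
  have hs : g s ∈ V := hle' hsU
  refine ⟨V, hV, hs, ?_⟩
  have e : S.presheaf.germ V (g s) hs ≫ g.stalkMap s = g.appLE V U' hle' ≫ c.pt.presheaf.germ U' s hsU := by
    rw [Scheme.Hom.germ_stalkMap, Scheme.Hom.appLE, Category.assoc, TopCat.Presheaf.germ_res]
  rw [← Category.assoc, e, Category.assoc]
  refine MorphismProperty.comp_mem _ _ _ hA (MorphismProperty.comp_mem _ _ _ ?_
    (indSmooth_of_indEtale ((@ProEtLib2.isIndEtale_iff (c.pt.presheaf.stalk s) R _ _ hR₁).1 (@S12237.result (c.pt.presheaf.stalk s) _ _ R _ _ hR₁ hR₂ hR₃))))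
  letI := (c.pt.presheaf.algebra_section_stalk (U := U') ⟨s, hsU⟩)
  haveI := hU'.isLocalization_stalk ⟨s, hsU⟩
  exact indSmooth_localization (hU'.primeIdealOf ⟨s, hsU⟩).asIdeal.primeCompl (c.pt.presheaf.stalk s)

end Groth.Agent.SmoothBCLib
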