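import Groth.Agent.SmoothBCLib.IndSmooth
import Groth.Agent.SmoothBCLib.Torsion
import Groth.Agent.S0646
import Mathlib.CategoryTheory.Presentable.Directed

/-!
# Vanishing of higher direct images after ind-smooth base change
-/

set_option autoImplicit false
set_option linter.style.haveILetI false
set_option backward.isDefEq.respectTransparency false
set_option backward.isDefEq.respectTransparency.types false
set_option maxHeartbeats 2000000
set_option synthInstance.maxHeartbeats 400000

universe u

open CategoryTheory CategoryTheory.Limits AlgebraicGeometry Opposite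

noncomputable section

namespace Groth.Agent.SmoothBCLib

attribute [local instance] Groth.Agent.S0101.result

/-- A morphism from a strictly henselian local scheme factors through the strict localization at the image of the
closed point. -/
theorem exists_specOf_lift {W : Scheme.{u}} {R : Type u} [CommRing R] [HenselianLocalRing R]
    [IsSepClosed (IsLocalRing.ResidueField R)] (v : Spec (CommRingCat.of R) ⟶ W) :
    ∃ (t : W) (R₁ : Type u) (_ : CommRing R₁) (_ : IsLocalRing R₁) (_ : Algebra (W.presheaf.stalk t) R₁)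
      (_ : IsLocalHom (algebraMap (W.presheaf.stalk t) R₁)) (_ : Hensel.IsStrictHenselization (W.presheaf.stalk t) R₁)
      (_ : IsSepClosed (IsLocalRing.ResidueField R₁)) (k : Spec (CommRingCat.of R) ⟶ Spec (CommRingCat.of R₁)),
      k ≫ Hens2.specOf W t R₁ = v := by
  let t := v (IsLocalRing.closedPoint R)
  let f : W.presheaf.stalk t ⟶ CommRingCat.of R := Scheme.stalkClosedPointTo v
  haveI : IsLocalHom f.hom := inferInstanceAs (IsLocalHom (Scheme.stalkClosedPointTo v).hom)
  obtain ⟨R₁, _, _, _, _, hR⟩ := Henselization.exists_strictHenselization (R := W.presheaf.stalk t)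
  haveI := hR
  haveI hsc := (Hensel.IsStrictHenselization.isSepClosure (R := W.presheaf.stalk t) (S := R₁))
  haveI := hsc.sep_closed
  haveI := hsc.separable
  letI : Algebra (IsLocalRing.ResidueField (W.presheaf.stalk t)) (IsLocalRing.ResidueField R) :=
    (IsLocalRing.ResidueField.map f.hom).toAlgebra
  let τ : IsLocalRing.ResidueField R₁ →ₐ[IsLocalRing.ResidueField (W.presheaf.stalk t)] IsLocalRing.ResidueField R :=
    IsSepClosed.lift
  obtain ⟨k, ⟨hk, -⟩, -⟩ := Hensel.IsStrictHenselization.universal (R := W.presheaf.stalk t) (S := R₁) R f.hom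
    τ.toRingHom (RingHom.ext fun x => τ.commutes x)
  refine ⟨t, R₁, inferInstance, inferInstance, inferInstance, inferInstance, hR, inferInstance,
    Spec.map (CommRingCat.ofHom k), ?_⟩
  rw [Hens2.specOf, ← Category.assoc, ← Spec.map_comp]
  refine Eq.trans ?_ (Scheme.Spec_stalkClosedPointTo_fromSpecStalk v)
  congr 2
  exact CommRingCat.hom_ext hk

/-- Pullback of classes along a morphism factoring through a scheme without classes vanishes. -/
theorem Hpull_eq_zero_of_factor {A B C : Scheme.{u}} (g : B ⟶ A) (f : C ⟶ B) (m : C ⟶ A) (w : f ≫ g = m)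
    (F : EtCoh.Ab A) (q : ℕ) (h : Subsingleton (EtCoh.H B ((EtCoh.pull g).obj F) q)) (x : EtCoh.H A F q) :
    EtCore.Hpull m F q x = 0 := by
  apply (PBCLib.bijective_map_comparePull g f m w F q).1
  rw [map_zero, ← PBCLib.Hpull_Hpull_eq g f m w F q x, Subsingleton.elim (EtCore.Hpull g F q x) 0, map_zero]

/-- If the pullbacks of `K` along all smooth morphisms have no higher direct image, neither does the pullback along a
morphism with ind-smooth strict localizations. -/
theorem isZero_Rpush_pull_indSmooth {S' S : Scheme.{u}} {g : S' ⟶ S} (hg : IndSmoothLoc g) {X X' : Scheme.{u}}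
    (f : X ⟶ S) [QuasiCompact f] [QuasiSeparated f] (f' : X' ⟶ S') (g' : X' ⟶ X) (h : IsPullback g' f' f g)
    (K : EtCoh.Ab X) (q : ℕ)
    (hK : ∀ {W : Scheme.{u}} (w : W ⟶ S), Smooth w →
      IsZero ((EtCoh.Rpush (pullback.snd f w) q).obj ((EtCoh.pull (pullback.fst f w)).obj K))) :
    IsZero ((EtCoh.Rpush f' q).obj ((EtCoh.pull g').obj K)) := by
  haveI : QuasiCompact f' := MorphismProperty.of_isPullback h ‹_›
  haveI : QuasiSeparated f' := MorphismProperty.of_isPullback h ‹_›
  refine isZero_Rpush_of_strictLoc f' _ q fun s R _ _ _ _ _ _ => ?_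
  haveI : HenselianLocalRing R := Hensel.IsStrictHenselization.henselian (S'.presheaf.stalk s)
  obtain ⟨V, hV, hs, hind⟩ := hg s R
  let j := hV.fromSpec
  let φ := S.presheaf.germ V (g s) hs ≫ g.stalkMap s ≫ CommRingCat.ofHom (algebraMap (S'.presheaf.stalk s) R)
  have hφ : Spec.map φ ≫ j = Hens2.specOf S' s R ≫ g := specMap_germ_stalkMap g s R hV hs
  obtain ⟨J, _, _, E, tE, sE, hE, hst⟩ := hind
  obtain ⟨α, _, _, _, F, _⟩ := IsFiltered.exists_directed.{u} J
  let Dα := F ⋙ E
  let cα : Cocone Dα := (Cocone.mk _ sE).whisker F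
  have hcα : IsColimit cα := (Functor.Final.isColimitWhiskerEquiv F _).symm hE
  let D : αᵒᵖ ⥤ Scheme.{u} := Dα.op ⋙ Scheme.Spec
  let c : Cone D := Scheme.Spec.mapCone cα.op
  have hc : IsLimit c := isLimitOfPreserves Scheme.Spec hcα.op
  let t : ∀ i, D.obj i ⟶ S := fun i => Spec.map (tE.app (F.obj i.unop)) ≫ j
  have ht : ∀ ⦃i k : αᵒᵖ⦄ (a : i ⟶ k), D.map a ≫ t k = t i := fun i k a => by
    show Spec.map (E.map (F.map a.unop)) ≫ Spec.map (tE.app (F.obj k.unop)) ≫ j = _
    rw [← Category.assoc, ← Spec.map_comp, ← tE.naturality (F.map a.unop)]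
    simp [t]
  let τ : c.pt ⟶ S := Spec.map φ ≫ j
  have hτ : ∀ i, c.π.app i ≫ t i = τ := fun i => by
    show Spec.map (sE.app (F.obj i.unop)) ≫ Spec.map (tE.app (F.obj i.unop)) ≫ j = _
    rw [← Category.assoc, ← Spec.map_comp, (hst _).2]
  haveI : ∀ i, Smooth (t i) := fun i => by
    haveI : Smooth (Spec.map (tE.app (F.obj i.unop))) := HasRingHomProperty.Spec_iff.2 (hst _).1
    exact inferInstanceAs (Smooth (_ ≫ _))
  haveI : ∀ i, IsAffine (D.obj i) := fun i => inferInstanceAs (IsAffine (Spec _))
  haveI : QuasiCompact (pullback.snd f j) := inferInstance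
  let P := pbDiag D t ht f
  have haffP : ∀ ⦃a b : αᵒᵖ⦄ (m : a ⟶ b), IsAffineHom (P.map m) := fun a b m => by
    refine MorphismProperty.of_isPullback (P := @IsAffineHom)
      (IsPullback.of_right (t := IsPullback.of_hasPullback f (t b)) (h₁₁ := P.map m) (v₁₁ := pullback.snd f (t a))
        (h₂₁ := D.map m) ?_ ?_).flip inferInstance
    · simp only [P, pbDiag_map, pullback.lift_fst, Category.comp_id, ht m]
      exact IsPullback.of_hasPullback f (t a)
    · simp [P]
  haveI : ∀ a, CompactSpace ↥(P.obj a) := fun a =>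
    QuasiCompact.compactSpace_of_compactSpace (pullback.snd f (t a))
  haveI : ∀ a, QuasiSeparatedSpace ↥(P.obj a) := fun a =>
    quasiSeparatedSpace_of_quasiSeparated (pullback.snd f (t a))
  let C := pbCone D t ht f c τ hτ
  have hC : IsLimit C := isLimitPbCone D t ht f c τ hτ hc
  haveI : Subsingleton (EtCoh.H (pullback f τ) ((EtCoh.pull (pullback.fst f τ)).obj K) q) := by
    obtain ⟨i₀⟩ := (inferInstance : Nonempty α)
    let F₀ : EtCoh.Ab (P.obj (op i₀)) := (EtCoh.pull (pullback.fst f (t (op i₀)))).obj K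
    have e₀ : C.π.app (op i₀) ≫ pullback.fst f (t (op i₀)) = pullback.fst f τ := by simp [C]
    refine @Function.Surjective.subsingleton _ _ _ ?_ (PBCLib.bijective_map_comparePull _ _ _ e₀ K q).1.hasLeftInverse.choose_spec.surjective
    refine subsingleton_of_forall_eq 0 fun x => ?_
    obtain ⟨i, hi, y, rfl⟩ := (S0646.result P haffP inferInstance inferInstance C hC i₀ F₀ q).1 x
    obtain ⟨p, R₁, _, _, _, _, _, _, k, hk⟩ := exists_specOf_lift (W := D.obj (op i)) (c.π.app (op i))
    let u := Hens2.specOf (D.obj (op i)) p R₁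
    let f₁ := pullback.snd f (t (op i))
    let B := pullback f₁ u
    let k' : C.pt ⟶ B := pullback.lift (C.π.app (op i)) (pullback.snd f τ ≫ k) (by
      simp [f₁, u, C, hk])
    have hk' : k' ≫ pullback.fst f₁ u = C.π.app (op i) := pullback.lift_fst _ _ _
    have hi' : P.map (homOfLE hi).op ≫ pullback.fst f (t (op i₀)) = pullback.fst f (t (op i)) := by simp [P]
    have hz : IsZero ((EtCoh.Rpush f₁ q).obj ((EtCoh.pull (P.map (homOfLE hi).op)).obj F₀)) := by
      haveI := EtLimLib.isIso_comparePull (pullback.fst f (t (op i₀))) (P.map (homOfLE hi).op) _ hi' K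
      exact (hK (t (op i)) inferInstance).of_iso ((EtCoh.Rpush f₁ q).mapIso
        (asIso ((EtLimLib.comparePull (pullback.fst f (t (op i₀))) (P.map (homOfLE hi).op) _ hi').app K)).symm)
    have hsub := subsingleton_H_of_isZero f₁ _ q hz p R₁
    exact (congrArg _ (Hpull_eq_zero_of_factor (pullback.fst f₁ u) k' _ hk' _ q hsub y)).trans (map_zero (Sheaf.H.map _ q))
  have sq : IsPullback (pullback.fst f' (Hens2.specOf S' s R) ≫ g') (pullback.snd f' (Hens2.specOf S' s R)) f τ := by
    show IsPullback _ _ f (Spec.map φ ≫ j)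
    rw [hφ]
    exact (IsPullback.of_hasPullback f' (Hens2.specOf S' s R)).flip.paste_vert h.flip |>.flip
  rw [← subsingleton_H_pull_pull g' (pullback.fst f' (Hens2.specOf S' s R)) _ rfl]
  exact subsingleton_H_pull_iso (pullback.fst f τ) sq.isoPullback.hom _ sq.isoPullback_hom_fst K q inferInstance

end Groth.Agent.SmoothBCLib
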