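import Groth.Agent.SmoothBCLib.IndSmoothFibre
import Groth.Agent.SmoothBCLib.IndSmoothVanish

/-!
# Base change along morphisms with ind-smooth strict localizations, given acyclicity of the henselized line
-/

set_option autoImplicit false
set_option linter.style.haveILetI false
set_option backward.isDefEq.respectTransparency false
set_option backward.isDefEq.respectTransparency.types false
set_option maxHeartbeats 2000000
set_option synthInstance.maxHeartbeats 400000

universe u

open CategoryTheory CategoryTheory.Limits AlgebraicGeometry Opposite IsLocalRing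

noncomputable section

namespace Groth.Agent.SmoothBCLib

attribute [local instance] Groth.Agent.S0101.result

/-- The maps of strict localizations are flat with connected geometric fibres. -/
theorem IndSmoothLoc.flat_connected {X S : Scheme.{u}} {g : X ⟶ S} (hg : IndSmoothLoc g) (x : X)
    (RS : Type u) [CommRing RS] [IsLocalRing RS] [Algebra (S.presheaf.stalk (g.base x)) RS]
    [IsLocalHom (algebraMap (S.presheaf.stalk (g.base x)) RS)]
    [Hensel.IsStrictHenselization (S.presheaf.stalk (g.base x)) RS]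
    (RX : Type u) [CommRing RX] [IsLocalRing RX] [Algebra (X.presheaf.stalk x) RX]
    [IsLocalHom (algebraMap (X.presheaf.stalk x) RX)] [Hensel.IsStrictHenselization (X.presheaf.stalk x) RX]
    (ψ : RS →+* RX) [IsLocalHom ψ]
    (hψ : ψ.comp (algebraMap (S.presheaf.stalk (g.base x)) RS) =
      (algebraMap (X.presheaf.stalk x) RX).comp (g.stalkMap x).hom) :
    Flat (Spec.map (CommRingCat.ofHom ψ)) ∧ GeometricallyConnected (Spec.map (CommRingCat.ofHom ψ)) := by
  obtain ⟨V, hV, hs, hind⟩ := hg x RX
  let A := Γ(S, V)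
  letI : Algebra A (S.presheaf.stalk (g.base x)) := (S.presheaf.germ V (g.base x) hs).hom.toAlgebra
  haveI : IsLocalization.AtPrime (S.presheaf.stalk (g.base x)) (hV.primeIdealOf ⟨g.base x, hs⟩).asIdeal :=
    hV.isLocalization_stalk ⟨g.base x, hs⟩
  haveI := WLocalLib.weaklyEtale_of_isLocalization (B := A) (B' := S.presheaf.stalk (g.base x))
    (hV.primeIdealOf ⟨g.base x, hs⟩).asIdeal.primeCompl
  haveI := S1467.weaklyEtale_sh (S.presheaf.stalk (g.base x)) RS
  letI : Algebra A RS := ((algebraMap (S.presheaf.stalk (g.base x)) RS).comp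
    (algebraMap A (S.presheaf.stalk (g.base x)))).toAlgebra
  haveI : IsScalarTower A (S.presheaf.stalk (g.base x)) RS := IsScalarTower.of_algebraMap_eq fun _ => rfl
  haveI : Algebra.WeaklyEtale A RS := Algebra.WeaklyEtale.trans A (S.presheaf.stalk (g.base x)) RS
  letI : Algebra RS RX := ψ.toAlgebra
  haveI : IsLocalHom (algebraMap RS RX) := ‹IsLocalHom ψ›
  letI : Algebra A RX :=
    (S.presheaf.germ V (g.base x) hs ≫ g.stalkMap x ≫ CommRingCat.ofHom (algebraMap (X.presheaf.stalk x) RX)).hom.toAlgebra
  haveI : IsScalarTower A RS RX := IsScalarTower.of_algebraMap_eq fun v =>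
    (RingHom.congr_fun hψ ((S.presheaf.germ V (g.base x) hs).hom v)).symm
  haveI := Hensel.IsStrictHenselization.henselian (R := S.presheaf.stalk (g.base x)) (S := RS)
  haveI : IsSepClosed (ResidueField RS) :=
    (Hensel.IsStrictHenselization.isSepClosure (R := S.presheaf.stalk (g.base x)) (S := RS)).sep_closed
  haveI : Module.Flat A RX := flat_of_indSmooth hind
  haveI : Module.Flat RS RX := WLocalLib.flat_of_weaklyEtale (A := A) RX
  refine ⟨?_, StrictLocLib.geometricallyConnected_of_algClosed _ fun Ω _ _ η =>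
    connectedSpace_geomFibre_of_indSmooth (V := A) (RX := RX) hind η⟩
  rw [HasRingHomProperty.Spec_iff (P := @Flat)]
  exact (inferInstance : Module.Flat RS RX)

variable {S' S : Scheme.{u}} {g : S' ⟶ S}

/-- Base change in degree zero. -/
theorem IndSmoothLoc.isIso_baseChange0 (hg : IndSmoothLoc g) {X X' : Scheme.{u}} (f : X ⟶ S) [QuasiCompact f]
    [QuasiSeparated f] (f' : X' ⟶ S') (g' : X' ⟶ X) (h : IsPullback g' f' f g) (F : EtCoh.Ab X) :
    IsIso (EtCoh.baseChange0 f g f' g' h.w F) :=
  StrictLocLib.isIso_baseChange0_of_strictLoc f g f' g' h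
    (fun x RS _ _ _ _ _ RX _ _ _ _ _ ψ _ hψ => hg.flat_connected x RS RX ψ hψ) F

theorem IndSmoothLoc.isIso_bcQ_zero (hg : IndSmoothLoc g) {X X' : Scheme.{u}} (f : X ⟶ S) [QuasiCompact f]
    [QuasiSeparated f] (f' : X' ⟶ S') (g' : X' ⟶ X) (h : IsPullback g' f' f g)
    [PreservesFiniteLimits (EtCoh.pull g')] (F : EtCoh.Ab X) : IsIso (EtBC.bcQ f g f' g' h.w 0 F) := by
  haveI := hg.isIso_baseChange0 f f' g' h F
  haveI : PreservesFiniteLimits (EtCoh.push f) :=
    (EtCoh.pullPushAdj f).rightAdjoint_preservesLimits.{0, 0}.preservesFiniteLimits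
  haveI : PreservesFiniteLimits (EtCoh.push f') :=
    (EtCoh.pullPushAdj f').rightAdjoint_preservesLimits.{0, 0}.preservesFiniteLimits
  haveI : IsIso ((EtCoh.pull g).map ((EtCoh.push f).toRightDerivedZero.app F) ≫ EtBC.bcQ f g f' g' h.w 0 F) := by
    rw [EtBC.bcQ_zero_compat f g f' g' h.w F]
    infer_instance
  exact IsIso.of_isIso_comp_left ((EtCoh.pull g).map ((EtCoh.push f).toRightDerivedZero.app F)) _

/-- Base change for sheaves killed by an integer invertible on the base. -/
theorem IndSmoothLoc.bcKilled (hkey : HenLineKey.{u}) {n : ℕ} (hn : 0 < n) (hg : IndSmoothLoc g)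
    (hS : InvOn n S) {X X' : Scheme.{u}} (f : X ⟶ S) [QuasiCompact f] [QuasiSeparated f] (f' : X' ⟶ S')
    (g' : X' ⟶ X) (h : IsPullback g' f' f g) [PreservesFiniteLimits (EtCoh.pull g')] :
    ∀ (q : ℕ) (F : EtCoh.Ab X), EtCoh.KilledBy n F → IsIso (EtBC.bcQ f g f' g' h.w q F) := by
  intro q
  induction q with
  | zero => exact fun F _ => hg.isIso_bcQ_zero f f' g' h F
  | succ q ih =>
    intro F hF
    obtain ⟨M, a, ha, hM, hz⟩ := BCVertLib.exists_killed_acyclic f hF
    haveI := ha
    have hz' : IsZero ((EtCoh.Rpush f' (q + 1)).obj ((EtCoh.pull g').obj M)) :=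
      isZero_Rpush_pull_indSmooth hg f f' g' h M (q + 1) fun {W} w hw => by
        haveI := hw
        haveI : IsIso (EtBC.bcQ f w (pullback.snd f w) (pullback.fst f w) pullback.condition (q + 1) M) :=
          bcKilled_smooth_of_key hkey hn w hS f _ _ (IsPullback.of_hasPullback f w) M hM (q + 1)
        haveI : (EtCoh.pull w).Additive := (EtCoh.pullPushAdj w).left_adjoint_additive
        exact ((EtCoh.pull w).map_isZero (hz q)).of_iso
          (asIso (EtBC.bcQ f w (pullback.snd f w) (pullback.fst f w) pullback.condition (q + 1) M)).symm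
    obtain ⟨hw, hm, hex⟩ := BCVertLib.mono_exact_of_acyclic f g f' g' h.w
      (S₀ := ShortComplex.mk a (cokernel.π a) (cokernel.condition a))
      { exact := ShortComplex.exact_cokernel a } q (hz q) (ih M hM)
      (ih _ (BCVertLib.killedBy_of_epi (cokernel.π a) hM))
    haveI := hm
    haveI : Epi (EtBC.bcQ f g f' g' h.w (q + 1) F) := hex.epi_f (hz'.eq_of_tgt _ _)
    exact isIso_of_mono_of_epi _

/-- **Base change along limits of smooth morphisms** for sheaves torsion for primes invertible on the base. -/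
theorem IndSmoothLoc.bcLTors (hkey : HenLineKey.{u}) (hg : IndSmoothLoc g) {X X' : Scheme.{u}} (f : X ⟶ S)
    [QuasiCompact f] [QuasiSeparated f] (f' : X' ⟶ S') (g' : X' ⟶ X) (h : IsPullback g' f' f g)
    [PreservesFiniteLimits (EtCoh.pull g')] :
    BCLTors f g f' g' h.w (EtAcyc.primesInvertibleOn S) := fun F hF q =>
  haveI : QuasiCompact f' := MorphismProperty.of_isPullback h ‹_›
  haveI : QuasiSeparated f' := MorphismProperty.of_isPullback h ‹_›
  isIso_bcQ_lTorsion f g f' g' h.w (fun G => hg.isIso_bcQ_zero f f' g' h G)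
    (fun n hn K hK j => hg.bcKilled hkey hn.1 (invOn_of_primesIn hn) f f' g' h j K hK) q F hF

end Groth.Agent.SmoothBCLib
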