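import Groth.Agent.SmoothBCLib.IndSmooth
import Groth.Agent.SmoothConnLib.Fibres
import Groth.Agent.S6280
import Groth.Agent.S1182

/-!
# Maps of strict localizations along ind-smooth morphisms are flat with connected geometric fibres
-/

set_option autoImplicit false
set_option linter.style.haveILetI false
set_option linter.unusedSectionVars false
set_option backward.isDefEq.respectTransparency false
set_option maxHeartbeats 2000000
set_option synthInstance.maxHeartbeats 400000

universe u

open CategoryTheory CategoryTheory.Limits AlgebraicGeometry IsLocalRing TensorProduct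
open Groth.Agent.SmoothConnLib

noncomputable section

namespace Groth.Agent.SmoothBCLib

/-- A map from a finitely presented algebra to an ind-smooth algebra factors through a smooth one. -/
theorem exists_factor_smooth {A B : Type u} [CommRing A] [CommRing B] [Algebra A B]
    (h : MorphismProperty.ind.{u} smoothProp.{u} (CommRingCat.ofHom (algebraMap A B))) (P : Type u) [CommRing P] [Algebra A P]
    [Algebra.FinitePresentation A P] (g : P →ₐ[A] B) :
    ∃ (E : Type u) (_ : CommRing E) (_ : Algebra A E) (_ : Algebra.Smooth A E)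
      (u : P →ₐ[A] E) (v : E →ₐ[A] B), v.comp u = g := by
  rw [MorphismProperty.ind_iff_exists smoothProp_le] at h
  obtain ⟨W, u, v, huv, hW⟩ := h (CommRingCat.ofHom (algebraMap A P))
    (CommRingCat.ofHom g.toRingHom)
    (CommRingCat.isFinitelyPresentable_hom _
      (RingHom.finitePresentation_algebraMap.2 inferInstance))
    (CommRingCat.hom_ext g.comp_algebraMap)
  letI : Algebra A W := (u.hom.comp (algebraMap A P)).toAlgebra
  refine ⟨W, inferInstance, inferInstance, hW.toAlgebra, ⟨u.hom, fun _ => rfl⟩,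
    ⟨v.hom, fun a => ?_⟩, AlgHom.ext fun p => congr($(huv).hom p)⟩
  exact (congr($(huv).hom (algebraMap A P a))).trans (g.commutes a)

/-- An ind-smooth algebra is flat. -/
theorem flat_of_indSmooth {A B : Type u} [CommRing A] [CommRing B] [Algebra A B]
    (h : MorphismProperty.ind.{u} smoothProp.{u} (CommRingCat.ofHom (algebraMap A B))) : Module.Flat A B := by
  refine Module.Flat.of_forall_isTrivialRelation fun {l f x} hfx => ?_
  let I : Ideal (MvPolynomial (Fin l) A) := Ideal.span {∑ i, f i • MvPolynomial.X i}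
  have hI : ∀ p ∈ I, MvPolynomial.aeval x p = 0 := by
    intro p hp
    obtain ⟨q, rfl⟩ := Ideal.mem_span_singleton.1 hp
    simp [hfx]
  haveI : Algebra.FinitePresentation A (MvPolynomial (Fin l) A ⧸ I) :=
    Algebra.FinitePresentation.quotient ⟨{∑ i, f i • MvPolynomial.X i}, by simp [I]⟩
  obtain ⟨E, _, _, _, u, v, huv⟩ :=
    exists_factor_smooth h _ (Ideal.Quotient.liftₐ I (MvPolynomial.aeval x) hI)
  let y : Fin l → E := fun i => u (Ideal.Quotient.mk I (MvPolynomial.X i))
  have hy : ∑ i, f i • y i = 0 := by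
    have : ∑ i, f i • y i = u (Ideal.Quotient.mk I (∑ i, f i • MvPolynomial.X i)) := by
      rw [← Ideal.Quotient.mkₐ_eq_mk A, map_sum, map_sum]
      exact Finset.sum_congr rfl fun i _ => by rw [map_smul, map_smul]; rfl
    rw [this, Ideal.Quotient.eq_zero_iff_mem.2 (Ideal.mem_span_singleton_self _), map_zero]
  obtain ⟨k, a, z, haz, ha⟩ := Module.Flat.isTrivialRelation_of_sum_smul_eq_zero (R := A) (M := E) (f := f) (x := y) hy
  refine ⟨k, a, fun j => v (z j), fun i => ?_, ha⟩
  have hx : v (y i) = x i :=
    (AlgHom.congr_fun huv _).trans (MvPolynomial.aeval_X x i)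
  rw [← hx, haz i, map_sum]
  simp

/-- A filtered colimit of normal rings is normal. -/
theorem isNormalRing_of_isColimit {α : Type u} [Preorder α] [IsDirected α (· ≤ ·)] [Nonempty α]
    (D : α ⥤ CommRingCat.{u}) (c : Cocone D) (hc : IsColimit c) (h : ∀ a, EGA4.IsNormalRing (D.obj a)) :
    EGA4.IsNormalRing c.pt := by
  let G : α → Type u := fun a => D.obj a
  let f : ∀ a b, a ≤ b → G a →+* G b := fun a b hab => (D.map (homOfLE hab)).hom
  haveI : DirectedSystem G fun a b hab => f a b hab :=
    { map_self := fun a x => by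
        show (D.map (homOfLE (le_refl a))).hom x = x
        rw [show homOfLE (le_refl a) = 𝟙 a from rfl, D.map_id]
        rfl
      map_map := fun k j i hij hjk x => by
        show (D.map (homOfLE hjk)).hom ((D.map (homOfLE hij)).hom x) = (D.map (homOfLE (hij.trans hjk))).hom x
        rw [← homOfLE_comp hij hjk, D.map_comp]
        rfl }
  let l : Ring.DirectLimit G (fun a b hab => f a b hab) →+* c.pt :=
    Ring.DirectLimit.lift G (fun a b hab => f a b hab) c.pt (fun a => (c.ι.app a).hom) fun a b hab x =>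
      congr($(c.w (homOfLE hab)).hom x)
  refine NormalTensor.isNormalRing_of_ringEquiv (RingEquiv.ofBijective l ⟨?_, fun y => ?_⟩) (S6280.result G f h)
  · refine (injective_iff_map_eq_zero l).2 fun x hx => ?_
    obtain ⟨a, x, rfl⟩ := Ring.DirectLimit.exists_of x
    rw [Ring.DirectLimit.lift_of] at hx
    obtain ⟨b, ab, _, e⟩ := Concrete.isColimit_exists_of_rep_eq D hc (i := a) (j := a) x 0
      (hx.trans (map_zero _).symm)
    rw [← Ring.DirectLimit.of_f (G := G) (f := fun a b hab => f a b hab) (leOfHom ab) x]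
    exact (congrArg _ (e.trans (map_zero _))).trans (map_zero _)
  · obtain ⟨a, x, rfl⟩ := Concrete.isColimit_exists_rep D hc y
    exact ⟨Ring.DirectLimit.of G (fun a b hab => f a b hab) a x, Ring.DirectLimit.lift_of ..⟩

/-- Base change to a normal domain of an ind-smooth algebra is normal. -/
theorem isNormalRing_tensor_indSmooth (V P R' : Type u) [CommRing V] [CommRing P] [CommRing R'] [IsDomain R']
    [IsIntegrallyClosed R'] [Algebra V P] [Algebra V R']
    (h : MorphismProperty.ind.{u} smoothProp.{u} (CommRingCat.ofHom (algebraMap V P))) :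
    EGA4.IsNormalRing (P ⊗[V] R') := by
  rw [MorphismProperty.ind_iff_ind_underMk] at h
  obtain ⟨J, _, _, pres, hpres⟩ := h
  obtain ⟨α, _, _, _, F, _⟩ := IsFiltered.exists_directed.{u} J
  let r : CommRingCat.of V ⟶ CommRingCat.of R' := CommRingCat.ofHom (algebraMap V R')
  let Φ := Under.pushout r ⋙ CategoryTheory.Under.forget (CommRingCat.of R')
  haveI : (Under.pushout r).IsLeftAdjoint := (Under.mapPushoutAdj r).isLeftAdjoint
  haveI : IsFiltered α := inferInstance
  haveI : IsConnected α := IsFiltered.isConnected α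
  let D := (F ⋙ pres.diag) ⋙ Φ
  let c : Cocone D := Φ.mapCocone ((Cocone.mk _ pres.ι).whisker F)
  have hc : IsColimit c :=
    isColimitOfPreserves Φ ((Functor.Final.isColimitWhiskerEquiv F _).symm pres.isColimit)
  have hN : EGA4.IsNormalRing c.pt := isNormalRing_of_isColimit D c hc fun a => by
    let A := Φ.obj (pres.diag.obj (F.obj a))
    let i : CommRingCat.of R' ⟶ A := pushout.inr (pres.diag.obj (F.obj a)).hom r
    have hi : smoothProp i := MorphismProperty.pushout_inr _ _ (hpres (F.obj a))
    letI : Algebra R' A := i.hom.toAlgebra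
    haveI : Algebra.Smooth R' A := RingHom.smooth_algebraMap.1 hi
    exact (S1182.result R' A).1 (NormalTensor.isNormalRing_of_domain R')
  exact NormalTensor.isNormalRing_of_ringEquiv
    (((CommRingCat.isPushout_tensorProduct V P R').isoPushout).symm.commRingCatIsoToRingEquiv) hN

/-- The base change to a normal domain integral over a strictly local base of a local ind-smooth algebra is a
domain. -/
theorem isDomain_tensor_indSmooth (V RS RX R' : Type u) [CommRing V] [CommRing RS] [CommRing RX] [CommRing R']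
    [IsLocalRing RS] [IsSepClosed (ResidueField RS)] [IsLocalRing RX] [IsLocalRing R'] [IsDomain R']
    [IsIntegrallyClosed R'] [Algebra V RS] [Algebra V RX]
    [Algebra RS RX] [IsLocalHom (algebraMap RS RX)] [Module.Flat RS RX]
    [IsScalarTower V RS RX] [Algebra.WeaklyEtale V RS]
    [Algebra V R'] [Algebra RS R'] [IsScalarTower V RS R'] [Algebra.IsIntegral RS R']
    (hV : MorphismProperty.ind.{u} smoothProp.{u} (CommRingCat.ofHom (algebraMap V RX))) :
    IsDomain (RX ⊗[RS] R') := by
  letI := (pushHom V RX RS RX R').toRingHom.toAlgebra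
  haveI : Algebra.WeaklyEtale (RX ⊗[V] R') (RX ⊗[RS] R') := weaklyEtale_pushHom V RX RS RX R'
  haveI := isLocalRing_tensor RS RX R'
  exact isDomain_of_weaklyEtale_normal (RX ⊗[V] R') (RX ⊗[RS] R') (isNormalRing_tensor_indSmooth V RX R' hV)

variable {V RS RX : Type u} [CommRing V] [CommRing RS] [CommRing RX]
  [IsLocalRing RX] [HenselianLocalRing RS] [IsSepClosed (ResidueField RS)]
  [Algebra V RS] [Algebra V RX]
  [Algebra RS RX] [IsLocalHom (algebraMap RS RX)] [Module.Flat RS RX]
  [IsScalarTower V RS RX] [Algebra.WeaklyEtale V RS]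

/-- The geometric fibres of `Spec RX → Spec RS` are connected. -/
theorem connectedSpace_geomFibre_of_indSmooth
    (hV : MorphismProperty.ind.{u} smoothProp.{u} (CommRingCat.ofHom (algebraMap V RX))) {Ω : Type u} [Field Ω] [IsAlgClosed Ω]
    (η : Spec (CommRingCat.of Ω) ⟶ Spec (CommRingCat.of RS)) :
    ConnectedSpace ↥(pullback (Spec.map (CommRingCat.ofHom (algebraMap RS RX))) η) := by
  obtain ⟨ω, rfl⟩ := Spec.map_surjective η
  let p := RingHom.ker ω.hom
  haveI : p.IsPrime := RingHom.ker_isPrime _
  let A := RS ⧸ p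
  let ω' : A →+* Ω := RingHom.kerLift ω.hom
  have hω' : Function.Injective ω' := RingHom.kerLift_injective ω.hom
  let K := FractionRing A
  let ωK : K →+* Ω := IsFractionRing.lift hω'
  let L := AlgebraicClosure K
  letI : Algebra K Ω := ωK.toAlgebra
  let j : L →ₐ[K] Ω := IsAlgClosed.lift
  let R' := integralClosure A L
  haveI : Algebra.IsAlgebraic A K := IsLocalization.isAlgebraic K (nonZeroDivisors A)
  haveI : Algebra.IsAlgebraic A L := Algebra.IsAlgebraic.trans A K L
  have hinjAL : ∀ x : A, algebraMap A L x = 0 → x = 0 := fun x hx => by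
    rw [IsScalarTower.algebraMap_apply A K L, map_eq_zero, map_eq_zero_iff _ (IsFractionRing.injective A K)] at hx
    exact hx
  haveI : IsFractionRing R' L := integralClosure.isFractionRing_of_algebraic hinjAL
  haveI : IsIntegrallyClosed R' :=
    (isIntegrallyClosed_iff L).2 fun {x} hx => ⟨⟨x, isIntegral_trans (R := A) x hx⟩, rfl⟩
  letI : Algebra RS R' := ((algebraMap A R').comp (Ideal.Quotient.mk p)).toAlgebra
  haveI : IsScalarTower RS A K := inferInstance
  haveI : IsScalarTower RS A L := IsScalarTower.of_algebraMap_eq fun x => by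
    rw [IsScalarTower.algebraMap_apply RS K L, IsScalarTower.algebraMap_apply RS A K,
      ← IsScalarTower.algebraMap_apply A K L]
  haveI : IsScalarTower RS R' L := IsScalarTower.of_algebraMap_eq fun x => IsScalarTower.algebraMap_apply RS A L x
  haveI : IsScalarTower RS A R' := IsScalarTower.of_algebraMap_eq fun _ => rfl
  haveI : Algebra.IsIntegral RS A := Algebra.IsIntegral.of_surjective (Algebra.ofId RS A) Ideal.Quotient.mk_surjective
  haveI : Algebra.IsIntegral RS R' := Algebra.IsIntegral.trans A
  haveI : IsLocalRing R' := WLocalLib.isLocalRing_of_isIntegral RS R'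
  letI : Algebra V R' := ((algebraMap RS R').comp (algebraMap V RS)).toAlgebra
  haveI : IsScalarTower V RS R' := IsScalarTower.of_algebraMap_eq fun _ => rfl
  haveI := isDomain_tensor_indSmooth V RS RX R' hV
  let B := RX ⊗[RS] R'
  let C := RX ⊗[RS] L
  let u : B →ₐ[RS] C := Algebra.TensorProduct.map (AlgHom.id RS RX) (IsScalarTower.toAlgHom RS R' L)
  have hu : Function.Injective u := by
    have h := Module.Flat.lTensor_preserves_injective_linearMap (M := RX)
      (IsScalarTower.toAlgHom RS R' L).toLinearMap (IsFractionRing.injective R' L)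
    exact fun a b e => h e
  have hgen : ∀ c : C, ∃ (b : B) (d : R'), d ≠ 0 ∧ c * ((1 : RX) ⊗ₜ[RS] algebraMap R' L d) = u b := by
    intro c
    induction c using TensorProduct.induction_on with
    | zero => exact ⟨0, 1, one_ne_zero, by rw [zero_mul, map_zero]⟩
    | tmul x l =>
      obtain ⟨⟨a, d⟩, had⟩ := IsLocalization.surj (nonZeroDivisors R') l
      refine ⟨x ⊗ₜ a, d, nonZeroDivisors.ne_zero d.2, ?_⟩
      rw [Algebra.TensorProduct.tmul_mul_tmul, mul_one, had]
      rfl
    | add c₁ c₂ h₁ h₂ =>
      obtain ⟨b₁, d₁, hd₁, e₁⟩ := h₁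
      obtain ⟨b₂, d₂, hd₂, e₂⟩ := h₂
      refine ⟨b₁ * ((1 : RX) ⊗ₜ[RS] d₂) + b₂ * ((1 : RX) ⊗ₜ[RS] d₁), d₁ * d₂, mul_ne_zero hd₁ hd₂, ?_⟩
      have hd : ∀ d : R', u ((1 : RX) ⊗ₜ[RS] d) = (1 : RX) ⊗ₜ[RS] algebraMap R' L d := fun d => rfl
      have hm : ((1 : RX) ⊗ₜ[RS] algebraMap R' L (d₁ * d₂)) =
          ((1 : RX) ⊗ₜ[RS] algebraMap R' L d₁) * ((1 : RX) ⊗ₜ[RS] algebraMap R' L d₂) := by
        rw [Algebra.TensorProduct.tmul_mul_tmul, one_mul, map_mul]
      rw [hm, map_add, map_mul u b₁, map_mul u b₂, hd d₂, hd d₁, ← e₁, ← e₂]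
      ring
  haveI : Module.FaithfullyFlat RS RX := Module.FaithfullyFlat.of_flat_of_isLocalHom
  haveI : Nontrivial C := Module.FaithfullyFlat.lTensor_nontrivial RS RX L
  have hdu : ∀ d : R', d ≠ 0 → IsUnit ((1 : RX) ⊗ₜ[RS] algebraMap R' L d : C) := fun d hd =>
    (isUnit_iff_ne_zero.2 ((map_ne_zero_iff _ (IsFractionRing.injective R' L)).2 hd)).map
      (Algebra.TensorProduct.includeRight (R := RS) (A := RX) (B := L))
  haveI : NoZeroDivisors C := ⟨fun {c₁ c₂} h => by
    obtain ⟨b₁, d₁, hd₁, e₁⟩ := hgen c₁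
    obtain ⟨b₂, d₂, hd₂, e₂⟩ := hgen c₂
    have h0 : u (b₁ * b₂) = 0 := by
      rw [map_mul, ← e₁, ← e₂, mul_mul_mul_comm, h, zero_mul]
    rcases mul_eq_zero.1 ((map_eq_zero_iff _ hu).1 h0) with hb | hb
    · left
      rw [hb, map_zero] at e₁
      exact (hdu d₁ hd₁).mul_left_eq_zero.1 e₁
    · right
      rw [hb, map_zero] at e₂
      exact (hdu d₂ hd₂).mul_left_eq_zero.1 e₂⟩
  haveI : IsDomain C := NoZeroDivisors.to_isDomain C
  haveI : ConnectedSpace ↥(Spec (CommRingCat.of C)) :=
    inferInstanceAs (ConnectedSpace (PrimeSpectrum C))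
  let eL := pullbackSpecIso RS RX L
  haveI : ConnectedSpace ↥(pullback (Spec.map (CommRingCat.ofHom (algebraMap RS RX)))
      (Spec.map (CommRingCat.ofHom (algebraMap RS L)))) :=
    GeomIrred.connectedSpace_of_surjective eL.inv eL.inv.surjective inferInstance
  have hfac : Spec.map ω =
      Spec.map (CommRingCat.ofHom j.toRingHom) ≫ Spec.map (CommRingCat.ofHom (algebraMap RS L)) := by
    rw [← Spec.map_comp]
    congr 1
    refine CommRingCat.hom_ext (RingHom.ext fun s => ?_)
    show ω.hom s = j (algebraMap A L (Ideal.Quotient.mk p s))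
    rw [IsScalarTower.algebraMap_apply A K L, j.commutes]
    exact ((IsFractionRing.lift_algebraMap hω' (Ideal.Quotient.mk p s)).trans (RingHom.kerLift_mk _ _)).symm
  haveI hgc := GeomIrred.geometricallyConnected_of_connectedSpace (k := L)
    (pullback.snd (Spec.map (CommRingCat.ofHom (algebraMap RS RX))) (Spec.map (CommRingCat.ofHom (algebraMap RS L))))
  rw [hfac]
  let a := Spec.map (CommRingCat.ofHom j.toRingHom)
  let s := pullback.snd (Spec.map (CommRingCat.ofHom (algebraMap RS RX))) (Spec.map (CommRingCat.ofHom (algebraMap RS L)))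
  haveI : ConnectedSpace ↥(pullback s a) :=
    hgc.geometrically_connectedSpace a (pullback.fst s a) (pullback.snd s a) (IsPullback.of_hasPullback s a)
  let e := pullbackLeftPullbackSndIso (Spec.map (CommRingCat.ofHom (algebraMap RS RX)))
    (Spec.map (CommRingCat.ofHom (algebraMap RS L))) a
  exact GeomIrred.connectedSpace_of_surjective e.hom e.hom.surjective inferInstance

end Groth.Agent.SmoothBCLib
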