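import Groth.Agent.SmoothBCLib.Limit
import Groth.Agent.BCVertLib.Local

/-!
# Acyclicity at geometric points is local on the base
-/

set_option autoImplicit false
set_option linter.style.haveILetI false
set_option backward.isDefEq.respectTransparency false
set_option backward.isDefEq.respectTransparency.types false
set_option maxHeartbeats 2000000
set_option synthInstance.maxHeartbeats 400000

universe u

open CategoryTheory CategoryTheory.Limits AlgebraicGeometry Opposite

noncomputable section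

namespace Groth.Agent.SmoothBCLib

/-- Vanishing of a sheaf on an empty scheme. -/
theorem isZero_of_isEmpty {X : Scheme.{u}} [IsEmpty X] (F : EtCoh.Ab X) : IsZero F :=
  isZero_of_points F fun x => isEmptyElim x

/-- It is enough to check acyclicity at a point over affine opens of the base containing it. -/
theorem isZero_Rpush_pull_local {S' S : Scheme.{u}} (g : S' ⟶ S) {K : Type u} [Field K]
    (ξ : Spec (CommRingCat.of K) ⟶ S) {P : Scheme.{u}} (a : P ⟶ S') (b : P ⟶ Spec (CommRingCat.of K))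
    (hP : IsPullback a b g ξ) (G : EtCoh.Ab (Spec (CommRingCat.of K))) (q : ℕ)
    (hloc : ∀ (A : CommRingCat.{u}) (j : Spec A ⟶ S) [IsOpenImmersion j] (φ : A ⟶ CommRingCat.of K),
      Spec.map φ ≫ j = ξ → ∀ (P' : Scheme.{u}) (a' : P' ⟶ pullback g j) (b' : P' ⟶ Spec (CommRingCat.of K)),
        IsPullback a' b' (pullback.snd g j) (Spec.map φ) →
          IsZero ((EtCoh.Rpush a' (q + 1)).obj ((EtCoh.pull b').obj G))) :
    IsZero ((EtCoh.Rpush a (q + 1)).obj ((EtCoh.pull b).obj G)) := by
  let 𝒲 := S.affineCover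
  let U : 𝒲.I₀ → S'.Etale := fun i => MorphismProperty.Over.mk ⊤ (pullback.fst g (𝒲.f i)) inferInstance
  have hU : EtCoh.Covers U := fun x => by
    obtain ⟨i, y, hy⟩ := 𝒲.exists_eq (g x)
    obtain ⟨z, hz, -⟩ := Scheme.Pullback.exists_preimage_pullback (f := g) (g := 𝒲.f i) x y hy.symm
    exact ⟨i, z, hz⟩
  let N := (EtCoh.pull b).obj G
  have key : ∀ i, IsZero ((EtCoh.pull (U i).hom).obj ((EtCoh.Rpush a (q + 1)).obj N)) := fun i => by
    let j : pullback g (𝒲.f i) ⟶ S' := pullback.fst g (𝒲.f i)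
    let gU : pullback g (𝒲.f i) ⟶ 𝒲.X i := pullback.snd g (𝒲.f i)
    let aU := pullback.snd a j
    let k := pullback.fst a j
    have hk : IsPullback k aU a j := IsPullback.of_hasPullback a j
    haveI := BCVertLib.isIso_bcQ_etale a j aU k hk (q + 1) N
    refine IsZero.of_iso ?_ (asIso (EtBC.bcQ a j aU k hk.w (q + 1) N))
    by_cases hi : ξ default ∈ Set.range (𝒲.f i)
    · let ξU : Spec (CommRingCat.of K) ⟶ 𝒲.X i := IsOpenImmersion.lift (𝒲.f i) ξ (by
        rintro _ ⟨y, rfl⟩
        rw [Subsingleton.elim y default]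
        exact hi)
      have hξ : ξU ≫ 𝒲.f i = ξ := IsOpenImmersion.lift_fac _ _ _
      have h2 : IsPullback aU (k ≫ b) gU ξU := by
        have h1 : IsPullback aU (k ≫ b) (gU ≫ 𝒲.f i) (ξU ≫ 𝒲.f i) := by
          rw [hξ, show gU ≫ 𝒲.f i = j ≫ g from pullback.condition.symm]
          exact hk.flip.paste_vert hP
        exact IsPullback.of_iso (IsPullback.of_hasPullback gU ξU)
          (h1.isoIsPullback _ _ (CdFieldLib.isPullback_of_comp_mono gU ξU (𝒲.f i))).symm (Iso.refl _) (Iso.refl _)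
          (Iso.refl _) (by simp) (by simp) (by simp) (by simp)
      obtain ⟨φ, hφ⟩ := Spec.map_surjective ξU
      rw [← hφ] at h2
      exact (hloc _ (𝒲.f i) φ (hφ.symm ▸ hξ) _ aU (k ≫ b) h2).of_iso
        ((EtCoh.Rpush aU (q + 1)).mapIso (((EtCore.pullComp k b).app G).symm))
    · haveI : IsEmpty ↥(pullback a j) := ⟨fun x => hi ⟨gU (aU x), by
        have e : aU ≫ gU ≫ 𝒲.f i = (k ≫ b) ≫ ξ := by
          rw [show gU ≫ 𝒲.f i = j ≫ g from pullback.condition.symm, ← Category.assoc, ← hk.w, Category.assoc, hP.w,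
            Category.assoc]
        rw [← Scheme.Hom.comp_apply, ← Scheme.Hom.comp_apply, e, Scheme.Hom.comp_apply,
          Subsingleton.elim ((k ≫ b) x) default]⟩⟩
      haveI : (EtCoh.Rpush aU (q + 1)).Additive := inferInstance
      exact (EtCoh.Rpush aU (q + 1)).map_isZero (isZero_of_isEmpty _)
  haveI := BCVertLib.isIso_of_covers U hU (0 : (EtCoh.Rpush a (q + 1)).obj N ⟶ (EtCoh.Rpush a (q + 1)).obj N)
    fun i => ⟨0, (key i).eq_of_src _ _, (key i).eq_of_src _ _⟩
  rw [IsZero.iff_id_eq_zero]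
  rw [← cancel_mono (0 : (EtCoh.Rpush a (q + 1)).obj N ⟶ (EtCoh.Rpush a (q + 1)).obj N)]
  simp

end Groth.Agent.SmoothBCLib
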