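import Groth.Agent.SmoothBCLib.Line
import Groth.Agent.SmoothBCLib.Const
import Groth.Agent.ConstGenLib.SepPoint
import Groth.Agent.PBCLib.Final
import Groth.Agent.PBCLib.Fibration

/-!
# Acyclicity at a point through a proper morphism

If a point `η` of a proper scheme `Y` over `S` is acyclic after base change along the line over `Y`, then so is
its image in `S`, by proper base change.
-/

set_option autoImplicit false
set_option linter.style.haveILetI false
set_option backward.isDefEq.respectTransparency false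
set_option backward.isDefEq.respectTransparency.types false
set_option maxHeartbeats 2000000
set_option synthInstance.maxHeartbeats 400000

universe u

open CategoryTheory CategoryTheory.Limits AlgebraicGeometry Opposite

noncomputable section

namespace Groth.Agent.SmoothBCLib

/-- A natural number invertible in the functions. -/
def InvOn (n : ℕ) (S : Scheme.{u}) : Prop := IsUnit (n : Γ(S, ⊤))

theorem InvOn.of_hom {n : ℕ} {S T : Scheme.{u}} (hS : InvOn n S) (f : T ⟶ S) : InvOn n T := by
  have := hS.map f.appTop.hom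
  rwa [map_natCast] at this

/-- `ℤ/d` is acyclic on the fibres of the strict localizations of affine lines at algebraic geometric points. -/
def AlgLineVanish (n : ℕ) : Prop :=
  ∀ {S' S : Scheme.{u}} (g : S' ⟶ S), IsLine g → InvOn n S → ∀ (K : Type u) [Field K] [IsAlgClosed K]
    (ξ : Spec (CommRingCat.of K) ⟶ S), PBCLib.IsAlgPt ξ → ∀ (s : S') (R : Type u) [CommRing R] [IsLocalRing R]
      [Algebra (S'.presheaf.stalk s) R] [IsLocalHom (algebraMap (S'.presheaf.stalk s) R)]
      [Hensel.IsStrictHenselization (S'.presheaf.stalk s) R] [IsSepClosed (IsLocalRing.ResidueField R)]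
      (q : ℕ), ZModVanish (pullback (Hens2.specOf S' s R ≫ g) ξ) n (q + 1)

/-- Read off the vanishing on the fibre from the vanishing of the direct image. -/
theorem zmodVanish_of_isZero {S' S : Scheme.{u}} {g : S' ⟶ S} {n : ℕ} {K : Type u} [Field K]
    {ξ : Spec (CommRingCat.of K) ⟶ S} [QuasiCompact ξ] [QuasiSeparated ξ] {P : Scheme.{u}}
    {a : P ⟶ S'} {b : P ⟶ Spec (CommRingCat.of K)} (hP : IsPullback a b g ξ) (q : ℕ)
    (h : ∀ G : EtCoh.Ab (Spec (CommRingCat.of K)), EtCoh.KilledBy n G →
      IsZero ((EtCoh.Rpush a q).obj ((EtCoh.pull b).obj G)))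
    (s : S') (R : Type u) [CommRing R] [IsLocalRing R] [Algebra (S'.presheaf.stalk s) R]
    [IsLocalHom (algebraMap (S'.presheaf.stalk s) R)] [Hensel.IsStrictHenselization (S'.presheaf.stalk s) R]
    [IsSepClosed (IsLocalRing.ResidueField R)] : ZModVanish (pullback (Hens2.specOf S' s R ≫ g) ξ) n q := by
  intro d hd _
  haveI : QuasiCompact a := MorphismProperty.of_isPullback hP.flip inferInstance
  haveI : QuasiSeparated a := MorphismProperty.of_isPullback hP.flip inferInstance
  let u := Hens2.specOf S' s R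
  let G := EtCoh.const (Spec (CommRingCat.of K)) (ZMod d)
  have hG : EtCoh.KilledBy n G := fun U x => by
    obtain ⟨m, rfl⟩ := hd
    rw [mul_comm, mul_smul, PBCLib.killedBy_const (Spec (CommRingCat.of K)) d U x, smul_zero]
  have h0 := subsingleton_H_of_isZero a _ _ (h G hG) s R
  rw [← subsingleton_H_pull_pull b (pullback.fst a u) _ rfl] at h0
  have sq : IsPullback (pullback.snd a u) (pullback.fst a u ≫ b) (u ≫ g) ξ :=
    (IsPullback.of_hasPullback a u).flip.paste_vert hP
  have h1 := subsingleton_H_pull_iso _ sq.isoPullback.inv (pullback.snd (u ≫ g) ξ)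
    sq.isoPullback_inv_snd G q h0
  exact CdFieldLib.subsingleton_H_of_iso' (EtCore.pullConst (pullback.snd (u ≫ g) ξ) (ZMod d)).symm q h1

/-- The proper step. -/
theorem isZero_Rpush_pull_of_proper {n : ℕ} (hn : 0 < n) (hkey : AlgLineVanish.{u} n) {S' S : Scheme.{u}}
    {g : S' ⟶ S} (hg : IsLine g) (hS : InvOn n S) {Y : Scheme.{u}} (p : Y ⟶ S) [IsProper p] {K : Type u}
    [Field K] [IsAlgClosed K] (η : Spec (CommRingCat.of K) ⟶ Y) (hη : PBCLib.IsAlgPt η)
    [QuasiCompact η] [QuasiSeparated η] (q : ℕ) :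
    ∃ (P : Scheme.{u}) (a : P ⟶ S') (b : P ⟶ Spec (CommRingCat.of K)), IsPullback a b g (η ≫ p) ∧
      ∀ G : EtCoh.Ab (Spec (CommRingCat.of K)), EtCoh.KilledBy n G →
        IsZero ((EtCoh.Rpush a (q + 1)).obj ((EtCoh.pull b).obj G)) := by
  let g₁ := pullback.snd g p
  let p' := pullback.fst g p
  have sq : IsPullback p' g₁ g p := IsPullback.of_hasPullback g p
  have hl : IsLine g₁ := hg.isPullback_map sq
  haveI := hl.smooth
  let a₁ := pullback.fst g₁ η
  let b₁ := pullback.snd g₁ η
  have sq₁ : IsPullback a₁ b₁ g₁ η := IsPullback.of_hasPullback g₁ η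
  refine ⟨_, a₁ ≫ p', b₁, sq₁.paste_horiz sq, fun G hG => ?_⟩
  have hz : ∀ j, IsZero ((EtCoh.Rpush a₁ (j + 1)).obj ((EtCoh.pull b₁).obj G)) := fun j =>
    isZero_Rpush_pull_of_zmod hn sq₁ (j + 1)
      (fun s R _ _ _ _ _ _ => hkey g₁ hl (hS.of_hom p) K η hη s R j) G hG
  obtain ⟨e⟩ := nonempty_Rpush_push_iso a₁ p' ((EtCoh.pull b₁).obj G) hz (q + 1)
  refine IsZero.of_iso ?_ e.symm
  haveI := StrictLocLib.isIso_baseChange0_of_smooth η g₁ a₁ b₁ sq₁.flip G
  refine IsZero.of_iso ?_ ((EtCoh.Rpush p' (q + 1)).mapIso (asIso (EtCoh.baseChange0 η g₁ a₁ b₁ sq₁.flip.w G))).symm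
  haveI : PreservesFiniteLimits (EtCoh.pull g₁) := Groth.Agent.S0101.result g₁
  let M := (EtCoh.push η).obj G
  have hM : EtCoh.IsTorsion M := PBCLib.isTorsion_of_killedBy' hn (CompBCLib.killedBy_push η hG)
  haveI := PBCLib.bcAll_of_proper p g p' g₁ sq.flip M hM (q + 1)
  refine IsZero.of_iso ?_ (asIso (EtBC.bcQ p g p' g₁ sq.flip.w (q + 1) M)).symm
  exact (EtCoh.pull g).map_isZero (ConstGenLib.isZero_Rpush_push_sepPoint η p G q)

end Groth.Agent.SmoothBCLib
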