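import Groth.Agent.SmoothBCLib.FieldExtBC

/-!
# Field extension forms
-/

set_option autoImplicit false
set_option linter.style.haveILetI false
set_option backward.isDefEq.respectTransparency false
set_option backward.isDefEq.respectTransparency.types false
set_option maxHeartbeats 1000000

universe u

open CategoryTheory CategoryTheory.Limits AlgebraicGeometry Opposite

noncomputable section

namespace Groth.Agent.SmoothBCLib

attribute [local instance] Groth.Agent.S0101.result

/-- Degree zero base change from the base change of `R^0`. -/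
theorem isIso_baseChange0_of_bcQ_zero {X S X' S' : Scheme.{u}} (f : X ⟶ S) (g : S' ⟶ S) (f' : X' ⟶ S')
    (g' : X' ⟶ X) (w : g' ≫ f = f' ≫ g) [PreservesFiniteLimits (EtCoh.pull g')] (F : EtCoh.Ab X)
    (h : IsIso (EtBC.bcQ f g f' g' w 0 F)) : IsIso (EtCoh.baseChange0 f g f' g' w F) := by
  haveI : PreservesFiniteLimits (EtCoh.push f) :=
    (EtCoh.pullPushAdj f).rightAdjoint_preservesLimits.{0, 0}.preservesFiniteLimits
  haveI : PreservesFiniteLimits (EtCoh.push f') :=
    (EtCoh.pullPushAdj f').rightAdjoint_preservesLimits.{0, 0}.preservesFiniteLimits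
  haveI : IsIso ((EtCoh.pull g).map ((EtCoh.push f).toRightDerivedZero.app F) ≫ EtBC.bcQ f g f' g' w 0 F) :=
    inferInstance
  rw [EtBC.bcQ_zero_compat f g f' g' w F] at this
  exact IsIso.of_isIso_comp_right _ ((EtCoh.push f').toRightDerivedZero.app _)

/-- Base change along an extension of the base field, one degree at a time. -/
theorem fieldExt_base_change (hkey : HenLineKey.{u}) {K L : Type u} [Field K] [Field L] (φ : K →+* L)
    {T S T' S' : Scheme.{u}} (b : S ⟶ Spec (CommRingCat.of K)) (g : T ⟶ S) [QuasiCompact g] [QuasiSeparated g]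
    (p : S' ⟶ S) (b' : S' ⟶ Spec (CommRingCat.of L)) (hS : IsPullback p b' b (Spec.map (CommRingCat.ofHom φ)))
    (g' : T' ⟶ S') (p' : T' ⟶ T) (hT : IsPullback p' g' g p)
    (F : EtCoh.Ab T) (hF : EtPBC.IsTorsionInvertibleOn (Spec (CommRingCat.of K)) F) (q : ℕ) :
    Nonempty ((EtCoh.pull p).obj ((EtCoh.Rpush g q).obj F) ≅ (EtCoh.Rpush g' q).obj ((EtCoh.pull p').obj F)) ∧
      IsIso (EtCoh.baseChange0 g p g' p' hT.w F) := by
  have H := bcInv_fieldExt hkey φ b p b' hS g g' p' hT F (isLTorsion_of_invertibleOn (g ≫ b) hF)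
  haveI := H q
  exact ⟨⟨asIso (EtBC.bcQ g p g' p' hT.w q F)⟩, isIso_baseChange0_of_bcQ_zero g p g' p' hT.w F (H 0)⟩

end Groth.Agent.SmoothBCLib
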