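import Groth.Agent.SmoothBCLib.PtAcyclic
import Groth.Agent.SmoothBCLib.Comp
import Groth.Agent.StrictLocLib.SmoothBC
import Groth.Agent.BCVertLib.Connecting
import Groth.Agent.BCVertLib.KilledEfface
import Groth.Agent.BCVertLib.Local
import Groth.Agent.CompBCLib.Killed
import Groth.Agent.EtPtsLib.UnitMono

/-!
# Smooth base change for sheaves killed by `n` from acyclicity at geometric points
-/

set_option autoImplicit false
set_option linter.style.haveILetI false
set_option backward.isDefEq.respectTransparency false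
set_option backward.isDefEq.respectTransparency.types false
set_option maxHeartbeats 2000000
set_option synthInstance.maxHeartbeats 400000

universe u

open CategoryTheory CategoryTheory.Limits AlgebraicGeometry Opposite

noncomputable section

namespace Groth.Agent.SmoothBCLib

/-- Base change along `g` for sheaves killed by `n`, for all quasi-compact quasi-separated morphisms. -/
def BCKilled {S' S : Scheme.{u}} (g : S' ⟶ S) (n : ℕ) : Prop :=
  ∀ {X X' : Scheme.{u}} (f : X ⟶ S) [QuasiCompact f] [QuasiSeparated f] (f' : X' ⟶ S') (g' : X' ⟶ X)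
    (h : IsPullback g' f' f g) [PreservesFiniteLimits (EtCoh.pull g')] (F : EtCoh.Ab X), EtCoh.KilledBy n F →
      ∀ q : ℕ, IsIso (EtBC.bcQ f g f' g' h.w q F)

/-- `PtAcyclic` after every base change. -/
def UPtAcyclic {S' S : Scheme.{u}} (g : S' ⟶ S) (n : ℕ) : Prop :=
  ∀ {S₁ S₁' : Scheme.{u}} (b : S₁ ⟶ S) (g₁ : S₁' ⟶ S₁) (b' : S₁' ⟶ S'), IsPullback b' g₁ g b → PtAcyclic g₁ n

theorem UPtAcyclic.baseChange {S' S S₁ S₁' : Scheme.{u}} {g : S' ⟶ S} {n : ℕ} (hg : UPtAcyclic g n) {b : S₁ ⟶ S}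
    {g₁ : S₁' ⟶ S₁} {b' : S₁' ⟶ S'} (sq : IsPullback b' g₁ g b) : UPtAcyclic g₁ n :=
  fun b₂ g₂ b₂' sq₂ => hg (b₂ ≫ b) g₂ (b₂' ≫ b') (sq₂.paste_horiz sq)

theorem UPtAcyclic.self {S' S : Scheme.{u}} {g : S' ⟶ S} {n : ℕ} (hg : UPtAcyclic g n) : PtAcyclic g n :=
  hg (𝟙 S) g (𝟙 S') IsPullback.of_id_fst

variable {S' S : Scheme.{u}} {g : S' ⟶ S} {n : ℕ}

theorem isIso_bcQ_zero [Smooth g] {X X' : Scheme.{u}} (f : X ⟶ S) [QuasiCompact f] [QuasiSeparated f]
    (f' : X' ⟶ S') (g' : X' ⟶ X) (h : IsPullback g' f' f g) [PreservesFiniteLimits (EtCoh.pull g')]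
    (F : EtCoh.Ab X) : IsIso (EtBC.bcQ f g f' g' h.w 0 F) := by
  haveI := StrictLocLib.isIso_baseChange0_of_smooth f g f' g' h F
  haveI : PreservesFiniteLimits (EtCoh.push f) :=
    (EtCoh.pullPushAdj f).rightAdjoint_preservesLimits.{0, 0}.preservesFiniteLimits
  haveI : PreservesFiniteLimits (EtCoh.push f') :=
    (EtCoh.pullPushAdj f').rightAdjoint_preservesLimits.{0, 0}.preservesFiniteLimits
  haveI : IsIso ((EtCoh.pull g).map ((EtCoh.push f).toRightDerivedZero.app F) ≫ EtBC.bcQ f g f' g' h.w 0 F) := by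
    rw [EtBC.bcQ_zero_compat f g f' g' h.w F]
    infer_instance
  exact IsIso.of_isIso_comp_left ((EtCoh.pull g).map ((EtCoh.push f).toRightDerivedZero.app F)) _

/-- A sheaf killed by `n` embeds in one killed by `n` which is acyclic for `f` before and after base change. -/
theorem exists_mono_acyclic [Smooth g] (hg : UPtAcyclic g n) {X X' : Scheme.{u}} [CompactSpace X]
    [QuasiSeparatedSpace X] (f : X ⟶ S) [QuasiCompact f] [QuasiSeparated f] (f' : X' ⟶ S') (g' : X' ⟶ X)
    (h : IsPullback g' f' f g) (F : EtCoh.Ab X) (hF : EtCoh.KilledBy n F) :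
    ∃ (M : EtCoh.Ab X) (a : F ⟶ M), Mono a ∧ EtCoh.KilledBy n M ∧ ∀ q : ℕ,
      IsZero ((EtCoh.Rpush f (q + 1)).obj M) ∧
        IsZero ((EtCoh.Rpush f' (q + 1)).obj ((EtCoh.pull g').obj M)) := by
  obtain ⟨T, p, hT, hp, _⟩ := exists_algFields_cover X
  haveI := hp
  haveI : QuasiCompact p := quasiCompact_of_compactSpace p
  haveI : QuasiSeparated p := inferInstance
  let N := (EtCoh.pull p).obj F
  have hN : EtCoh.KilledBy n N := PBCLib.killedBy_pull p hF
  haveI : Smooth g' := MorphismProperty.of_isPullback h.flip inferInstance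
  let T' := pullback p g'
  let p' : T' ⟶ X' := pullback.snd p g'
  let b : T' ⟶ T := pullback.fst p g'
  have sq : IsPullback b p' p g' := IsPullback.of_hasPullback p g'
  refine ⟨(EtCoh.push p).obj N, (EtCoh.pullPushAdj p).unit.app F, EtPtsLib.mono_unit_of_surjective p F,
    CompBCLib.killedBy_push p hN, fun q => ⟨?_, ?_⟩⟩
  · exact isZero_Rpush_push p f N (fun j => hT.isZero_Rpush p N j) (hT.isZero_Rpush (p ≫ f) N q)
  · have hp' : ∀ j, IsZero ((EtCoh.Rpush p' (j + 1)).obj ((EtCoh.pull b).obj N)) := fun j =>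
      (UPtAcyclic.self (hg.baseChange h.flip)).algFields hT p p' b sq.flip N hN j
    have hc : IsZero ((EtCoh.Rpush (p' ≫ f') (q + 1)).obj ((EtCoh.pull b).obj N)) :=
      (UPtAcyclic.self hg).algFields hT (p ≫ f) (p' ≫ f') b (sq.paste_vert h).flip N hN q
    haveI := StrictLocLib.isIso_baseChange0_of_smooth p g' p' b sq N
    exact (isZero_Rpush_push p' f' _ hp' hc).of_iso
      ((EtCoh.Rpush f' (q + 1)).mapIso (asIso (EtCoh.baseChange0 p g' p' b sq.w N)))

theorem isIso_bcQ_of_uPtAcyclic [Smooth g] (hg : UPtAcyclic g n) {X X' : Scheme.{u}} [CompactSpace X]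
    [QuasiSeparatedSpace X] (f : X ⟶ S) [QuasiCompact f] [QuasiSeparated f] (f' : X' ⟶ S') (g' : X' ⟶ X)
    (h : IsPullback g' f' f g) [PreservesFiniteLimits (EtCoh.pull g')] :
    ∀ (q : ℕ) (F : EtCoh.Ab X), EtCoh.KilledBy n F → IsIso (EtBC.bcQ f g f' g' h.w q F) := by
  intro q
  induction q with
  | zero => exact fun F _ => isIso_bcQ_zero f f' g' h F
  | succ q ih =>
    intro F hF
    obtain ⟨M, a, ha, hM, hz⟩ := exists_mono_acyclic hg f f' g' h F hF
    haveI := ha
    haveI := Groth.Agent.S0101.result g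
    obtain ⟨hw, hm, hex⟩ := BCVertLib.mono_exact_of_acyclic f g f' g' h.w
      (S₀ := ShortComplex.mk a (cokernel.π a) (cokernel.condition a))
      { exact := ShortComplex.exact_cokernel a } q (hz q).1 (ih M hM)
      (ih _ (BCVertLib.killedBy_of_epi (cokernel.π a) hM))
    haveI := hm
    haveI : Epi (EtBC.bcQ f g f' g' h.w (q + 1) F) := hex.epi_f ((hz q).2.eq_of_tgt _ _)
    exact isIso_of_mono_of_epi _

/-- Base change along `g` for sheaves killed by `n` follows from acyclicity at geometric points. -/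
theorem bcKilled_of_uPtAcyclic [Smooth g] (hg : UPtAcyclic g n) : BCKilled g n := by
  intro X X' f _ _ f' g' h _ F hF q
  let 𝒲 := S.affineCover
  let V : 𝒲.I₀ → S.Etale := fun i => MorphismProperty.Over.mk ⊤ (𝒲.f i) inferInstance
  let U : 𝒲.I₀ → S'.Etale := fun i => MorphismProperty.Over.mk ⊤ (pullback.fst g (𝒲.f i)) inferInstance
  have hU : EtCoh.Covers U := fun x => by
    obtain ⟨i, y, hy⟩ := 𝒲.exists_eq (g x)
    obtain ⟨z, hz, -⟩ := Scheme.Pullback.exists_preimage_pullback (f := g) (g := 𝒲.f i) x y hy.symm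
    exact ⟨i, z, hz⟩
  refine BCVertLib.isIso_bcQ_of_local g f f' g' h F q U hU V (fun i => pullback.snd g (𝒲.f i))
    (fun i => pullback.condition.symm) (fun i => pullback f (𝒲.f i))
    (fun i => pullback (pullback.snd f (𝒲.f i)) (pullback.snd g (𝒲.f i)))
    (fun i => pullback.snd f (𝒲.f i)) (fun i => pullback.fst f (𝒲.f i)) (fun i => IsPullback.of_hasPullback f (𝒲.f i))
    (fun i => pullback.snd _ _) (fun i => pullback.fst _ _) (fun i => IsPullback.of_hasPullback _ _) fun i => ?_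
  haveI : IsAffine (𝒲.X i) := inferInstance
  let fi := pullback.snd f (𝒲.f i)
  haveI : CompactSpace ↥(pullback f (𝒲.f i)) := QuasiCompact.compactSpace_of_compactSpace fi
  haveI : QuasiSeparatedSpace ↥(pullback f (𝒲.f i)) := quasiSeparatedSpace_of_quasiSeparated fi
  haveI : Smooth (pullback.snd g (𝒲.f i)) := inferInstance
  exact isIso_bcQ_of_uPtAcyclic (hg.baseChange (IsPullback.of_hasPullback g (𝒲.f i))) fi _ _
    (IsPullback.of_hasPullback _ _) q _ (PBCLib.killedBy_pull _ hF)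

end Groth.Agent.SmoothBCLib
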