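import Groth.Agent.PBCLib.TorsBC
import Groth.Agent.AcycCompLib.Basic
import Groth.Agent.CdFieldLib.Support
import Groth.Agent.S8525

/-!
# Base change for `L`-torsion sheaves from base change for sheaves killed by an `L`-integer
-/

set_option autoImplicit false
set_option linter.style.haveILetI false
set_option backward.isDefEq.respectTransparency false
set_option backward.isDefEq.respectTransparency.types false
set_option maxHeartbeats 1000000

universe u

open CategoryTheory CategoryTheory.Limits AlgebraicGeometry Opposite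

noncomputable section

namespace Groth.Agent.SmoothBCLib

attribute [local instance] Groth.Agent.S0101.result

variable {X : Scheme.{u}} {L : Set ℕ}

theorem primesIn_mul {a b : ℕ} (ha : EtAcyc.PrimesIn L a) (hb : EtAcyc.PrimesIn L b) : EtAcyc.PrimesIn L (a * b) :=
  ⟨Nat.mul_pos ha.1 hb.1, fun q hq h => ((Nat.Prime.dvd_mul hq).1 h).elim (ha.2 q hq) (hb.2 q hq)⟩

/-- The subgroup of elements killed by an `L`-integer. -/
def lTorsionSubgroup (L : Set ℕ) (G : Type*) [AddCommGroup G] : AddSubgroup G where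
  carrier := {x | ∃ m, EtAcyc.PrimesIn L m ∧ m • x = 0}
  zero_mem' := ⟨1, ⟨Nat.one_pos, fun _ hq h => absurd (Nat.eq_one_of_dvd_one h) hq.ne_one⟩, smul_zero _⟩
  add_mem' := by
    rintro x y ⟨a, ha, hx⟩ ⟨b, hb, hy⟩
    exact ⟨a * b, primesIn_mul ha hb, by rw [nsmul_add, mul_nsmul x a b, hx, mul_nsmul' y a b, hy]; simp⟩
  neg_mem' := by
    rintro x ⟨a, ha, hx⟩
    exact ⟨a, ha, by rw [neg_nsmul, hx, neg_zero]⟩

/-- An `L`-torsion sheaf on which every `L`-integer is injective is zero. -/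
theorem isZero_of_lTorsion_of_mono_nsmul {A : EtCoh.Ab X} (hA : EtAcyc.IsLTorsion L A)
    (h : ∀ n : ℕ, EtAcyc.PrimesIn L n → Mono (n • 𝟙 A)) : IsZero A := by
  rw [EtPtsLib.isZero_iff_ab]
  intro Ω _ _ ξ
  haveI : Subsingleton ↑((EtCoh.stalk ξ).obj A) := subsingleton_of_forall_eq 0 fun b => by
    obtain ⟨n, hn, hb⟩ := (S8525.result L A).1 hA Ω ξ b
    apply (EtPtsLib.mono_iff_ab (n • 𝟙 A)).1 (h n hn) Ω ξ
    rw [PBCLib.stalk_nsmul_id, hb, map_zero]
  exact AddCommGrpCat.isZero_of_subsingleton _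

/-- An `L`-torsion sheaf embeds in an `L`-torsion, `L`-divisible sheaf whose kernels of multiplication are those of an
injective sheaf. -/
theorem exists_lTorsion_divisible {F : EtCoh.Ab X} (hF : EtAcyc.IsLTorsion L F) :
    ∃ (I T : EtCoh.Ab X) (_ : Injective I) (a : F ⟶ T), Mono a ∧ EtAcyc.IsLTorsion L T ∧
      ∀ n : ℕ, EtAcyc.PrimesIn L n → ∃ (i : kernel (n • 𝟙 I : I ⟶ I) ⟶ T) (w : i ≫ (n • 𝟙 T) = 0),
        (ShortComplex.mk i (n • 𝟙 T) w).ShortExact := by
  let I := Injective.under F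
  haveI : Injective I := inferInstanceAs (Injective (Injective.under F))
  let K : {m : ℕ // EtAcyc.PrimesIn L m} → EtCoh.Ab X := fun m => kernel (m.1 • 𝟙 I : I ⟶ I)
  let φ : ∐ K ⟶ I := Sigma.desc fun m => kernel.ι (m.1 • 𝟙 I : I ⟶ I)
  let π := cokernel.π φ
  let T := kernel π
  let t : T ⟶ I := kernel.ι π
  have hι : ∀ n : ℕ, EtAcyc.PrimesIn L n → kernel.ι (n • 𝟙 I : I ⟶ I) ≫ π = 0 := fun n hn => by
    rw [show kernel.ι (n • 𝟙 I : I ⟶ I) = Sigma.ι K ⟨n, hn⟩ ≫ φ from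
      (Sigma.ι_desc (fun j => kernel.ι (j.1 • 𝟙 I : I ⟶ I)) (⟨n, hn⟩ : {m : ℕ // EtAcyc.PrimesIn L m})).symm,
      Category.assoc, cokernel.condition, comp_zero]
  have hmem : ∀ (Ω : Type u) [Field Ω] [IsSepClosed Ω] (ξ : Spec (CommRingCat.of Ω) ⟶ X)
      (y : (EtCoh.stalk ξ).obj I), (∃ m, EtAcyc.PrimesIn L m ∧ m • y = 0) → ∃ z, (EtCoh.stalk ξ).map t z = y := by
    intro Ω _ _ ξ y hy
    obtain ⟨n, hn, hy⟩ := hy
    obtain ⟨w, hw⟩ := (ShortComplex.ab_exact_iff _).1 ((EtPtsLib.exact_iff_ab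
      (ShortComplex.mk _ _ (kernel.condition (n • 𝟙 I : I ⟶ I)))).1
      (ShortComplex.exact_of_f_is_kernel _ (kernelIsKernel _)) Ω ξ) y ((PBCLib.stalk_nsmul_id I n ξ y).trans hy)
    refine ⟨(EtCoh.stalk ξ).map (kernel.lift π _ (hι n hn)) w, ?_⟩
    rw [← ConcreteCategory.comp_apply, ← Functor.map_comp, kernel.lift_ι]
    exact hw
  have hinj : ∀ (Ω : Type u) [Field Ω] [IsSepClosed Ω] (ξ : Spec (CommRingCat.of Ω) ⟶ X),
      Function.Injective ((EtCoh.stalk ξ).map t) := fun Ω _ _ ξ => (EtPtsLib.mono_iff_ab t).1 inferInstance Ω ξ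
  have hφ : ∀ (Ω : Type u) [Field Ω] [IsSepClosed Ω] (ξ : Spec (CommRingCat.of Ω) ⟶ X)
      (w : (EtCoh.stalk ξ).obj (∐ K)), ∃ m, EtAcyc.PrimesIn L m ∧ m • (EtCoh.stalk ξ).map φ w = 0 := by
    intro Ω _ _ ξ w
    let G := (EtCoh.stalk ξ).obj I
    let q : G ⟶ AddCommGrpCat.of (↑G ⧸ lTorsionSubgroup L ↑G) := AddCommGrpCat.ofHom (QuotientAddGroup.mk' _)
    have h0 : (EtCoh.stalk ξ).map φ ≫ q = 0 := by
      refine (isColimitOfPreserves (EtCoh.stalk ξ) (colimit.isColimit (Discrete.functor K))).hom_ext fun ⟨m⟩ => ?_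
      refine AddCommGrpCat.hom_ext (AddMonoidHom.ext fun x => ?_)
      show q ((EtCoh.stalk ξ).map φ ((EtCoh.stalk ξ).map (Sigma.ι K m) x)) = 0
      rw [← ConcreteCategory.comp_apply ((EtCoh.stalk ξ).map (Sigma.ι K m)), ← Functor.map_comp, Sigma.ι_desc]
      refine (QuotientAddGroup.eq_zero_iff _).2 ⟨m.1, m.2, ?_⟩
      rw [← PBCLib.stalk_nsmul_id, ← ConcreteCategory.comp_apply, ← Functor.map_comp, kernel.condition]
      haveI : (EtCoh.stalk ξ).Additive := Functor.additive_of_preserves_binary_products _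
      rw [Functor.map_zero]
      rfl
    exact (QuotientAddGroup.eq_zero_iff _).1 (ConcreteCategory.congr_hom h0 w)
  have ht : ∀ (Ω : Type u) [Field Ω] [IsSepClosed Ω] (ξ : Spec (CommRingCat.of Ω) ⟶ X)
      (z : (EtCoh.stalk ξ).obj T), ∃ m, EtAcyc.PrimesIn L m ∧ m • z = 0 := by
    intro Ω _ _ ξ z
    obtain ⟨w, hw⟩ := (ShortComplex.ab_exact_iff _).1 ((EtPtsLib.exact_iff_ab
      (ShortComplex.mk φ π (cokernel.condition φ))).1 (ShortComplex.exact_cokernel φ) Ω ξ)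
      ((EtCoh.stalk ξ).map t z) (by
        refine (ConcreteCategory.comp_apply _ _ _).symm.trans ?_
        haveI : (EtCoh.stalk ξ).Additive := Functor.additive_of_preserves_binary_products _
        erw [← Functor.map_comp, kernel.condition, Functor.map_zero]
        rfl)
    obtain ⟨n, hn, hn0⟩ : ∃ m, EtAcyc.PrimesIn L m ∧ m • (EtCoh.stalk ξ).map t z = 0 := hw ▸ hφ Ω ξ w
    exact ⟨n, hn, hinj Ω ξ (by rw [map_nsmul, hn0, map_zero])⟩
  have ha : Injective.ι F ≫ π = 0 := PBCLib.eq_zero_of_stalk _ fun Ω _ _ ξ x => by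
    obtain ⟨z, hz⟩ := hmem Ω ξ ((EtCoh.stalk ξ).map (Injective.ι F) x)
      (by obtain ⟨m, hm, h0⟩ := (S8525.result L F).1 hF Ω ξ x
          exact ⟨m, hm, (map_nsmul _ m x).symm.trans ((congrArg _ h0).trans (map_zero _))⟩)
    haveI : (EtCoh.stalk ξ).Additive := Functor.additive_of_preserves_binary_products _
    rw [Functor.map_comp, ConcreteCategory.comp_apply, ← hz, ← ConcreteCategory.comp_apply, ← Functor.map_comp,
      kernel.condition, Functor.map_zero]
    rfl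
  refine ⟨I, T, inferInstance, kernel.lift π _ ha, mono_of_mono_fac (kernel.lift_ι π _ ha),
    (S8525.result L T).2 ht, fun n hn => ?_⟩
  let i := kernel.lift π _ (hι n hn)
  have hi : i ≫ t = kernel.ι (n • 𝟙 I : I ⟶ I) := kernel.lift_ι _ _ _
  have hw : i ≫ (n • 𝟙 T) = 0 := by
    rw [← cancel_mono t, zero_comp, Category.assoc, Preadditive.nsmul_comp, Category.id_comp,
      ← Category.comp_id t, ← Preadditive.comp_nsmul, ← Category.assoc, hi, kernel.condition]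
  haveI : Mono i := mono_of_mono_fac hi
  refine ⟨i, hw, ?_⟩
  haveI : Epi (n • 𝟙 T : T ⟶ T) := (EtPtsLib.epi_iff_ab (n • 𝟙 T : T ⟶ T)).2 fun Ω _ _ ξ z => by
    obtain ⟨x, hx⟩ := (EtPtsLib.epi_iff_ab (n • 𝟙 I : I ⟶ I)).1 (PBCLib.epi_nsmul_injective I hn.1) Ω ξ
      ((EtCoh.stalk ξ).map t z)
    rw [PBCLib.stalk_nsmul_id] at hx
    obtain ⟨k, hk, hk0⟩ := ht Ω ξ z
    obtain ⟨z', hz'⟩ := hmem Ω ξ x ⟨k * n, primesIn_mul hk hn, by
      rw [mul_nsmul', hx, ← map_nsmul, hk0, map_zero]⟩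
    refine ⟨z', hinj Ω ξ ?_⟩
    rw [PBCLib.stalk_nsmul_id, map_nsmul, hz', hx]
  refine { exact := ?_ }
  refine ShortComplex.exact_of_f_is_kernel _ (KernelFork.IsLimit.ofι' i hw fun {W} k hk => ?_)
  have hk' : (k ≫ t) ≫ (n • 𝟙 I : I ⟶ I) = 0 := by
    rw [Preadditive.comp_nsmul, Category.comp_id, ← Preadditive.nsmul_comp, ← Category.comp_id k,
      ← Preadditive.comp_nsmul, hk, zero_comp]
  refine ⟨kernel.lift _ (k ≫ t) hk', ?_⟩
  rw [← cancel_mono t, Category.assoc, hi, kernel.lift_ι]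

/-- Higher direct images of a torsion sheaf with acyclic kernels of multiplication vanish. -/
theorem isZero_Rpush_of_divisible {X S : Scheme.{u}} (f : X ⟶ S) [QuasiCompact f] [QuasiSeparated f]
    {T : EtCoh.Ab X} (hT : EtAcyc.IsLTorsion L T) (j : ℕ)
    (h : ∀ n : ℕ, EtAcyc.PrimesIn L n → ∃ (K : EtCoh.Ab X) (i : K ⟶ T) (w : i ≫ (n • 𝟙 T) = 0),
      (ShortComplex.mk i (n • 𝟙 T) w).ShortExact ∧ IsZero ((EtCoh.Rpush f j).obj K)) :
    IsZero ((EtCoh.Rpush f j).obj T) := by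
  refine isZero_of_lTorsion_of_mono_nsmul (RpushTorsLib.isLTorsion_Rpush f T hT j) fun n hn => ?_
  obtain ⟨K, i, w, hS, hK⟩ := h n hn
  obtain ⟨Δ⟩ := RDerLib.nonempty_derivedLES (EtCoh.push f)
  haveI := (Δ.exact₂ _ hS j).mono_g (hK.eq_of_src _ _)
  have e : (EtCoh.Rpush f j).map (n • 𝟙 T) = n • 𝟙 ((EtCoh.Rpush f j).obj T) := by
    rw [Functor.map_nsmul, CategoryTheory.Functor.map_id]
  exact e ▸ (inferInstance : Mono ((EtCoh.Rpush f j).map (n • 𝟙 T)))

/-- **Base change for `L`-torsion sheaves follows from base change for sheaves killed by an `L`-integer.** -/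
theorem isIso_bcQ_lTorsion {X S X' S' : Scheme.{u}} (f : X ⟶ S) (g : S' ⟶ S) (f' : X' ⟶ S') (g' : X' ⟶ X)
    (w : g' ≫ f = f' ≫ g) [QuasiCompact f] [QuasiSeparated f] [QuasiCompact f'] [QuasiSeparated f']
    [PreservesFiniteLimits (EtCoh.pull g')]
    (h0 : ∀ F : EtCoh.Ab X, IsIso (EtBC.bcQ f g f' g' w 0 F))
    (hk : ∀ n : ℕ, EtAcyc.PrimesIn L n → ∀ K : EtCoh.Ab X, EtCoh.KilledBy n K → ∀ q, IsIso (EtBC.bcQ f g f' g' w q K)) :
    ∀ (q : ℕ) (F : EtCoh.Ab X), EtAcyc.IsLTorsion L F → IsIso (EtBC.bcQ f g f' g' w q F) := by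
  intro q
  induction q with
  | zero => exact fun F _ => h0 F
  | succ q ih =>
    intro F hF
    obtain ⟨I, T, hI, a, ha, hT, hseq⟩ := exists_lTorsion_divisible hF
    have hR : IsZero ((EtCoh.Rpush f (q + 1)).obj T) :=
      isZero_Rpush_of_divisible f hT (q + 1) fun n hn => by
        obtain ⟨i, hw, hS⟩ := hseq n hn
        exact ⟨_, i, hw, hS, BCVertLib.isZero_Rpush_kernel_nsmul f I hn.1 q⟩
    have hR' : IsZero ((EtCoh.Rpush f' (q + 1)).obj ((EtCoh.pull g').obj T)) :=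
      isZero_Rpush_of_divisible f' (AcycCompLib.isLTorsion_pull g' hT) (q + 1) fun n hn => by
        obtain ⟨i, hw, hS⟩ := hseq n hn
        have e : (EtCoh.pull g').map (n • 𝟙 T) = n • 𝟙 ((EtCoh.pull g').obj T) := by
          rw [Functor.map_nsmul, CategoryTheory.Functor.map_id]
        have hS' := hS.map_of_exact (EtCoh.pull g')
        have hK : EtCoh.KilledBy n (kernel (n • 𝟙 I : I ⟶ I)) := by
          rw [FLCLib.killedBy_iff, ← cancel_mono (kernel.ι (n • 𝟙 I : I ⟶ I)), zero_comp, Preadditive.nsmul_comp,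
            Category.id_comp, ← Category.comp_id (kernel.ι (n • 𝟙 I : I ⟶ I)), ← Preadditive.comp_nsmul]
          exact kernel.condition _
        haveI := hk n hn _ hK (q + 1)
        haveI : (EtCoh.pull g).Additive := (EtCoh.pullPushAdj g).left_adjoint_additive
        refine ⟨_, (EtCoh.pull g').map i, by rw [← e, ← Functor.map_comp, hw, Functor.map_zero], ?_,
          ((EtCoh.pull g).map_isZero (BCVertLib.isZero_Rpush_kernel_nsmul f I hn.1 q)).of_iso
            (asIso (EtBC.bcQ f g f' g' w (q + 1) _)).symm⟩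
        refine ShortComplex.shortExact_of_iso (S₁ := (ShortComplex.mk i (n • 𝟙 T) hw).map (EtCoh.pull g')) ?_ hS'
        exact ShortComplex.isoMk (Iso.refl _) (Iso.refl _) (Iso.refl _) (by simp) (by simp [e]; rfl)
    haveI := ha
    let S₀ := ShortComplex.mk a (cokernel.π a) (cokernel.condition a)
    have hC : EtAcyc.IsLTorsion L S₀.X₃ := CdFieldLib.isLTorsion_of_epi (cokernel.π a) hT
    obtain ⟨hz, hm, hex⟩ := BCVertLib.mono_exact_of_acyclic f g f' g' w (S₀ := S₀)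
      { exact := ShortComplex.exact_cokernel a } q hR (ih T hT) (ih _ hC)
    haveI := hm
    haveI : Epi (EtBC.bcQ f g f' g' w (q + 1) F) := hex.epi_f (hR'.eq_of_tgt _ _)
    exact isIso_of_mono_of_epi _

end Groth.Agent.SmoothBCLib
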