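import Groth.Agent.PBCLib.PullAssoc
import Groth.Agent.CompBCLib.Killed
import Groth.Agent.CompBCLib.Via

/-!
# Functoriality of the relative pullback maps
-/

set_option autoImplicit false
set_option linter.style.haveILetI false
set_option backward.isDefEq.respectTransparency false
set_option backward.isDefEq.respectTransparency.types false
set_option maxHeartbeats 1000000

universe u

open CategoryTheory CategoryTheory.Limits AlgebraicGeometry Opposite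

noncomputable section

namespace Groth.Agent.SmoothBCLib

attribute [local instance] Groth.Agent.S0101.result

variable {A B C D : Scheme.{u}}

/-- Relative pullbacks compose. -/
theorem via_comp (a : B ⟶ A) (b : C ⟶ B) (c : D ⟶ C) (n₁ : C ⟶ A) (w₁ : b ≫ a = n₁) (n₂ : D ⟶ B)
    (w₂ : c ≫ b = n₂) (m : D ⟶ A) (w₃ : n₂ ≫ a = m) (w₄ : c ≫ n₁ = m) (F : EtCoh.Ab A) (q : ℕ)
    (x : EtCoh.H B ((EtCoh.pull a).obj F) q) :
    EtCore.HpullVia c n₁ m w₄ F q (EtCore.HpullVia b a n₁ w₁ F q x) = EtCore.HpullVia n₂ a m w₃ F q x := by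
  simp only [CompBCLib.HpullVia_eq]
  rw [CompBCLib.Hpull_map c]
  have e : Sheaf.H.map ((EtLimLib.comparePull b c n₂ w₂).app ((EtCoh.pull a).obj F)) q
      (EtCore.Hpull n₂ ((EtCoh.pull a).obj F) q x) =
      EtCore.Hpull c _ q (EtCore.Hpull b ((EtCoh.pull a).obj F) q x) :=
    congrFun (AcycCompLib.Hpull_comp b c n₂ w₂ ((EtCoh.pull a).obj F) q) x
  refine (congrArg (fun z => Sheaf.H.map (PBCLib.cp n₁ c m w₄ F).hom q
    (Sheaf.H.map ((EtCoh.pull c).map (PBCLib.cp a b n₁ w₁ F).hom) q z)) e.symm).trans ?_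
  refine ((congrArg _ (CompBCLib.H_map_map _ _ q _)).trans (CompBCLib.H_map_map _ _ q _)).trans ?_
  refine congrArg (fun k => Sheaf.H.map k q (EtCore.Hpull n₂ ((EtCoh.pull a).obj F) q x)) ?_
  rw [← PBCLib.cp_inv b c n₂ w₂ ((EtCoh.pull a).obj F)]
  show (_ ≫ (EtCoh.pull c).map (PBCLib.cp a b n₁ w₁ F).hom) ≫ (PBCLib.cp n₁ c m w₄ F).hom = _
  rw [Category.assoc, PBCLib.cp_assoc a b c n₁ w₁ n₂ w₂ m w₃ w₄ F]
  exact Iso.inv_hom_id_assoc _ _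

/-- The relative pullback is bijective iff the pullback is. -/
theorem bijective_via_iff (t : B ⟶ A) (f : C ⟶ B) (m : C ⟶ A) (w : f ≫ t = m) (F : EtCoh.Ab A) (q : ℕ) :
    (Function.Bijective (EtCore.HpullVia f t m w F q) ↔ Function.Bijective (EtCore.Hpull f ((EtCoh.pull t).obj F) q)) ∧
    (Function.Injective (EtCore.HpullVia f t m w F q) ↔ Function.Injective (EtCore.Hpull f ((EtCoh.pull t).obj F) q)) := by
  have h := ConcreteCategory.bijective_of_isIso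
    ((EtCoh.HF C q).map (((EtCore.pullComp f t).symm ≪≫ EtCore.pullCongr w).app F).hom)
  exact ⟨Function.Bijective.of_comp_iff' h _, Function.Injective.of_comp_iff h.1 _⟩

/-- The change of base of the relative pullback. -/
def rebase (a : B ⟶ A) (v : C ⟶ B) (m : C ⟶ A) (w : v ≫ a = m) (F : EtCoh.Ab A) (q : ℕ) :
    EtCoh.H C ((EtCoh.pull v).obj ((EtCoh.pull a).obj F)) q →+ EtCoh.H C ((EtCoh.pull m).obj F) q :=
  ((EtCoh.HF C q).map (PBCLib.cp a v m w F).hom).hom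

theorem bijective_rebase (a : B ⟶ A) (v : C ⟶ B) (m : C ⟶ A) (w : v ≫ a = m) (F : EtCoh.Ab A) (q : ℕ) :
    Function.Bijective (rebase a v m w F q) :=
  ConcreteCategory.bijective_of_isIso ((EtCoh.HF C q).map (PBCLib.cp a v m w F).hom)

/-- Relative pullbacks commute with the change of base. -/
theorem rebase_via (a : B ⟶ A) (b : C ⟶ B) (c : D ⟶ C) (n₁ : C ⟶ A) (w₁ : b ≫ a = n₁) (n₂ : D ⟶ B)
    (w₂ : c ≫ b = n₂) (m : D ⟶ A) (w₃ : n₂ ≫ a = m) (w₄ : c ≫ n₁ = m) (F : EtCoh.Ab A) (q : ℕ)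
    (x : EtCoh.H C ((EtCoh.pull b).obj ((EtCoh.pull a).obj F)) q) :
    rebase a n₂ m w₃ F q (EtCore.HpullVia c b n₂ w₂ ((EtCoh.pull a).obj F) q x) =
      EtCore.HpullVia c n₁ m w₄ F q (rebase a b n₁ w₁ F q x) := by
  show Sheaf.H.map _ q _ = EtCore.HpullVia c n₁ m w₄ F q (Sheaf.H.map _ q x)
  simp only [CompBCLib.HpullVia_eq]
  rw [CompBCLib.Hpull_map c, CompBCLib.H_map_map]
  refine Eq.trans ?_ (CompBCLib.H_map_map _ _ q _).symm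
  exact congrArg (fun k => Sheaf.H.map k q (EtCore.Hpull c _ q x)) (PBCLib.cp_assoc a b c n₁ w₁ n₂ w₂ m w₃ w₄ F).symm

theorem via_zero (t : B ⟶ A) (f : C ⟶ B) (m : C ⟶ A) (w : f ≫ t = m) (F : EtCoh.Ab A) (q : ℕ) :
    EtCore.HpullVia f t m w F q 0 = 0 :=
  map_zero _

theorem rebase_zero (a : B ⟶ A) (v : C ⟶ B) (m : C ⟶ A) (w : v ≫ a = m) (F : EtCoh.Ab A) (q : ℕ) :
    rebase a v m w F q 0 = 0 :=
  map_zero _

theorem via_eq_zero_of (t : B ⟶ A) (f : C ⟶ B) (m : C ⟶ A) (w : f ≫ t = m) (F : EtCoh.Ab A) (q : ℕ)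
    {x : EtCoh.H B ((EtCoh.pull t).obj F) q} {y : EtCoh.H C ((EtCoh.pull m).obj F) q} (hx : x = 0)
    (e : EtCore.HpullVia f t m w F q x = y) : y = 0 := by
  subst hx e
  exact via_zero t f m w F q

theorem rebase_inj_zero (a : B ⟶ A) (v : C ⟶ B) (m : C ⟶ A) (w : v ≫ a = m) (F : EtCoh.Ab A) (q : ℕ)
    {x : EtCoh.H C ((EtCoh.pull v).obj ((EtCoh.pull a).obj F)) q} (h : rebase a v m w F q x = 0) : x = 0 :=
  (bijective_rebase a v m w F q).1 (h.trans (map_zero _).symm)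

theorem rebase_via_zero (a : B ⟶ A) (b : C ⟶ B) (c : D ⟶ C) (n₂ : D ⟶ B) (w₂ : c ≫ b = n₂) (m : D ⟶ A)
    (w₃ : n₂ ≫ a = m) (F : EtCoh.Ab A) (q : ℕ)
    {x : EtCoh.H C ((EtCoh.pull b).obj ((EtCoh.pull a).obj F)) q}
    (h : EtCore.Hpull c ((EtCoh.pull b).obj ((EtCoh.pull a).obj F)) q x = 0) :
    rebase a n₂ m w₃ F q (EtCore.HpullVia c b n₂ w₂ ((EtCoh.pull a).obj F) q x) = 0 := by
  rw [CompBCLib.HpullVia_eq, h, map_zero, map_zero]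

/-- A class from a stage dying on the limit dies after the change of base. -/
theorem h0_step {A B Bj Pj Cl Pl : Scheme.{u}} (a : B ⟶ A) (b : Pj ⟶ B) (T : Bj ⟶ A) (p : Pj ⟶ Bj) (v : Pl ⟶ Pj)
    (n₁ : Pj ⟶ A) (w₁ : b ≫ a = n₁) (w₁' : p ≫ T = n₁) (n₂ : Pl ⟶ B) (w₂ : v ≫ b = n₂)
    (cj : Cl ⟶ Bj) (r : Pl ⟶ Cl) (hsq : v ≫ p = r ≫ cj) (u₀ : Cl ⟶ A) (hu : cj ≫ T = u₀)
    (M : Pl ⟶ A) (w₃ : n₂ ≫ a = M) (hM : r ≫ u₀ = M) (F : EtCoh.Ab A) (q : ℕ)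
    {x : EtCoh.H Pj ((EtCoh.pull b).obj ((EtCoh.pull a).obj F)) q} {η : EtCoh.H Bj ((EtCoh.pull T).obj F) q}
    (hξ : rebase a b n₁ w₁ F q x = EtCore.HpullVia p T n₁ w₁' F q η)
    (hη : EtCore.HpullVia r u₀ M hM F q (EtCore.HpullVia cj T u₀ hu F q η) = 0) :
    EtCore.HpullVia v b n₂ w₂ ((EtCoh.pull a).obj F) q x = 0 := by
  subst hM
  refine rebase_inj_zero a n₂ _ w₃ F q ?_
  have h4 : v ≫ n₁ = r ≫ u₀ := by rw [← w₁, ← Category.assoc, w₂, w₃]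
  rw [rebase_via a b v n₁ w₁ n₂ w₂ _ w₃ h4 F q x, hξ,
    via_comp T p v n₁ w₁' (r ≫ cj) hsq _ (by rw [Category.assoc, hu]) h4 F q η,
    ← via_comp T cj r u₀ hu (r ≫ cj) rfl _ (by rw [Category.assoc, hu]) rfl F q η]
  exact hη

/-- A class dying at a later stage of the pullback comes from a class dying at that stage. -/
theorem hk1_step {A B Bj Bk Pj Pk : Scheme.{u}} (a : B ⟶ A) (b : Pj ⟶ B) (T : Bj ⟶ A) (T' : Bk ⟶ Bj)
    (p : Pj ⟶ Bj) (p' : Pk ⟶ Bk) (v : Pk ⟶ Pj) (n₁ : Pj ⟶ A) (w₁ : b ≫ a = n₁) (w₁' : p ≫ T = n₁)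
    (hsq : v ≫ p = p' ≫ T') (T'' : Bk ⟶ A) (hT : T' ≫ T = T'') (n₂ : Pk ⟶ A) (w₂ : p' ≫ T'' = n₂)
    (F : EtCoh.Ab A) (q : ℕ) (hinj : Function.Injective (EtCore.HpullVia p' T'' n₂ w₂ F q))
    {x : EtCoh.H Pj ((EtCoh.pull b).obj ((EtCoh.pull a).obj F)) q} {η : EtCoh.H Bj ((EtCoh.pull T).obj F) q}
    (hξ : rebase a b n₁ w₁ F q x = EtCore.HpullVia p T n₁ w₁' F q η)
    (hx : EtCore.Hpull v ((EtCoh.pull b).obj ((EtCoh.pull a).obj F)) q x = 0) :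
    EtCore.HpullVia T' T T'' hT F q η = 0 := by
  subst w₂
  refine hinj (Eq.trans ?_ (via_zero _ _ _ _ _ _).symm)
  have h4 : v ≫ n₁ = p' ≫ T'' := by rw [← w₁', ← Category.assoc, hsq, Category.assoc, hT]
  rw [via_comp T T' p' T'' hT (p' ≫ T') rfl _ (by rw [Category.assoc, hT]) rfl F q η,
    ← via_comp T p v n₁ w₁' (p' ≫ T') hsq _ (by rw [Category.assoc, hT]) h4 F q η, ← hξ,
    ← rebase_via a b v n₁ w₁ (v ≫ b) rfl (p' ≫ T'') (by rw [Category.assoc, w₁, h4]) h4 F q x]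
  exact rebase_via_zero a b v (v ≫ b) rfl _ _ F q hx

/-- A preimage on a stage gives a preimage on the limit. -/
theorem surj_step {A B Bj Pj Cl Pl : Scheme.{u}} (a : B ⟶ A) (b : Pj ⟶ B) (T : Bj ⟶ A) (p : Pj ⟶ Bj) (v : Pl ⟶ Pj)
    (n₁ : Pj ⟶ A) (w₁ : b ≫ a = n₁) (w₁' : p ≫ T = n₁) (n₂ : Pl ⟶ B) (w₂ : v ≫ b = n₂)
    (cj : Cl ⟶ Bj) (r : Pl ⟶ Cl) (hsq : v ≫ p = r ≫ cj) (u₀ : Cl ⟶ A) (hu : cj ≫ T = u₀)
    (M : Pl ⟶ A) (w₃ : n₂ ≫ a = M) (hM : r ≫ u₀ = M) (F : EtCoh.Ab A) (q : ℕ)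
    {x : EtCoh.H Pj ((EtCoh.pull b).obj ((EtCoh.pull a).obj F)) q} {η : EtCoh.H Bj ((EtCoh.pull T).obj F) q}
    (hη : EtCore.HpullVia p T n₁ w₁' F q η = rebase a b n₁ w₁ F q x) :
    EtCore.HpullVia r u₀ M hM F q (EtCore.HpullVia cj T u₀ hu F q η) =
      rebase a n₂ M w₃ F q (EtCore.HpullVia v b n₂ w₂ ((EtCoh.pull a).obj F) q x) := by
  subst hM
  have h4 : v ≫ n₁ = r ≫ u₀ := by rw [← w₁, ← Category.assoc, w₂, w₃]
  rw [rebase_via a b v n₁ w₁ n₂ w₂ _ w₃ h4 F q x, ← hη,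
    via_comp T p v n₁ w₁' (r ≫ cj) hsq _ (by rw [Category.assoc, hu]) h4 F q η,
    via_comp T cj r u₀ hu (r ≫ cj) rfl _ (by rw [Category.assoc, hu]) rfl F q η]

end Groth.Agent.SmoothBCLib
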