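import Groth.Agent.SmoothBCLib.AlgFields
import Groth.Agent.StrictLocLib.Sections
import Groth.Agent.S0101
import Groth.Agent.EtPtsLib.GermEq
import Groth.Prelude.Def_EtCore
import Mathlib.Algebra.Homology.ShortComplex.ExactFunctor
import Mathlib.CategoryTheory.Abelian.RightDerived

/-!
# Direct images from schemes whose local rings are algebraically closed fields are exact
-/

set_option autoImplicit false
set_option linter.style.haveILetI false
set_option backward.isDefEq.respectTransparency false
set_option backward.isDefEq.respectTransparency.types false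
set_option maxHeartbeats 1000000
set_option synthInstance.maxHeartbeats 400000

universe u

open CategoryTheory CategoryTheory.Limits AlgebraicGeometry Opposite TopologicalSpace

noncomputable section

namespace Groth.Agent.SmoothBCLib

namespace AlgFields

variable {T : Scheme.{u}} (hT : AlgFields T)

include hT in
/-- Affine opens are closed. -/
theorem isClosed_affineOpen [QuasiSeparatedSpace T] (W : T.Opens) (hW : IsAffineOpen W) :
    IsClosed (W : Set T) := by
  haveI : CompactSpace W.toScheme := isCompact_iff_compactSpace.1 hW.isCompact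
  haveI : QuasiCompact W.ι := inferInstance
  have h : IsClosedMap W.ι := (isClosedMap_iff_specializingMap _).2
    (specializingMap_iff_stableUnderSpecialization_image.2 fun s _ a b hab ha => by
      have hb : b ∈ ({a} : Set T) := hab.mem_closed (hT.isClosed_singleton a) rfl
      rwa [Set.mem_singleton_iff.1 hb])
  simpa [Scheme.Opens.range_ι] using h.isClosed_range

include hT in
/-- Epimorphisms are surjective on global sections. -/
theorem sections_surjective [CompactSpace T] [QuasiSeparatedSpace T] {G G' : EtCoh.Ab T} (e : G ⟶ G') [Epi e] :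
    Function.Surjective (e.hom.app (op (EtCoh.top T))) := by
  intro s
  haveI : Sheaf.IsLocallySurjective e := (Sheaf.isLocallySurjective_iff_epi' _ e).2 inferInstance
  let R := Presheaf.imageSieve e.hom s
  have key : ∀ x : T, ∃ W : T.Opens, IsAffineOpen W ∧ x ∈ W ∧ R (EtPtsLib.openIncl (EtCoh.top T) W) := fun x => by
    obtain ⟨Y, f, y, hf, hy⟩ :=
      EtSplitLib.exists_member T R (Presheaf.imageSieve_mem T.smallEtaleTopology e.hom s) x
    haveI : Etale Y.hom := Y.prop
    obtain ⟨O, hO, σ, hσ, -⟩ := ZarEtLib.exists_local_section hT.isStrictlyHenselian_stalk (U := Y.left) Y.hom y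
    obtain ⟨W, hW, hxW, hWO⟩ := exists_isAffineOpen_mem_and_subset (X := T) (x := x) (U := O) (hy ▸ hO)
    refine ⟨W, hW, hxW, ?_⟩
    let k : EtPtsLib.openSub (EtCoh.top T) W ⟶ Y :=
      MorphismProperty.Over.homMk (T.homOfLE hWO ≫ σ) (by
        show (T.homOfLE hWO ≫ σ) ≫ Y.hom = W.ι ≫ 𝟙 T
        rw [Category.assoc, hσ, Category.comp_id]
        exact T.homOfLE_ι hWO)
    rw [(EtSplitLib.isTerminalTop T).hom_ext (EtPtsLib.openIncl (EtCoh.top T) W) (k ≫ f)]
    exact R.downward_closed hf k
  choose g hgA hgx hR using key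
  obtain ⟨A, hA⟩ := isCompact_univ.elim_finite_subcover (fun x : T => (g x : Set T)) (fun x => (g x).2)
    (fun x _ => Set.mem_iUnion.2 ⟨x, hgx x⟩)
  classical
  let n := A.card
  let a : Fin n → T := fun i => (A.equivFin.symm i).1
  let W : Fin n → T.Opens := fun i =>
    ⟨(g (a i) : Set T) \ ⋃ j : {j : Fin n // j < i}, (g (a j.1) : Set T),
      (g (a i)).2.sdiff (isClosed_iUnion_of_finite fun j => hT.isClosed_affineOpen _ (hgA _))⟩
  have hW : ∀ i, W i ≤ g (a i) := fun i x hx => hx.1
  choose t ht using fun i => hR (a i)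
  let ι : ∀ i, EtPtsLib.openSub (EtCoh.top T) (W i) ⟶ EtPtsLib.openSub (EtCoh.top T) (g (a i)) :=
    fun i => MorphismProperty.Over.homMk (T.homOfLE (hW i)) (by
      show T.homOfLE (hW i) ≫ (g (a i)).ι ≫ 𝟙 T = (W i).ι ≫ 𝟙 T
      simp)
  let FG : Sheaf T.smallEtaleTopology (Type (u + 1)) := (sheafCompose _ (forget AddCommGrpCat.{u + 1})).obj G
  let FG' : Sheaf T.smallEtaleTopology (Type (u + 1)) := (sheafCompose _ (forget AddCommGrpCat.{u + 1})).obj G'
  have hcov : ∀ x : T, ∃ i, x ∈ W i := fun x => by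
    have hx : ∃ i, x ∈ g (a i) := by
      obtain ⟨b, hbA, hb⟩ := Set.mem_iUnion₂.1 (hA (Set.mem_univ x))
      exact ⟨A.equivFin ⟨b, hbA⟩, by simpa [a] using hb⟩
    refine ⟨Fin.find _ hx, Fin.find_spec hx, fun h => ?_⟩
    obtain ⟨⟨j, hj⟩, hxj⟩ := Set.mem_iUnion.1 h
    exact not_le.2 hj (Fin.find_le_of_pos hx hxj)
  have hd : ∀ i j, i ≠ j → Disjoint (W i) (W j) := fun i j hij => by
    rw [← TopologicalSpace.Opens.coe_disjoint, Set.disjoint_left]
    intro x hxi hxj
    rcases lt_or_gt_of_ne hij with h | h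
    · exact hxj.2 (Set.mem_iUnion.2 ⟨⟨i, h⟩, hxi.1⟩)
    · exact hxi.2 (Set.mem_iUnion.2 ⟨⟨j, h⟩, hxj.1⟩)
  obtain ⟨t₀, ht₀⟩ := EtPtsLib.exists_glue FG (EtCoh.top T) W hd hcov fun i => G.obj.map (ι i).op (t i)
  refine ⟨t₀, EtPtsLib.sect_eq_of_cover FG' (EtCoh.top T) _ _ fun x => ?_⟩
  obtain ⟨i, hi⟩ := hcov x
  refine ⟨_, EtPtsLib.openIncl (EtCoh.top T) (W i), (⟨x, hi⟩ : (W i).toScheme), rfl, ?_⟩
  show G'.obj.map _ (e.hom.app _ t₀) = G'.obj.map _ s
  rw [← NatTrans.naturality_apply e.hom]
  have h3 : G.obj.map (EtPtsLib.openIncl (EtCoh.top T) (W i)).op t₀ = G.obj.map (ι i).op (t i) := ht₀ i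
  rw [h3, NatTrans.naturality_apply e.hom, ht i, ← ConcreteCategory.comp_apply, ← Functor.map_comp, ← op_comp,
    (EtSplitLib.isTerminalTop T).hom_ext (ι i ≫ EtPtsLib.openIncl (EtCoh.top T) (g (a i)))
      (EtPtsLib.openIncl (EtCoh.top T) (W i))]

include hT in
/-- Étale cohomology vanishes in positive degrees. -/
theorem subsingleton_H [CompactSpace T] [QuasiSeparatedSpace T] (F : EtCoh.Ab T) (q : ℕ) (hq : 0 < q) :
    Subsingleton (EtCoh.H T F q) :=
  EtSplitLib.subsingleton_H_of_sections_surjective T (fun e _ => hT.sections_surjective e) F q hq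

section Push

variable {X : Scheme.{u}} (p : T ⟶ X) [QuasiCompact p] [QuasiSeparated p]

include hT in
/-- Epimorphisms are surjective on the sections over preimages of affine étale schemes. -/
theorem surjective_app_bc (Z : X.Etale) [IsAffine Z.left] {G G' : EtCoh.Ab T} (e : G ⟶ G') [Epi e] :
    Function.Surjective (e.hom.app (op ((EtCoh.bc p).obj Z))) := by
  let V := (EtCoh.bc p).obj Z
  haveI : Etale V.hom := V.prop
  let zf : Z.left ⟶ X := Z.hom
  haveI : CompactSpace ↥Z.left := inferInstance
  haveI : QuasiSeparatedSpace ↥Z.left := inferInstance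
  haveI : CompactSpace ↥(pullback zf p) := QuasiCompact.compactSpace_of_compactSpace (pullback.fst zf p)
  haveI : QuasiSeparatedSpace ↥(pullback zf p) := quasiSeparatedSpace_of_quasiSeparated (pullback.fst zf p)
  haveI : CompactSpace ↥((𝟭 Scheme.{u}).obj V.left) := inferInstanceAs (CompactSpace ↥(pullback zf p))
  haveI : QuasiSeparatedSpace ↥((𝟭 Scheme.{u}).obj V.left) := inferInstanceAs (QuasiSeparatedSpace ↥(pullback zf p))
  haveI := Groth.Agent.S0101.result V.hom
  haveI : Epi ((EtCoh.pull V.hom).map e) := inferInstance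
  intro s
  let r := fun H : EtCoh.Ab T => StrictLocLib.restrSec (g := V.hom) (𝟙 V.left) (Category.id_comp _) H
  obtain ⟨t, ht⟩ := (hT.of_etale V.hom).sections_surjective ((EtCoh.pull V.hom).map e) (r G' s)
  obtain ⟨t', rfl⟩ := (StrictLocLib.bijective_restrSec_self V G).2 t
  refine ⟨t', (StrictLocLib.bijective_restrSec_self V G').1 ?_⟩
  exact (ConcreteCategory.congr_hom (StrictLocLib.restrSec_natural (g := V.hom) (𝟙 V.left) (Category.id_comp _) e) t').trans ht

include hT in
theorem preservesFiniteColimits_push : PreservesFiniteColimits (EtCoh.push p) := by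
  haveI : (EtCoh.push p).IsRightAdjoint := (EtCoh.pullPushAdj p).isRightAdjoint
  haveI : (EtCoh.push p).PreservesEpimorphisms := ⟨fun {G Q} φ _ => by
    haveI : Presheaf.IsLocallySurjective X.smallEtaleTopology ((EtCoh.push p).map φ).hom := by
      constructor
      intro V s
      refine (ZarEtLib.mem_iff V _).2 fun x => ?_
      obtain ⟨W, hW, hxW, -⟩ := exists_isAffineOpen_mem_and_subset (X := V.left) (x := x) (U := ⊤) trivial
      haveI : IsAffine (EtPtsLib.openSub V W).left := hW
      exact ⟨EtPtsLib.openSub V W, EtPtsLib.openIncl V W, ⟨x, hxW⟩,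
        hT.surjective_app_bc p (EtPtsLib.openSub V W) φ _, rfl⟩
    exact (Sheaf.isLocallySurjective_iff_epi' AddCommGrpCat.{u + 1} _).1 ‹_›⟩
  haveI : (EtCoh.push p).PreservesHomology := Functor.preservesHomology_of_preservesEpis_and_kernels _
  exact Functor.preservesFiniteColimits_of_preservesHomology _

include hT in
/-- Direct images have no higher derived functors. -/
theorem isZero_Rpush (G : EtCoh.Ab T) (q : ℕ) : IsZero ((EtCoh.Rpush p (q + 1)).obj G) := by
  haveI := hT.preservesFiniteColimits_push p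
  haveI : (EtCoh.push p).IsRightAdjoint := (EtCoh.pullPushAdj p).isRightAdjoint
  haveI : PreservesFiniteLimits (EtCoh.push p) := inferInstance
  let R := InjectiveResolution.of G
  refine IsZero.of_iso ?_ (R.isoRightDerivedObj (EtCoh.push p) (q + 1))
  change IsZero (HomologicalComplex.homology _ (q + 1))
  rw [← HomologicalComplex.exactAt_iff_isZero_homology]
  exact (R.cocomplex_exactAt_succ q).map (EtCoh.push p)

end Push

end AlgFields

end Groth.Agent.SmoothBCLib
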